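import Cfsg.Prelude.Def_Classical
import Cfsg.Agent.Lib.Recog.U6Cent.Basic

/-!
An involution `z` whose centralizer `H` has `J = O₂(H) = 2² × 2^{1+8}` and `H/J ≅ (3 × U₄(2)).2`, the
element `c` of order three permuting the three involutions `e i` of the four-group `[Z(J), c]`.
Interfaces of the proof.
-/

set_option autoImplicit false

namespace CfsgLib.Recog.Fi23Cent

open Subgroup Cfsg

/-- The facts on `H = C(z)`; `K` fixes every `e i` and `psi` identifies `K/J` with `SU₄(2)`. -/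
structure Setup (G : Type*) [Group G] (F : Type*) [Field F] [Fintype F] where
  hF : Fintype.card F = 4
  z : G
  e : Fin 3 → G
  c : G
  J : Subgroup G
  K : Subgroup G
  z_sq : z * z = 1
  z_ne : z ≠ 1
  e_sq : ∀ i, e i * e i = 1
  e_ne : ∀ i, e i ≠ 1
  e_ne_z : ∀ i, e i ≠ z
  e_inj : Function.Injective e
  e_mul : ∀ i, e i * e (i + 1) = e (i + 2)
  z_mem : z ∈ J
  e_mem : ∀ i, e i ∈ J
  J_le : J ≤ K
  K_le : K ≤ centralizer ({z} : Set G)
  J_normal : ∀ g ∈ centralizer ({z} : Set G), ∀ x ∈ J, g * x * g⁻¹ ∈ J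
  K_normal : ∀ g ∈ centralizer ({z} : Set G), ∀ x ∈ K, g * x * g⁻¹ ∈ K
  card_J : Nat.card J = 2048
  card_K : Nat.card K = 53084160
  card_H : Nat.card (centralizer ({z} : Set G)) = 318504960
  e_central : ∀ i, ∀ x ∈ J, x * e i = e i * x
  K_cent : ∀ i, K ≤ centralizer ({e i} : Set G)
  e_conj : ∀ g ∈ centralizer ({z} : Set G), ∀ i, ∃ j, g * e i * g⁻¹ = e j
  e_ker : ∀ g ∈ centralizer ({z} : Set G), (∀ i, g * e i * g⁻¹ = e i) → g ∈ K
  e_swap : ∀ i, ∃ g ∈ centralizer ({z} : Set G), g * e i * g⁻¹ = e i ∧ g * e (i + 1) * g⁻¹ = e (i + 2)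
  sq_or : ∀ x ∈ J, x * x = 1 ∨ x * x = z
  comm_or : ∀ x ∈ J, ∀ y ∈ J, x * y = y * x ∨ x * y = y * x * z
  center : ∀ x ∈ J, (∀ y ∈ J, x * y = y * x) → x = 1 ∨ x = z ∨ ∃ i, x = e i ∨ x = z * e i
  self_cent : centralizer ({z} : Set G) ⊓ centralizer (J : Set G) ≤ J
  c_mem : c ∈ centralizer ({z} : Set G)
  c_pow : c ^ 3 = 1
  c_rot : ∀ i, c * e i * c⁻¹ = e (i + 1)
  c_cent : ∀ h ∈ K, c * h * c⁻¹ * h⁻¹ ∈ J
  c_fix : ∀ x ∈ J, c * x * c⁻¹ = x → x = 1 ∨ x = z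
  psi : K →* SU 4 F 2
  psi_surj : Function.Surjective psi
  psi_ker : ∀ g : K, psi g = 1 ↔ (g : G) ∈ J
  outer_faithful : ∀ g ∈ centralizer ({z} : Set G), (∀ h ∈ K, g * h * g⁻¹ * h⁻¹ ∈ J) →
    ∃ n : ℕ, g * c ^ n ∈ J

namespace Setup

variable {G : Type*} [Group G] {F : Type*} [Field F] [Fintype F] (S : Setup G F)

/-- The three transposition candidates. -/
def d (i : Fin 3) : G := S.z * S.e i

/-- The four-group `[Z(J), c]`. -/
def W : Subgroup G := closure (Set.range S.e)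

/-- `z` commutes with none of its other conjugates under `C(u)`. -/
def IsoAt (u : G) : Prop :=
  ∀ g ∈ centralizer ({u} : Set G), Commute (g * S.z * g⁻¹) S.z → g * S.z * g⁻¹ = S.z

/-- `z` is isolated in the centralizer of each `d i`. -/
def IsoD : Prop := ∀ i, S.IsoAt (S.d i)

/-- `z` is isolated in the centralizer of each `e i`. -/
def IsoE : Prop := ∀ i, S.IsoAt (S.e i)

/-- `C(e i)` normalises `W` and `C(W)/W` is `PSU₆(2)`. -/
def U6 : Prop :=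
  (∀ i, ∀ g ∈ centralizer ({S.e i} : Set G), ∀ w ∈ S.W, g * w * g⁻¹ ∈ S.W) ∧
    ∃ π : centralizer (S.W : Set G) →* PSU 6 F 2, Function.Surjective π ∧
      ∀ p : centralizer (S.W : Set G), π p = 1 ↔ (p : G) ∈ S.W

/-- `g` fixes `z` or carries some `e` to some `e`. -/
def Tame (g : G) : Prop :=
  g ∈ centralizer ({S.z} : Set G) ∨ ∃ i j, g⁻¹ * S.e i * g = S.e j

end Setup

/-- Coordinates on `J` modulo its centre, with the action of all of `C(z)`. -/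
structure FData {G : Type*} [Group G] {F : Type*} [Field F] [Fintype F] (S : Setup G F) where
  vec : G → Fin 4 → F
  vec_mul : ∀ x ∈ S.J, ∀ y ∈ S.J, vec (x * y) = vec x + vec y
  vec_surj : ∀ v, ∃ x ∈ S.J, vec x = v
  vec_zero : ∀ x ∈ S.J, vec x = 0 ↔ ∀ y ∈ S.J, x * y = y * x
  sq_iff : ∀ x ∈ S.J, x * x = 1 ↔ hermForm 4 F 2 (vec x) (vec x) = 0
  comm_iff : ∀ x ∈ S.J, ∀ y ∈ S.J,
    x * y = y * x ↔ hermForm 4 F 2 (vec x) (vec y) + hermForm 4 F 2 (vec x) (vec y) ^ 2 = 0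
  act : G → (Fin 4 → F) → Fin 4 → F
  act_vec : ∀ g ∈ centralizer ({S.z} : Set G), ∀ x ∈ S.J, vec (g * x * g⁻¹) = act g (vec x)
  act_one : ∀ g ∈ centralizer ({S.z} : Set G), (∀ v, act g v = v) ↔ g ∈ S.J
  act_inner : ∀ g ∈ S.K, ∃ M : SU 4 F 2, ∀ v, act g v = Matrix.mulVec (slToMat 4 F M) v
  act_surj : ∀ M : SU 4 F 2, ∃ g ∈ S.K, ∀ v, act g v = Matrix.mulVec (slToMat 4 F M) v
  act_c : ∃ k : F, k ≠ 0 ∧ k ≠ 1 ∧ ∀ v, act S.c v = k • v
  act_outer : ∀ g ∈ centralizer ({S.z} : Set G), g ∉ S.K → ∀ i, g * S.e i * g⁻¹ = S.e i →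
    ∀ (k : F) v, act g (k • v) = k ^ 2 • act g v
  act_form : ∀ g ∈ centralizer ({S.z} : Set G), g ∉ S.K → ∀ i, g * S.e i * g⁻¹ = S.e i →
    ∀ v w, hermForm 4 F 2 (act g v) (act g w) = hermForm 4 F 2 v w ^ 2

/-- `g` acts on `J/Z(J)` as a transvection. -/
def FData.IsTransv {G : Type*} [Group G] {F : Type*} [Field F] [Fintype F] {S : Setup G F}
    (D : FData S) (g : G) : Prop :=
  ∃ v : Fin 4 → F, v ≠ 0 ∧ hermForm 4 F 2 v v = 0 ∧ ∀ x, D.act g x = U6Cent.transvec v x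

end CfsgLib.Recog.Fi23Cent
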