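import Cfsg.Agent.Lib.Recog.Fi23Cent.CoordBasic
import Cfsg.Agent.Lib.Recog.U6Cent.ModRed

/-!
Conjugation on a copy of `J/Z(J)`, and the exclusion of the reducible case by a fixed-point-free map
commuting with `SU₄(2)`.
-/

set_option autoImplicit false
set_option linter.unusedSectionVars false

/-! ### No fixed-point-free map commutes with the reducible module -/

namespace CfsgLib.Recog.U6Cent.Mod.RedCase

open Cfsg

variable {F : Type*} [Field F] [Fintype F] {V : Type*} [AddCommGroup V] {R : Rep F V} {X : Gens F}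

/-- A fixed-point-free injective map commuting with the group does not exist. -/
theorem no_fpf (D : RedCase R X) (m : AddMonoid.End V) (hinj : Function.Injective m)
    (hc : ∀ s v, m (R.ρ s v) = R.ρ s (m v)) (hf : ∀ v, m v = v → v = 0) : False := by
  classical
  have := R.finite
  have h4 := D.card_four (pc 0) (by decide)
  have hu := dot_unit (pc 0)
  obtain ⟨v, hv, hv0⟩ : ∃ v, R.P X (pc 0) v = v ∧ v ≠ 0 := by
    by_contra hno
    push Not at hno
    haveI : Subsingleton (R.Vc X (pc 0)) := ⟨fun a b => Subtype.ext ((hno a a.2).trans (hno b b.2).symm)⟩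
    have := Finite.card_le_one_iff_subsingleton.2 (inferInstance : Subsingleton (R.Vc X (pc 0)))
    omega
  have ht : ∀ a x, m (R.t X a x) = R.t X a (m x) := fun a x => hc _ x
  have hmv : R.P X (pc 0) (m v) = m v := by
    conv_rhs => rw [← hv]
    rw [R.P_apply, R.P_apply, map_add, R.pK_apply, R.pK_apply, R.pA_apply, R.pA_apply, map_sum, map_sum]
    simp only [ht]
  have hne : m v ≠ 0 := fun h => hv0 (hinj (h.trans (map_zero m).symm))
  obtain ⟨u, hu12, he⟩ : ∃ u : T, (u = unit (pc 0) ∨ u = unit (pc 0) + unit (pc 0)) ∧ m v = R.t X u v := by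
    rcases R.four_cases X (pc 0) h4 hu hv hv0 hmv with h | h | h | h
    · exact absurd h hne
    · exact absurd (hf v h) hv0
    · exact ⟨_, Or.inl rfl, h⟩
    · exact ⟨_, Or.inr rfl, h⟩
  let sv := R.ρ (X.swp 0 2) (R.ρ (X.swp 1 3) v)
  let g : T → T := fun a => Gens.sT 0 2 (Gens.sT 1 3 a)
  have hsv : R.P X (pc 0) sv = sv := by
    have e : sC 0 2 (sC 1 3 (pc 0)) = pc 0 := by decide +kernel
    conv_rhs => rw [show sv = R.ρ (X.swp 0 2) (R.ρ (X.swp 1 3) (R.P X (pc 0) v)) by rw [hv]]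
    rw [R.swp_P, R.swp_P, e]
  have hsv0 : sv ≠ 0 := fun h => hv0 (R.ρ_injective _ (R.ρ_injective _ (h.trans
    (by rw [map_zero, map_zero]))))
  have h1 : m sv = R.t X (g u) sv := by
    show m (R.ρ (X.swp 0 2) (R.ρ (X.swp 1 3) v)) = _
    rw [hc, hc, he, R.swp_t, R.swp_t]
  obtain ⟨w, hw⟩ : ∃ w : T, sv = R.t X w v := by
    rcases R.four_cases X (pc 0) h4 hu hv hv0 hsv with h | h | h | h
    · exact absurd h hsv0
    · exact ⟨0, by rw [R.t_zero, h]⟩
    · exact ⟨_, h⟩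
    · exact ⟨_, h⟩
  have h2 : m sv = R.t X u sv := by
    rw [hw, ht, he, ← R.t_add, ← R.t_add, add_comm]
  have h3 : R.t X (g u) sv = R.t X u sv := h1.symm.trans h2
  have key : ∀ a b : T, R.t X a sv = R.t X b sv → R.t X (a + (b + b)) sv = sv := fun a b h => by
    rw [add_comm, R.t_add, h, ← R.t_add, show b + b + b = 0 from funext fun k => by
      simp only [Pi.add_apply, Pi.zero_apply]
      exact (by decide : ∀ x : ZMod 3, x + x + x = 0) _, R.t_zero]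
  have hd : dot (pc 0) (g u + (u + u)) = 1 ∨ dot (pc 0) (u + (g u + g u)) = 1 := by
    rcases hu12 with rfl | rfl <;> decide +kernel
  rcases hd with h | h
  · exact hsv0 (R.fixed_P X _ h hsv (key _ _ h3))
  · exact hsv0 (R.fixed_P X _ h hsv (key _ _ h3.symm))

end CfsgLib.Recog.U6Cent.Mod.RedCase

namespace CfsgLib.Recog.Fi23Cent

open Subgroup Cfsg

variable {G : Type*} [Group G] {F : Type*} [Field F] [Fintype F]

/-- A copy of `J/Z(J)`. -/
structure JQuot (S : Setup G F) (V : Type*) [AddCommGroup V] where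
  /-- the projection -/
  p : G → V
  p_mul : ∀ x ∈ S.J, ∀ y ∈ S.J, p (x * y) = p x + p y
  p_surj : ∀ v, ∃ x ∈ S.J, p x = v
  p_zero : ∀ x ∈ S.J, p x = 0 ↔ ∀ y ∈ S.J, x * y = y * x

namespace JQuot

variable {S : Setup G F} {V : Type*} [AddCommGroup V] (Q : JQuot S V)

/-- A chosen lift. -/
noncomputable def lift (v : V) : G := (Q.p_surj v).choose

theorem lift_mem (v : V) : Q.lift v ∈ S.J := (Q.p_surj v).choose_spec.1

theorem p_lift (v : V) : Q.p (Q.lift v) = v := (Q.p_surj v).choose_spec.2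

theorem p_one : Q.p 1 = 0 := (Q.p_zero 1 S.J.one_mem).2 fun y _ => by rw [one_mul, mul_one]

theorem p_z : Q.p S.z = 0 :=
  (Q.p_zero _ S.z_mem).2 fun _ hy => (S.z_comm (S.J_le_cent hy)).symm

/-- The action by conjugation. -/
noncomputable def act (g : G) (v : V) : V := Q.p (g * Q.lift v * g⁻¹)

theorem act_p {g : G} (hg : g ∈ centralizer ({S.z} : Set G)) {x : G} (hx : x ∈ S.J) :
    Q.p (g * x * g⁻¹) = Q.act g (Q.p x) := by
  set r := Q.lift (Q.p x)
  have hr : r ∈ S.J := Q.lift_mem _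
  have hd : Q.p (r⁻¹ * x) = 0 := by
    have h1 : Q.p r⁻¹ + Q.p r = 0 := by rw [← Q.p_mul _ (inv_mem hr) _ hr, inv_mul_cancel, Q.p_one]
    rw [Q.p_mul _ (inv_mem hr) _ hx]
    rwa [show Q.p r = Q.p x from Q.p_lift _] at h1
  have hj : r⁻¹ * x ∈ S.J := mul_mem (inv_mem hr) hx
  have hd' : Q.p (g * (r⁻¹ * x) * g⁻¹) = 0 := by
    refine (Q.p_zero _ (S.J_normal g hg _ hj)).2 fun y hy => ?_
    have hy' : g⁻¹ * y * g ∈ S.J := by simpa using S.J_normal g⁻¹ (inv_mem hg) y hy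
    have h := (Q.p_zero _ hj).1 hd _ hy'
    calc g * (r⁻¹ * x) * g⁻¹ * y = g * (r⁻¹ * x * (g⁻¹ * y * g)) * g⁻¹ := by group
      _ = g * (g⁻¹ * y * g * (r⁻¹ * x)) * g⁻¹ := by rw [h]
      _ = y * (g * (r⁻¹ * x) * g⁻¹) := by group
  show Q.p (g * x * g⁻¹) = Q.p (g * r * g⁻¹)
  rw [show g * x * g⁻¹ = (g * r * g⁻¹) * (g * (r⁻¹ * x) * g⁻¹) by group,
    Q.p_mul _ (S.J_normal g hg r hr) _ (S.J_normal g hg _ hj), hd', add_zero]

theorem act_mul {g h : G} (hg : g ∈ centralizer ({S.z} : Set G)) (hh : h ∈ centralizer ({S.z} : Set G))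
    (v : V) : Q.act (g * h) v = Q.act g (Q.act h v) := by
  show Q.p (g * h * Q.lift v * (g * h)⁻¹) = Q.act g (Q.p (h * Q.lift v * h⁻¹))
  rw [← Q.act_p hg (S.J_normal h hh _ (Q.lift_mem v))]
  exact congrArg Q.p (by group)

theorem act_add {g : G} (hg : g ∈ centralizer ({S.z} : Set G)) (u v : V) :
    Q.act g (u + v) = Q.act g u + Q.act g v := by
  conv_lhs => rw [← Q.p_lift u, ← Q.p_lift v, ← Q.p_mul _ (Q.lift_mem u) _ (Q.lift_mem v)]
  rw [← Q.act_p hg (mul_mem (Q.lift_mem u) (Q.lift_mem v)),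
    show g * (Q.lift u * Q.lift v) * g⁻¹ = g * Q.lift u * g⁻¹ * (g * Q.lift v * g⁻¹) by group,
    Q.p_mul _ (S.J_normal g hg _ (Q.lift_mem u)) _ (S.J_normal g hg _ (Q.lift_mem v))]
  rfl

theorem act_J {g : G} (hg : g ∈ S.J) (v : V) : Q.act g v = v := by
  show Q.p (g * Q.lift v * g⁻¹) = v
  rcases S.conj_cases (Q.lift_mem v) hg with h | h <;> rw [h]
  · exact Q.p_lift v
  · rw [Q.p_mul _ (Q.lift_mem v) _ S.z_mem, Q.p_lift, Q.p_z, add_zero]

theorem act_id (v : V) : Q.act 1 v = v := Q.act_J S.J.one_mem v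

theorem act_inv {g : G} (hg : g ∈ centralizer ({S.z} : Set G)) (v : V) : Q.act g (Q.act g⁻¹ v) = v := by
  rw [← Q.act_mul hg (inv_mem hg), mul_inv_cancel, Q.act_id]

theorem act_injective {g : G} (hg : g ∈ centralizer ({S.z} : Set G)) : Function.Injective (Q.act g) :=
  fun u v h => by
    have := congrArg (Q.act g⁻¹) h
    rwa [← Q.act_mul (inv_mem hg) hg, ← Q.act_mul (inv_mem hg) hg, inv_mul_cancel, Q.act_id, Q.act_id] at this

theorem act_c_comm {k : G} (hk : k ∈ S.K) (v : V) : Q.act S.c (Q.act k v) = Q.act k (Q.act S.c v) := by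
  have hkc := S.K_le hk
  rw [← Q.act_mul S.c_mem hkc, ← Q.act_mul hkc S.c_mem,
    show S.c * k = S.c * k * S.c⁻¹ * k⁻¹ * (k * S.c) by group,
    Q.act_mul (S.J_le_cent (S.c_cent k hk)) (mul_mem hkc S.c_mem), Q.act_J (S.c_cent k hk)]

/-- `c` has no fixed vector. -/
theorem act_c_fix {v : V} (h : Q.act S.c v = v) : v = 0 := by
  obtain ⟨x, hx, rfl⟩ := Q.p_surj v
  rw [← Q.act_p S.c_mem hx] at h
  set y := S.c * x * S.c⁻¹ with hy
  have hyJ : y ∈ S.J := S.J_normal _ S.c_mem x hx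
  have hd : ∀ w ∈ S.J, x⁻¹ * y * w = w * (x⁻¹ * y) := by
    refine (Q.p_zero _ (mul_mem (inv_mem hx) hyJ)).1 ?_
    rw [Q.p_mul _ (inv_mem hx) _ hyJ, h, ← Q.p_mul _ (inv_mem hx) _ hx, inv_mul_cancel, Q.p_one]
  obtain ⟨w, hw, hzw⟩ : ∃ w ∈ S.W, x⁻¹ * y = w ∨ x⁻¹ * y = S.z * w := by
    rcases (S.central_iff (mul_mem (inv_mem hx) hyJ)).1 hd with h' | ⟨w, hw, e⟩
    · exact ⟨_, h', Or.inl rfl⟩
    · exact ⟨w, hw, Or.inr e⟩
  obtain ⟨w1, hw1, hw1e⟩ : ∃ w1 ∈ S.W, S.c * w1 * S.c⁻¹ = w * w1 := by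
    rcases S.mem_W.1 hw with rfl | ⟨i, rfl⟩
    · exact ⟨1, one_mem _, by group⟩
    · obtain ⟨k, hk⟩ := (by decide : ∀ i : Fin 3, ∃ k : Fin 3, i = k + 2) i
      subst hk
      refine ⟨_, S.e_mem_W k, ?_⟩
      rw [S.c_rot, ← S.e_mul k, S.e_comm k (k + 1), mul_assoc, S.e_sq, mul_one]
  have hx1 : x * w1 ∈ S.J := mul_mem hx (S.W_le_J hw1)
  have hw1c : ∀ a ∈ S.J, a * w1 = w1 * a := fun a ha => S.W_comm hw1 ha
  have hw2 : w * w = 1 := by
    rcases S.mem_W.1 hw with rfl | ⟨i, rfl⟩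
    exacts [one_mul 1, S.e_sq i]
  have hconj : S.c * (x * w1) * S.c⁻¹ = x * w1 ∨ S.c * (x * w1) * S.c⁻¹ = x * w1 * S.z := by
    have e : S.c * (x * w1) * S.c⁻¹ = x * (x⁻¹ * y) * (w * w1) := by
      rw [mul_inv_cancel_left, hy, ← hw1e]; group
    rw [e]
    rcases hzw with h' | h' <;> rw [h']
    · exact Or.inl (by rw [mul_assoc, ← mul_assoc w, hw2, one_mul])
    · refine Or.inr ?_
      rw [mul_assoc x, mul_assoc S.z, ← mul_assoc w, hw2, one_mul,
        ← S.z_comm (S.J_le_cent (S.W_le_J hw1)), mul_assoc]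
  have hfix : S.c * (x * w1) * S.c⁻¹ = x * w1 := by
    rcases hconj with h' | h'
    · exact h'
    exfalso
    have hzc : S.c * S.z * S.c⁻¹ = S.z := S.conj_z S.c_mem
    have e2 : S.c * (S.c * (S.c * (x * w1) * S.c⁻¹) * S.c⁻¹) * S.c⁻¹ = x * w1 := by
      calc _ = S.c ^ 3 * (x * w1) * (S.c ^ 3)⁻¹ := by rw [pow_succ, pow_two]; group
        _ = _ := by rw [S.c_pow, inv_one, one_mul, mul_one]
    have hcz : ∀ a, S.c * (a * S.z) * S.c⁻¹ = S.c * a * S.c⁻¹ * S.z := fun a => by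
      rw [show S.c * (a * S.z) * S.c⁻¹ = S.c * a * S.c⁻¹ * (S.c * S.z * S.c⁻¹) by group, hzc]
    rw [h', hcz, h', hcz, hcz, h', mul_assoc _ S.z S.z, S.z_sq, mul_one] at e2
    exact S.z_ne (mul_eq_left.1 e2)
  rcases S.c_fix _ hx1 hfix with h' | h'
  · refine (Q.p_zero x hx).2 fun a ha => ?_
    rw [eq_inv_of_mul_eq_one_left h']
    exact (S.W_comm (inv_mem hw1) ha).symm
  · refine (Q.p_zero x hx).2 fun a ha => ?_
    rw [eq_mul_inv_of_mul_eq h', mul_assoc, ← S.W_comm (inv_mem hw1) ha, ← mul_assoc,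
      ← S.z_comm (S.J_le_cent ha), mul_assoc]

end JQuot

end CfsgLib.Recog.Fi23Cent
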