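import Cfsg.Agent.Lib.Recog.Fi23Cent.CoordBar
import Cfsg.Agent.Lib.Recog.Fi23Cent.CoordQuot
import Cfsg.Agent.Lib.Recog.Fi22Cent.BarCoord

/-!
Coordinates on `J/Z(J)` with the semilinear action of `C(z)`.
-/

set_option autoImplicit false

namespace CfsgLib.Recog.Fi23Cent

open Subgroup Cfsg

variable {G : Type*} [Group G] [Finite G] {F : Type*} [Field F] [Fintype F]

namespace Setup

variable (S : Setup G F)

theorem J_le_Hs : S.J ≤ S.Hs := S.J_le.trans S.K_le_Hs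

/-- The image of an element of the stabiliser of `e 0`, and `1` elsewhere. -/
noncomputable def bar (x : G) : S.HBar :=
  open scoped _root_.Classical in if h : x ∈ S.Hs then S.projW ⟨x, h⟩ else 1

theorem bar_of_mem {x : G} (h : x ∈ S.Hs) : S.bar x = S.projW ⟨x, h⟩ := dif_pos h

theorem bar_mul {x y : G} (hx : x ∈ S.Hs) (hy : y ∈ S.Hs) : S.bar (x * y) = S.bar x * S.bar y := by
  rw [S.bar_of_mem hx, S.bar_of_mem hy, S.bar_of_mem (mul_mem hx hy), ← map_mul]; rfl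

theorem bar_inv {x : G} (hx : x ∈ S.Hs) : S.bar x⁻¹ = (S.bar x)⁻¹ := by
  rw [S.bar_of_mem hx, S.bar_of_mem (inv_mem hx), ← map_inv]; rfl

theorem bar_conj {g x : G} (hg : g ∈ S.Hs) (hx : x ∈ S.Hs) :
    S.bar (g * x * g⁻¹) = S.bar g * S.bar x * (S.bar g)⁻¹ := by
  rw [S.bar_mul (mul_mem hg hx) (inv_mem hg), S.bar_mul hg hx, S.bar_inv hg]

theorem bar_eq_one {x : G} (hx : x ∈ S.Hs) : S.bar x = 1 ↔ x ∈ S.W := by
  rw [S.bar_of_mem hx]; exact S.projW_eq_one _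

theorem bar_eq_z {x : G} (hx : x ∈ S.Hs) : S.bar x = S.bar S.z ↔ ∃ w ∈ S.W, x = S.z * w := by
  have hz : S.z ∈ S.Hs := S.J_le_Hs S.z_mem
  rw [eq_comm, ← inv_mul_eq_one, ← S.bar_inv hz, ← S.bar_mul (inv_mem hz) hx,
    S.bar_eq_one (mul_mem (inv_mem hz) hx)]
  exact ⟨fun h => ⟨_, h, by rw [mul_inv_cancel_left]⟩, by rintro ⟨w, hw, rfl⟩; rwa [inv_mul_cancel_left]⟩

theorem bar_comm {g : G} (hg : g ∈ S.Hs) : S.bar g ∈ centralizer ({S.bar S.z} : Set S.HBar) := by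
  have hz : S.z ∈ S.Hs := S.J_le_Hs S.z_mem
  rw [mem_centralizer_singleton_iff, ← S.bar_mul hg hz, ← S.bar_mul hz hg, S.z_comm (S.Hs_le hg)]

theorem bar_mem_map {A : Subgroup G} (hA : A ≤ S.Hs) {x : G} (hx : x ∈ A) :
    S.bar x ∈ (A.subgroupOf S.Hs).map S.projW := by
  rw [S.bar_of_mem (hA hx)]; exact mem_map_of_mem _ (mem_subgroupOf.2 hx)

theorem mem_map_bar {A : Subgroup G} {q : S.HBar} (hq : q ∈ (A.subgroupOf S.Hs).map S.projW) :
    ∃ x ∈ A, x ∈ S.Hs ∧ S.bar x = q := by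
  obtain ⟨x, hx, rfl⟩ := hq
  exact ⟨x, mem_subgroupOf.1 hx, x.2, S.bar_of_mem x.2⟩

theorem mem_of_bar {A : Subgroup G} (hW : S.W ≤ A) {g : G} (hg : g ∈ S.Hs)
    (h : S.bar g ∈ (A.subgroupOf S.Hs).map S.projW) : g ∈ A := by
  obtain ⟨x, hx, hxs, e⟩ := S.mem_map_bar h
  have h' : S.bar (x⁻¹ * g) = 1 := by rw [S.bar_mul (inv_mem hxs) hg, S.bar_inv hxs, e, inv_mul_cancel]
  have := mul_mem hx (hW ((S.bar_eq_one (mul_mem (inv_mem hxs) hg)).1 h'))
  rwa [mul_inv_cancel_left] at this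

/-- The conjugate fixing `e 0`. -/
theorem exists_pow_mem_Hs {g : G} (hg : g ∈ centralizer ({S.z} : Set G)) {i : Fin 3}
    (hi : g * S.e i * g⁻¹ = S.e i) : ∃ n : ℕ, S.c ^ n * g * (S.c ^ n)⁻¹ ∈ S.Hs := by
  refine ⟨3 - (i : ℕ), S.mem_Hs (mul_mem (mul_mem (S.c_pow_mem _) hg) (inv_mem (S.c_pow_mem _))) ?_⟩
  have h := S.c_pow_rot (3 - (i : ℕ)) i
  rw [show (⟨((i : ℕ) + (3 - (i : ℕ))) % 3, Nat.mod_lt _ (by norm_num)⟩ : Fin 3) = 0 from
    Fin.ext (show ((i : ℕ) + (3 - (i : ℕ))) % 3 = 0 by omega)] at h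
  set a := S.c ^ (3 - (i : ℕ))
  rw [← h, show a * g * a⁻¹ * (a * S.e i * a⁻¹) * (a * g * a⁻¹)⁻¹ = a * (g * S.e i * g⁻¹) * a⁻¹ by group, hi]

end Setup

omit [Fintype F] in
private theorem herm_smul (k : F) (v w : Fin 4 → F) :
    hermForm 4 F 2 (k • v) (k • w) = k ^ 3 * hermForm 4 F 2 v w := by
  simp only [hermForm, Pi.smul_apply, smul_eq_mul, Finset.mul_sum]
  exact Finset.sum_congr rfl fun i _ => by ring

/-- The coordinates. -/
theorem exists_fdata (S : Setup G F) : Nonempty (FData S) := by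
  classical
  obtain ⟨T, hTz, hTJ, hTH⟩ := S.hbarSetup
  obtain ⟨X⟩ := U6Cent.Mod.exists_gens T.hF
  have hzb : T.z = S.bar S.z := by rw [hTz, S.bar_of_mem]
  have hTJmem : ∀ {x}, x ∈ S.J → S.bar x ∈ T.J := fun h => by rw [hTJ]; exact S.bar_mem_map S.J_le_Hs h
  have hTHmem : ∀ {x}, x ∈ S.K → S.bar x ∈ T.H0 := fun h => by rw [hTH]; exact S.bar_mem_map S.K_le_Hs h
  have hcomm : ∀ {g}, g ∈ S.Hs → S.bar g ∈ centralizer ({T.z} : Set S.HBar) := fun h => by
    rw [hzb]; exact S.bar_comm h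
  have hzero : ∀ x ∈ S.J, (S.bar x = 1 ∨ S.bar x = T.z) ↔ ∀ y ∈ S.J, x * y = y * x := fun x hx => by
    rw [S.central_iff hx, S.bar_eq_one (S.J_le_Hs hx), hzb, S.bar_eq_z (S.J_le_Hs hx)]
  rcases T.rep.cases_of_dichotomy X with h | h
  · obtain ⟨N, hNz, hNJ, hNH⟩ := T.natData_full h
    have hcommN : ∀ {g}, g ∈ S.Hs → S.bar g ∈ centralizer ({N.z} : Set S.HBar) := fun h => hNz ▸ hcomm h
    have hJmem : ∀ {x}, x ∈ S.J → S.bar x ∈ N.J := fun h => hNJ ▸ hTJmem h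
    let Q : JQuot S (Fin 4 → F) :=
      { p := fun x => N.vec (S.bar x)
        p_mul := fun x hx y hy => by
          rw [S.bar_mul (S.J_le_Hs hx) (S.J_le_Hs hy)]
          exact N.vec_mul _ (hJmem hx) _ (hJmem hy)
        p_surj := fun v => by
          obtain ⟨q, hq, rfl⟩ := N.vec_surj v
          rw [hNJ, hTJ] at hq
          obtain ⟨x, hx, -, rfl⟩ := S.mem_map_bar hq
          exact ⟨x, hx, rfl⟩
        p_zero := fun x hx => by rw [N.vec_zero _ (hJmem hx), hNz]; exact hzero x hx }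
    have hN : ∀ {g}, g ∈ S.Hs → ∀ v, Q.act g v = N.act (S.bar g) v := fun {g} hg v => by
      obtain ⟨x, hx, rfl⟩ := Q.p_surj v
      rw [← Q.act_p (S.Hs_le hg) hx]
      show N.vec (S.bar (g * x * g⁻¹)) = N.act _ (N.vec (S.bar x))
      rw [S.bar_conj hg (S.J_le_Hs hx)]
      exact N.act_vec _ (hcommN hg) _ (hJmem hx)
    have hsurjK : ∀ M : SU 4 F 2, ∃ g ∈ S.K, ∀ v, Q.act g v = Matrix.mulVec (slToMat 4 F M) v := fun M => by
      obtain ⟨q, hq, hM⟩ := N.act_surj M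
      rw [hNH, hTH] at hq
      obtain ⟨x, hx, hxs, rfl⟩ := S.mem_map_bar hq
      exact ⟨x, hx, fun v => by rw [hN hxs, hM]⟩
    obtain ⟨k, hk⟩ : ∃ k : F, ∀ v, Q.act S.c v = k • v := by
      refine Fi22Cent.scalar_of_commutes X (Q.act_add S.c_mem) fun s v => ?_
      obtain ⟨g, hg, hgv⟩ := hsurjK s
      show Q.act S.c (Matrix.mulVec _ v) = Matrix.mulVec _ (Q.act S.c v)
      rw [← hgv, ← hgv, Q.act_c_comm hg]
    have hpow : ∀ (n : ℕ) v, Q.act (S.c ^ n) v = k ^ n • v := by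
      intro n
      induction n with
      | zero => intro v; rw [pow_zero, pow_zero, one_smul, Q.act_id]
      | succ n ih => intro v; rw [pow_succ', Q.act_mul S.c_mem (S.c_pow_mem n), ih, hk, smul_smul, pow_succ']
    let e1 : Fin 4 → F := Pi.single 0 1
    have he1 : e1 ≠ 0 := fun h => one_ne_zero (α := F) (by simpa [e1] using congrFun h 0)
    have hk0 : k ≠ 0 := fun h => he1 (Q.act_injective S.c_mem (by rw [hk, hk, h, zero_smul, zero_smul]))
    have hk1 : k ≠ 1 := fun h => he1 (Q.act_c_fix (by rw [hk, h, one_smul]))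
    have hk3 : k ^ 3 = 1 := by
      have h := hpow 3 e1
      rw [S.c_pow, Q.act_id] at h
      have h0 := congrFun h 0
      simp only [e1, Pi.smul_apply, Pi.single_eq_same, smul_eq_mul, mul_one] at h0
      exact h0.symm
    have hrel : ∀ g ∈ centralizer ({S.z} : Set G), g ∉ S.K → ∀ i, g * S.e i * g⁻¹ = S.e i →
        ∃ u : F, u ^ 3 = 1 ∧ ∃ h ∈ S.Hs, S.bar h ∉ N.H0 ∧ ∀ v, Q.act g v = u • N.act (S.bar h) v := by
      intro g hg hgK i hi
      obtain ⟨n, hn⟩ := S.exists_pow_mem_Hs hg hi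
      set a := S.c ^ n with ha
      have haz : a ∈ centralizer ({S.z} : Set G) := S.c_pow_mem n
      set h := a * g * a⁻¹ with hh
      have hnot : S.bar h ∉ N.H0 := fun hb => by
        rw [hNH, hTH] at hb
        have hK := S.mem_of_bar (S.W_le_J.trans S.J_le) hn hb
        have := S.K_normal _ (inv_mem haz) _ hK
        rw [show a⁻¹ * h * a⁻¹⁻¹ = g by rw [hh]; group] at this
        exact hgK this
      have hainv : ∀ v, Q.act a⁻¹ v = k ^ (2 * n) • v := fun v => by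
        rw [show a⁻¹ = S.c ^ (2 * n) from inv_eq_of_mul_eq_one_right (by
          rw [ha, ← pow_add, show n + 2 * n = 3 * n by ring, pow_mul, S.c_pow, one_pow]), hpow]
      have hu : k ^ n * (k ^ (2 * n)) = 1 := by
        rw [← pow_add, show n + 2 * n = 3 * n by ring, pow_mul, hk3, one_pow]
      refine ⟨k ^ n, by rw [← pow_mul, mul_comm, pow_mul, hk3, one_pow], h, hn, hnot, fun v => ?_⟩
      rw [show g = a⁻¹ * (h * a) by rw [hh]; group,
        Q.act_mul (inv_mem haz) (mul_mem (S.Hs_le hn) haz), Q.act_mul (S.Hs_le hn) haz, ha, hpow, ← ha,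
        hainv, hN hn, N.act_outer _ (hcommN hn) hnot, smul_smul]
      refine congrArg (· • _) ?_
      linear_combination (k ^ n) * hu
    refine ⟨{
      vec := Q.p, vec_mul := Q.p_mul, vec_surj := Q.p_surj, vec_zero := Q.p_zero
      sq_iff := fun x hx => by
        show _ ↔ hermForm 4 F 2 (N.vec (S.bar x)) (N.vec (S.bar x)) = 0
        rw [← N.sq_iff _ (hJmem hx), ← S.bar_mul (S.J_le_Hs hx) (S.J_le_Hs hx),
          S.bar_eq_one (mul_mem (S.J_le_Hs hx) (S.J_le_Hs hx))]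
        exact ⟨fun h => h ▸ one_mem _, fun h => (S.sq_or x hx).resolve_right fun e => S.z_not_mem_W (e ▸ h)⟩
      comm_iff := fun x hx y hy => by
        show _ ↔ hermForm 4 F 2 (N.vec (S.bar x)) (N.vec (S.bar y)) +
          hermForm 4 F 2 (N.vec (S.bar x)) (N.vec (S.bar y)) ^ 2 = 0
        rw [← N.comm_iff _ (hJmem hx) _ (hJmem hy)]
        refine ⟨fun h => by rw [← S.bar_mul (S.J_le_Hs hx) (S.J_le_Hs hy), h,
          S.bar_mul (S.J_le_Hs hy) (S.J_le_Hs hx)], fun h => ?_⟩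
        rcases S.comm_or x hx y hy with h' | h'
        · exact h'
        · exfalso
          have hz : S.z ∈ S.Hs := S.J_le_Hs S.z_mem
          rw [← S.bar_mul (S.J_le_Hs hx) (S.J_le_Hs hy), h',
            S.bar_mul (mul_mem (S.J_le_Hs hy) (S.J_le_Hs hx)) hz,
            ← S.bar_mul (S.J_le_Hs hy) (S.J_le_Hs hx), mul_eq_left, S.bar_eq_one hz] at h
          exact S.z_not_mem_W h
      act := Q.act, act_vec := fun g hg x hx => Q.act_p hg hx
      act_one := fun g hg => ⟨fun h => ?_, fun h => Q.act_J h⟩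
      act_inner := fun g hg => by
        obtain ⟨M, hM⟩ := N.act_inner _ (by rw [hNH]; exact hTHmem hg)
        exact ⟨M, fun v => by rw [hN (S.K_le_Hs hg), hM]⟩
      act_surj := hsurjK
      act_c := ⟨k, hk0, hk1, hk⟩
      act_outer := fun g hg hgK i hi a v => by
        obtain ⟨u, -, h, hh, hnot, e⟩ := hrel g hg hgK i hi
        rw [e, e, N.act_outer _ (hcommN hh) hnot, smul_smul, smul_smul, mul_comm]
      act_form := fun g hg hgK i hi v w => by
        obtain ⟨u, hu, h, hh, hnot, e⟩ := hrel g hg hgK i hi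
        rw [e, e, herm_smul, hu, one_mul, N.act_form _ (hcommN hh) hnot] }⟩
    have hgi : ∀ v, Q.act g⁻¹ v = v := fun v => by
      conv_lhs => rw [← h v]
      rw [← Q.act_mul (inv_mem hg) hg, inv_mul_cancel, Q.act_id]
    obtain ⟨n, hn⟩ := S.outer_faithful g hg fun x hx => by
      have hx' := S.K_le hx
      have hq : g * x * g⁻¹ * x⁻¹ ∈ S.K := mul_mem (S.K_normal g hg x hx) (inv_mem hx)
      have hqs : g * x * g⁻¹ * x⁻¹ ∈ S.Hs := S.K_le_Hs hq
      refine S.mem_of_bar S.W_le_J hqs ?_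
      rw [← hTJ, ← hNJ]
      refine (N.act_one _ (hcommN hqs)).1 fun v => ?_
      rw [← hN hqs, Q.act_mul (mul_mem (mul_mem hg hx') (inv_mem hg)) (inv_mem hx'),
        Q.act_mul (mul_mem hg hx') (inv_mem hg), hgi, Q.act_mul hg hx', h, Q.act_inv hx']
    have hkn : k ^ n = 1 := by
      have e := Q.act_J hn e1
      rw [Q.act_mul hg (S.c_pow_mem n), h, hpow] at e
      simpa [e1] using congrFun e 0
    have : Fact (Nat.Prime 3) := ⟨Nat.prime_three⟩
    have hn3 : n % 3 = 0 := Nat.mod_eq_zero_of_dvd ((orderOf_eq_prime hk3 hk1) ▸ orderOf_dvd_of_pow_eq_one hkn)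
    rwa [S.c_pow_one hn3, mul_one] at hn
  · exfalso
    let Q : JQuot S (Additive T.Vq) :=
      { p := fun x => T.pr (S.bar x)
        p_mul := fun x hx y hy => by
          rw [S.bar_mul (S.J_le_Hs hx) (S.J_le_Hs hy)]
          exact T.pr_mul (hTJmem hx) (hTJmem hy)
        p_surj := fun v => by
          obtain ⟨q, hq, rfl⟩ := T.exists_pr v
          rw [hTJ] at hq
          obtain ⟨x, hx, -, rfl⟩ := S.mem_map_bar hq
          exact ⟨x, hx, rfl⟩
        p_zero := fun x hx => by rw [T.pr_zero_iff (hTJmem hx)]; exact hzero x hx }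
    have hrho : ∀ s, ∃ g ∈ S.K, ∀ v, T.rep.ρ s v = Q.act g v := fun s => by
      have hs := T.sec_mem s
      rw [hTH] at hs
      obtain ⟨x, hx, hxs, e⟩ := S.mem_map_bar hs
      refine ⟨x, hx, fun v => ?_⟩
      obtain ⟨y, hy, rfl⟩ := Q.p_surj v
      rw [← Q.act_p (S.Hs_le hxs) hy]
      show T.Φ (T.sec s) (T.pr (S.bar y)) = T.pr (S.bar (x * y * x⁻¹))
      rw [T.Φ_pr _ (hTJmem hy), S.bar_conj hxs (S.J_le_Hs hy), e]
    refine h.no_fpf (AddMonoidHom.mk' (Q.act S.c) (Q.act_add S.c_mem)) (Q.act_injective S.c_mem)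
      (fun s v => ?_) fun v => Q.act_c_fix
    obtain ⟨g, hg, e⟩ := hrho s
    show Q.act S.c (T.rep.ρ s v) = T.rep.ρ s (Q.act S.c v)
    rw [e, e, Q.act_c_comm hg]

end CfsgLib.Recog.Fi23Cent
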