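import Cfsg.Agent.Lib.Recog.Fi23Cent.CoordQuot
import Cfsg.Agent.Lib.Recog.Fi22Cent.BarCoord

/-!
The stabiliser of `e 0` in `C(z)` modulo `W` satisfies the hypotheses of the recognition of `PSU₆(2)`.
-/

set_option autoImplicit false
set_option linter.unusedSectionVars false
set_option linter.style.haveILetI false

namespace CfsgLib.Recog.Fi23Cent

open Subgroup Cfsg
open scoped commutatorElement

variable {G : Type*} [Group G] [Finite G] {F : Type*} [Field F] [Fintype F]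

namespace Setup

variable (S : Setup G F)

/-- The stabiliser of `e 0` in `C(z)`. -/
def Hs : Subgroup G := centralizer ({S.z} : Set G) ⊓ centralizer ({S.e 0} : Set G)

theorem Hs_le : S.Hs ≤ centralizer ({S.z} : Set G) := inf_le_left

theorem K_le_Hs : S.K ≤ S.Hs := le_inf S.K_le (S.K_cent 0)

theorem Hs_fix {g : G} (hg : g ∈ S.Hs) : g * S.e 0 * g⁻¹ = S.e 0 := by
  rw [mem_centralizer_singleton_iff.1 (mem_inf.1 hg).2, mul_inv_cancel_right]

theorem mem_Hs {g : G} (hg : g ∈ centralizer ({S.z} : Set G)) (h : g * S.e 0 * g⁻¹ = S.e 0) : g ∈ S.Hs :=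
  mem_inf.2 ⟨hg, mem_centralizer_singleton_iff.2 (mul_inv_eq_iff_eq_mul.1 h)⟩

/-- `W` inside the stabiliser. -/
def Wh : Subgroup S.Hs := S.W.subgroupOf S.Hs

instance normal_Wh : S.Wh.Normal :=
  ⟨fun x hx g => mem_subgroupOf.2 (S.W_conj (S.Hs_le g.2) (mem_subgroupOf.1 hx))⟩

/-- The quotient. -/
abbrev HBar : Type _ := S.Hs ⧸ S.Wh

/-- The map to the quotient. -/
noncomputable def projW : S.Hs →* S.HBar := QuotientGroup.mk' S.Wh

theorem projW_eq_one (x : S.Hs) : S.projW x = 1 ↔ (x : G) ∈ S.W :=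
  (QuotientGroup.eq_one_iff x).trans mem_subgroupOf

theorem card_W : Nat.card S.W = 4 := by
  classical
  let f : Option (Fin 3) → S.W := fun o => o.elim 1 fun i => ⟨S.e i, S.e_mem_W i⟩
  have hf : Function.Bijective f := by
    refine ⟨?_, fun x => ?_⟩
    · rintro (_ | i) (_ | j) h
      · rfl
      · exact absurd (congrArg Subtype.val h).symm (S.e_ne j)
      · exact absurd (congrArg Subtype.val h) (S.e_ne i)
      · exact congrArg some (S.e_inj (congrArg Subtype.val h))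
    · rcases S.mem_W.1 x.2 with h | ⟨i, h⟩
      · exact ⟨none, Subtype.ext h.symm⟩
      · exact ⟨some i, Subtype.ext h.symm⟩
  rw [← Nat.card_eq_of_bijective f hf, Nat.card_eq_fintype_card, Fintype.card_option, Fintype.card_fin]

theorem card_Hs : Nat.card S.Hs = 106168320 := by
  classical
  let f : Fin 3 × S.Hs → centralizer ({S.z} : Set G) := fun p =>
    ⟨S.c ^ (p.1 : ℕ) * p.2, mul_mem (S.c_pow_mem _) (S.Hs_le p.2.2)⟩
  have hrot : ∀ p : Fin 3 × S.Hs, (f p : G) * S.e 0 * (f p : G)⁻¹ = S.e p.1 := fun p => by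
    show S.c ^ (p.1 : ℕ) * p.2 * S.e 0 * (S.c ^ (p.1 : ℕ) * p.2)⁻¹ = _
    rw [show S.c ^ (p.1 : ℕ) * p.2 * S.e 0 * (S.c ^ (p.1 : ℕ) * (p.2 : G))⁻¹ =
      S.c ^ (p.1 : ℕ) * ((p.2 : G) * S.e 0 * (p.2 : G)⁻¹) * (S.c ^ (p.1 : ℕ))⁻¹ by group, S.Hs_fix p.2.2,
      S.c_pow_rot]
    exact congrArg S.e (Fin.ext (by simp))
  have hf : Function.Bijective f := by
    refine ⟨fun p q h => ?_, fun g => ?_⟩
    · have hi : p.1 = q.1 := S.e_inj (by rw [← hrot p, h, hrot q])
      obtain ⟨i, a⟩ := p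
      obtain ⟨j, b⟩ := q
      subst hi
      exact Prod.ext rfl (Subtype.ext (mul_left_cancel (congrArg Subtype.val h)))
    · obtain ⟨i, hi⟩ := S.e_conj g g.2 0
      refine ⟨⟨i, ⟨(S.c ^ (i : ℕ))⁻¹ * g, S.mem_Hs (mul_mem (inv_mem (S.c_pow_mem _)) g.2) ?_⟩⟩,
        Subtype.ext (mul_inv_cancel_left _ _)⟩
      have e : S.c ^ (i : ℕ) * S.e 0 * (S.c ^ (i : ℕ))⁻¹ = S.e i := by
        rw [S.c_pow_rot]; exact congrArg S.e (Fin.ext (by simp))
      calc (S.c ^ (i : ℕ))⁻¹ * (g : G) * S.e 0 * ((S.c ^ (i : ℕ))⁻¹ * (g : G))⁻¹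
          = (S.c ^ (i : ℕ))⁻¹ * ((g : G) * S.e 0 * (g : G)⁻¹) * S.c ^ (i : ℕ) := by group
        _ = _ := by rw [hi, ← e]; group
  have h := Nat.card_eq_of_bijective f hf
  rw [Nat.card_prod, Nat.card_fin, S.card_H] at h
  omega

theorem card_map_projW (A : Subgroup G) (hA : A ≤ S.Hs) (hW : S.W ≤ A) :
    Nat.card A = 4 * Nat.card ((A.subgroupOf S.Hs).map S.projW) := by
  classical
  let φ := S.projW.comp (inclusion hA)
  have hr : φ.range = (A.subgroupOf S.Hs).map S.projW := by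
    rw [MonoidHom.range_comp, inclusion_range]
  have hk : φ.ker = S.W.subgroupOf A := by
    ext x
    rw [MonoidHom.mem_ker, mem_subgroupOf]
    exact S.projW_eq_one _
  have h := card_eq_card_quotient_mul_card_subgroup φ.ker
  rw [Nat.card_congr (QuotientGroup.quotientKerEquivRange φ).toEquiv, hr, hk,
    Nat.card_congr (subgroupOfEquivOfLe hW).toEquiv, S.card_W] at h
  rw [h, mul_comm]

/-- An element of the stabiliser centralising `J` modulo `W` lies in `J`. -/
theorem cent_mod_W {g : G} (hg : g ∈ S.Hs) (h : ∀ x ∈ S.J, g * x * g⁻¹ * x⁻¹ ∈ S.W) : g ∈ S.J := by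
  classical
  haveI := Fi22Cent.su_four_simple S.hF
  haveI : Finite (SU 4 F 2) := Finite.of_surjective _ S.psi_surj
  let M : Subgroup G :=
    { carrier := {a | a ∈ centralizer ({S.z} : Set G) ∧ ∀ x ∈ S.J, a * x * a⁻¹ * x⁻¹ ∈ S.W}
      one_mem' := ⟨one_mem _, fun x _ => by
        rw [show (1 : G) * x * 1⁻¹ * x⁻¹ = 1 by group]; exact one_mem _⟩
      mul_mem' := by
        rintro a b ⟨a1, ha⟩ ⟨b1, hb⟩
        refine ⟨mul_mem a1 b1, fun x hx => ?_⟩
        rw [show a * b * x * (a * b)⁻¹ * x⁻¹ = a * (b * x * b⁻¹ * x⁻¹) * a⁻¹ * (a * x * a⁻¹ * x⁻¹) by group]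
        exact mul_mem (S.W_conj a1 (hb x hx)) (ha x hx)
      inv_mem' := by
        rintro a ⟨a1, ha⟩
        refine ⟨inv_mem a1, fun x hx => ?_⟩
        rw [show a⁻¹ * x * a⁻¹⁻¹ * x⁻¹ = (a⁻¹ * (a * x * a⁻¹ * x⁻¹) * a⁻¹⁻¹)⁻¹ by group]
        exact inv_mem (S.W_conj (inv_mem a1) (ha x hx)) }
  have hMn : ∀ k ∈ centralizer ({S.z} : Set G), ∀ a ∈ M, k * a * k⁻¹ ∈ M := by
    rintro k hk a ⟨a1, ha⟩
    refine ⟨mul_mem (mul_mem hk a1) (inv_mem hk), fun x hx => ?_⟩
    have hx' : k⁻¹ * x * k ∈ S.J := by simpa using S.J_normal k⁻¹ (inv_mem hk) x hx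
    rw [show k * a * k⁻¹ * x * (k * a * k⁻¹)⁻¹ * x⁻¹ =
      k * (a * (k⁻¹ * x * k) * a⁻¹ * (k⁻¹ * x * k)⁻¹) * k⁻¹ by group]
    exact S.W_conj hk (ha _ hx')
  let M' : Subgroup S.K := M.subgroupOf S.K
  haveI : M'.Normal := ⟨fun a ha k => hMn k (S.K_le k.2) a ha⟩
  have hMJ : ∀ a ∈ M, a ∈ S.K → a ∈ S.J := by
    have hnorm : (M'.map S.psi).Normal := Subgroup.Normal.map inferInstance _ S.psi_surj
    rcases hnorm.eq_bot_or_eq_top with h | h
    · intro a ha haK
      refine (S.psi_ker ⟨a, haK⟩).1 ?_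
      have : S.psi ⟨a, haK⟩ ∈ M'.map S.psi := mem_map_of_mem _ ha
      rwa [h, mem_bot] at this
    · exfalso
      have hcomm : ∀ s t : SU 4 F 2, s * t = t * s := by
        intro s t
        obtain ⟨a, ha, rfl⟩ := (h ▸ mem_top s : s ∈ M'.map S.psi)
        obtain ⟨b, hb, rfl⟩ := (h ▸ mem_top t : t ∈ M'.map S.psi)
        have ha' := (mem_subgroupOf.1 ha).2
        have hb' := (mem_subgroupOf.1 hb).2
        have hfix : ∀ {k : G}, k ∈ S.K → ∀ w ∈ S.W, k * w * k⁻¹ = w := by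
          intro k hk w hw
          rcases S.mem_W.1 hw with rfl | ⟨i, rfl⟩
          · group
          · exact S.K_fix hk i
        have hJ : ((b * a)⁻¹ * (a * b) : S.K).1 ∈ S.J := by
          refine S.self_cent (mem_inf.2 ⟨S.K_le (SetLike.coe_mem _), mem_centralizer_iff.2 fun x hx => ?_⟩)
          have e1 : (a : G) * b * x * ((a : G) * b)⁻¹ =
              ((b : G) * x * (b : G)⁻¹ * x⁻¹) * ((a : G) * x * (a : G)⁻¹ * x⁻¹) * x := by
            conv_rhs => rw [← hfix a.2 _ (hb' x hx)]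
            group
          have e2 : (b : G) * a * x * ((b : G) * a)⁻¹ =
              ((a : G) * x * (a : G)⁻¹ * x⁻¹) * ((b : G) * x * (b : G)⁻¹ * x⁻¹) * x := by
            conv_rhs => rw [← hfix b.2 _ (ha' x hx)]
            group
          rw [S.W_comm (hb' x hx) (S.W_le_J (ha' x hx))] at e2
          have e3 := e1.trans e2.symm
          simp only [Subgroup.coe_mul, InvMemClass.coe_inv]
          calc x * (((b : G) * a)⁻¹ * ((a : G) * b))
              = ((b : G) * a)⁻¹ * ((b : G) * a * x * ((b : G) * a)⁻¹) * ((a : G) * b) := by group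
            _ = ((b : G) * a)⁻¹ * ((a : G) * b * x * ((a : G) * b)⁻¹) * ((a : G) * b) := by rw [e3]
            _ = _ := by group
        have h1 := (S.psi_ker _).2 hJ
        rw [map_mul, map_inv, inv_mul_eq_one, map_mul, map_mul] at h1
        exact h1.symm
      letI : CommGroup (SU 4 F 2) := { (inferInstance : Group (SU 4 F 2)) with mul_comm := hcomm }
      have hp := IsSimpleGroup.prime_card (α := SU 4 F 2)
      rw [U6Cent.card_su_four S.hF] at hp
      norm_num at hp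
  obtain ⟨hgz, -⟩ := mem_inf.1 hg
  have hgM : g ∈ M := ⟨hgz, h⟩
  obtain ⟨n, hn⟩ := S.outer_faithful g hgz fun k hk => by
    refine hMJ _ ?_ (mul_mem (S.K_normal g hgz k hk) (inv_mem hk))
    rw [show g * k * g⁻¹ * k⁻¹ = g * (k * g⁻¹ * k⁻¹) by group]
    exact mul_mem hgM (hMn k (S.K_le hk) _ (inv_mem hgM))
  have hcn : S.c ^ n ∈ S.Hs := by
    have := mul_mem (inv_mem hg) (S.K_le_Hs (S.J_le hn))
    rwa [inv_mul_cancel_left] at this
  rwa [S.c_pow_one (S.c_pow_fix (S.Hs_fix hcn)), mul_one] at hn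

/-- The stabiliser of `e 0` modulo `W` satisfies the hypotheses of the recognition of `PSU₆(2)`. -/
theorem hbarSetup : ∃ T : U6Cent.CentSetup S.HBar F,
    T.z = S.projW ⟨S.z, S.K_le_Hs (S.J_le S.z_mem)⟩ ∧
    T.J = (S.J.subgroupOf S.Hs).map S.projW ∧ T.H0 = (S.K.subgroupOf S.Hs).map S.projW := by
  classical
  haveI : Fact (Nat.Prime 2) := ⟨Nat.prime_two⟩
  have hzX : S.z ∈ S.Hs := S.K_le_Hs (S.J_le S.z_mem)
  set Z : S.HBar := S.projW ⟨S.z, hzX⟩ with hZ
  let J' : Subgroup S.HBar := (S.J.subgroupOf S.Hs).map S.projW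
  let H0 : Subgroup S.HBar := (S.K.subgroupOf S.Hs).map S.projW
  have hsurj : Function.Surjective S.projW := QuotientGroup.mk'_surjective _
  have hJX : S.J ≤ S.Hs := S.J_le.trans S.K_le_Hs
  have hcent : centralizer ({Z} : Set S.HBar) = ⊤ := by
    refine eq_top_iff.2 fun q _ => ?_
    obtain ⟨x, rfl⟩ := hsurj q
    rw [mem_centralizer_singleton_iff, hZ, ← map_mul, ← map_mul]
    exact congrArg S.projW (Subtype.ext (S.z_comm (S.Hs_le x.2)))
  have hcardJ : Nat.card J' = 512 := by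
    have := S.card_map_projW S.J hJX S.W_le_J
    rw [S.card_J] at this
    change 2048 = 4 * Nat.card J' at this
    omega
  have hcardK : Nat.card H0 = 13271040 := by
    have := S.card_map_projW S.K S.K_le_Hs (S.W_le_J.trans S.J_le)
    rw [S.card_K] at this
    change 53084160 = 4 * Nat.card H0 at this
    omega
  have hcardBar : Nat.card S.HBar = 26542080 := by
    have h := S.card_map_projW S.Hs le_rfl ((S.W_le_J.trans S.J_le).trans S.K_le_Hs)
    rw [S.card_Hs, subgroupOf_self, ← MonoidHom.range_eq_map, MonoidHom.range_eq_top.2 hsurj,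
      Subgroup.card_top] at h
    omega
  have hZne : Z ≠ 1 := fun e => S.z_not_mem_W ((S.projW_eq_one _).1 e)
  have hZJ : Z ∈ J' := mem_map_of_mem _ S.z_mem
  have hJle : J' ≤ H0 := map_mono fun x hx => S.J_le hx
  have conjn : ∀ (A : Subgroup G), (∀ g ∈ centralizer ({S.z} : Set G), ∀ a ∈ A, g * a * g⁻¹ ∈ A) →
      ∀ q : S.HBar, ∀ p ∈ (A.subgroupOf S.Hs).map S.projW, q * p * q⁻¹ ∈ (A.subgroupOf S.Hs).map S.projW := by
    intro A hA q p hp
    obtain ⟨g, rfl⟩ := hsurj q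
    obtain ⟨a, ha, rfl⟩ := hp
    exact ⟨g * a * g⁻¹, hA g (S.Hs_le g.2) a ha, by rw [map_mul, map_mul, map_inv]⟩
  have hJ2 : IsPGroup 2 J' := IsPGroup.of_card (n := 9) (by rw [hcardJ]; norm_num)
  have hext : IsExtraspecial 2 J' := by
    have hZo : orderOf (⟨Z, hZJ⟩ : J') = 2 := orderOf_eq_prime (by
      apply Subtype.ext
      show Z ^ 2 = 1
      rw [hZ, ← map_pow, pow_two, show (⟨S.z, hzX⟩ * ⟨S.z, hzX⟩ : S.Hs) = 1 from Subtype.ext S.z_sq,
        map_one]) fun e => hZne (congrArg Subtype.val e)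
    have hmemZ : ∀ u : J', (u : S.HBar) = 1 ∨ (u : S.HBar) = Z → u ∈ zpowers (⟨Z, hZJ⟩ : J') := fun u hu => by
      rcases hu with e | e
      · rw [show u = 1 from Subtype.ext e]; exact one_mem _
      · rw [show u = ⟨Z, hZJ⟩ from Subtype.ext e]; exact mem_zpowers _
    have hcomm1 : ∀ x ∈ S.J, ∀ y ∈ S.J, x * y * x⁻¹ * y⁻¹ = 1 ∨ x * y * x⁻¹ * y⁻¹ = S.z := by
      intro x hx y hy
      rcases S.comm_or x hx y hy with h | h
      · exact Or.inl (by rw [h]; group)
      · refine Or.inr ?_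
        rw [h, mul_assoc (y * x), ← show x⁻¹ * S.z = S.z * x⁻¹ from S.z_comm (S.J_le_cent (inv_mem hx)),
          ← mul_assoc, mul_inv_cancel_right, S.z_comm (S.J_le_cent hy), mul_inv_cancel_right]
    refine CfsgLib.Coprime.isExtraspecial_of_central hJ2 (zpowers ⟨Z, hZJ⟩) ((Nat.card_zpowers _).trans hZo)
      ?_ ?_ ?_ ?_
    · refine le_antisymm (fun u hu => hmemZ u ?_) (zpowers_le.2 ?_)
      · obtain ⟨x, hx, e⟩ := u.2
        have hx' := mem_subgroupOf.1 hx
        have hxC : ∀ y ∈ S.J, (x : G) * y = y * x := by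
          intro y hy
          rcases hcomm1 x hx' y hy with h | h
          · exact mul_inv_eq_iff_eq_mul.1 (mul_inv_eq_one.1 h)
          · exfalso
            refine S.z_not_mem_W (h ▸ (S.projW_eq_one (x * ⟨y, hJX hy⟩ * x⁻¹ * ⟨y, hJX hy⟩⁻¹)).1 ?_)
            have := congrArg Subtype.val (mem_center_iff.1 hu ⟨S.projW ⟨y, hJX hy⟩, mem_map_of_mem _ hy⟩)
            rw [coe_mul, coe_mul, ← e] at this
            rw [map_mul, map_mul, map_mul, map_inv, map_inv, ← this, mul_inv_cancel_right, mul_inv_cancel]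
        rw [← e]
        rcases (S.central_iff hx').1 hxC with h | ⟨w, hw, h⟩
        · exact Or.inl ((S.projW_eq_one _).2 h)
        · refine Or.inr ?_
          rw [show x = ⟨S.z, hzX⟩ * ⟨w, hJX (S.W_le_J hw)⟩ from Subtype.ext h, map_mul,
            (S.projW_eq_one ⟨w, hJX (S.W_le_J hw)⟩).2 hw, mul_one]
      · refine mem_center_iff.2 fun v => Subtype.ext ?_
        exact mem_centralizer_singleton_iff.1 (hcent.symm ▸ mem_top (v : S.HBar))
    · intro u v
      refine hmemZ _ ?_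
      obtain ⟨x, hx, e⟩ := u.2
      obtain ⟨y, hy, e'⟩ := v.2
      rw [commutatorElement_def]
      simp only [coe_mul, coe_inv, ← e, ← e', ← map_mul, ← map_inv]
      rcases hcomm1 x (mem_subgroupOf.1 hx) y (mem_subgroupOf.1 hy) with h | h
      · exact Or.inl ((S.projW_eq_one _).2
          (by show _ ∈ S.W; simp only [coe_mul, coe_inv]; rw [h]; exact one_mem _))
      · exact Or.inr (congrArg S.projW (Subtype.ext h))
    · intro u
      refine hmemZ _ ?_
      obtain ⟨x, hx, e⟩ := u.2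
      rw [coe_pow, ← e, ← map_pow, pow_two]
      rcases S.sq_or x (mem_subgroupOf.1 hx) with h | h
      · exact Or.inl ((S.projW_eq_one _).2 (by show (x : G) * x ∈ S.W; rw [h]; exact one_mem _))
      · exact Or.inr (congrArg S.projW (Subtype.ext h))
    · intro h
      have := Nat.card_congr ((MulEquiv.subgroupCongr h).trans topEquiv).toEquiv
      rw [Nat.card_zpowers, hZo, hcardJ] at this
      norm_num at this
  have hself : centralizer ({Z} : Set S.HBar) ⊓ centralizer (J' : Set S.HBar) ≤ J' := by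
    intro q hq
    obtain ⟨-, hq2⟩ := mem_inf.1 hq
    obtain ⟨x, rfl⟩ := hsurj q
    refine mem_map_of_mem _ (mem_subgroupOf.2 (S.cent_mod_W x.2 fun j hj =>
      (S.projW_eq_one (x * ⟨j, hJX hj⟩ * x⁻¹ * ⟨j, hJX hj⟩⁻¹)).1 ?_))
    rw [map_mul, map_mul, map_mul, map_inv, map_inv,
      ← mem_centralizer_iff.1 hq2 _ (mem_map_of_mem _ (mem_subgroupOf.2 (show ((⟨j, hJX hj⟩ : S.Hs) : G) ∈ S.J from hj))),
      mul_inv_cancel_right, mul_inv_cancel]
  let φ : S.K →* H0 := (S.projW.comp (inclusion S.K_le_Hs)).codRestrict H0 fun k =>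
    mem_map_of_mem _ (mem_subgroupOf.2 k.2)
  have hφ : Function.Surjective φ := fun q => by
    obtain ⟨x, hx, e⟩ := q.2
    exact ⟨⟨x, hx⟩, Subtype.ext e⟩
  have hker : φ.ker ≤ S.psi.ker := fun k hk => MonoidHom.mem_ker.2 ((S.psi_ker k).2
    (S.W_le_J ((S.projW_eq_one _).1 (congrArg Subtype.val (MonoidHom.mem_ker.1 hk)))))
  let ψ : H0 →* SU 4 F 2 := φ.liftOfSurjective hφ ⟨S.psi, hker⟩
  have hψ : ∀ k, ψ (φ k) = S.psi k := fun k => φ.liftOfRightInverse_comp_apply _ _ ⟨S.psi, hker⟩ k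
  have hJmem : ∀ {y : S.Hs}, S.projW y ∈ J' → (y : G) ∈ S.J := by
    rintro y ⟨x, hx, e⟩
    have h : S.projW (x⁻¹ * y) = 1 := by rw [map_mul, map_inv, e, inv_mul_cancel]
    have h' : (x : G)⁻¹ * y ∈ S.J := S.W_le_J ((S.projW_eq_one _).1 h)
    have := mul_mem (mem_subgroupOf.1 hx) h'
    rwa [mul_inv_cancel_left] at this
  refine ⟨{
    hF := S.hF, z := Z, J := J', H0 := H0
    z_sq := by
      rw [hZ, ← map_mul]
      exact (S.projW_eq_one _).2 (by show S.z * S.z ∈ S.W; rw [S.z_sq]; exact one_mem _)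
    z_ne := hZne, z_mem := hZJ, J_le := hJle, H0_le := hcent.symm ▸ le_top
    J_normal := fun q _ => conjn S.J S.J_normal q
    H0_normal := fun q _ => conjn S.K S.K_normal q
    card_J := hcardJ, card_H0 := hcardK
    card_H := Or.inr (by rw [hcent, Subgroup.card_top, hcardBar])
    J_extra := hext, self_cent := hself
    psi := ψ
    psi_surj := fun s => by
      obtain ⟨k, rfl⟩ := S.psi_surj s
      exact ⟨φ k, hψ k⟩
    psi_ker := fun q => by
      obtain ⟨k, rfl⟩ := hφ q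
      rw [hψ, S.psi_ker]
      exact ⟨fun h => mem_map_of_mem _ (mem_subgroupOf.2 h), fun h => hJmem (y := inclusion S.K_le_Hs k) h⟩
    outer_faithful := fun q _ h => by
      obtain ⟨x, rfl⟩ := hsurj q
      obtain ⟨n, hn⟩ := S.outer_faithful x (S.Hs_le x.2) fun k hk =>
        hJmem (y := x * ⟨k, S.K_le_Hs hk⟩ * x⁻¹ * ⟨k, S.K_le_Hs hk⟩⁻¹) (by
          rw [map_mul, map_mul, map_mul, map_inv, map_inv]
          exact h _ (mem_map_of_mem _ (mem_subgroupOf.2 hk)))
      have hcn : S.c ^ n ∈ S.Hs := by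
        have := mul_mem (inv_mem x.2) (hJX hn)
        rwa [inv_mul_cancel_left] at this
      rw [S.c_pow_one (S.c_pow_fix (S.Hs_fix hcn)), mul_one] at hn
      exact mem_map_of_mem _ (mem_subgroupOf.2 hn) }, rfl, rfl, rfl⟩

end Setup

end CfsgLib.Recog.Fi23Cent
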