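import Cfsg.Agent.Lib.Recog.Fi23Cent.Basic

/-!
Elementary consequences of the hypotheses and of the coordinates.
-/

set_option autoImplicit false

namespace CfsgLib.Recog.Fi23Cent

open Subgroup Cfsg

variable {G : Type*} [Group G] {F : Type*} [Field F] [Fintype F]

namespace Setup

variable (S : Setup G F)

theorem J_le_cent : S.J ≤ centralizer ({S.z} : Set G) := le_trans S.J_le S.K_le

theorem z_comm {g : G} (hg : g ∈ centralizer ({S.z} : Set G)) : g * S.z = S.z * g :=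
  mem_centralizer_singleton_iff.1 hg

theorem conj_z {g : G} (hg : g ∈ centralizer ({S.z} : Set G)) : g * S.z * g⁻¹ = S.z := by
  rw [S.z_comm hg, mul_inv_cancel_right]

theorem conj_cases {x g : G} (hx : x ∈ S.J) (hg : g ∈ S.J) : g * x * g⁻¹ = x ∨ g * x * g⁻¹ = x * S.z := by
  rcases S.comm_or g hg x hx with h | h
  · exact Or.inl (by rw [h, mul_inv_cancel_right])
  · refine Or.inr ?_
    rw [h, mul_assoc _ S.z, ← show g⁻¹ * S.z = S.z * g⁻¹ from S.z_comm (S.J_le_cent (inv_mem hg)),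
      ← mul_assoc, mul_inv_cancel_right]

theorem e_comm (i j : Fin 3) : S.e i * S.e j = S.e j * S.e i := S.e_central j _ (S.e_mem i)

theorem mem_W {x : G} : x ∈ S.W ↔ x = 1 ∨ ∃ i, x = S.e i := by
  have hinv : ∀ i, (S.e i)⁻¹ = S.e i := fun i => inv_eq_of_mul_eq_one_right (S.e_sq i)
  have hmul : ∀ i j, S.e i * S.e j = 1 ∨ ∃ k, S.e i * S.e j = S.e k := by
    intro i j
    rcases (by decide : ∀ i j : Fin 3, j = i ∨ j = i + 1 ∨ i = j + 1) i j with h | h | h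
    · exact Or.inl (h ▸ S.e_sq i)
    · exact Or.inr ⟨_, h ▸ S.e_mul i⟩
    · exact Or.inr ⟨_, (S.e_comm i j).trans (h ▸ S.e_mul j)⟩
  let T : Subgroup G :=
    { carrier := {x | x = 1 ∨ ∃ i, x = S.e i}
      one_mem' := Or.inl rfl
      mul_mem' := by
        rintro a b (rfl | ⟨i, rfl⟩) (rfl | ⟨j, rfl⟩)
        · exact Or.inl (one_mul 1)
        · exact Or.inr ⟨j, one_mul _⟩
        · exact Or.inr ⟨i, mul_one _⟩
        · exact hmul i j
      inv_mem' := by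
        rintro a (rfl | ⟨i, rfl⟩)
        · exact Or.inl inv_one
        · exact Or.inr ⟨i, hinv i⟩ }
  constructor
  · intro hx
    have hle : S.W ≤ T := (closure_le T).2 (by rintro _ ⟨i, rfl⟩; exact Or.inr ⟨i, rfl⟩)
    exact hle hx
  · rintro (rfl | ⟨i, rfl⟩)
    · exact one_mem _
    · exact subset_closure ⟨i, rfl⟩

theorem e_mem_W (i : Fin 3) : S.e i ∈ S.W := S.mem_W.2 (Or.inr ⟨i, rfl⟩)

theorem W_le_J : S.W ≤ S.J := fun x hx => by
  rcases S.mem_W.1 hx with rfl | ⟨i, rfl⟩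
  exacts [one_mem _, S.e_mem i]

theorem z_not_mem_W : S.z ∉ S.W := fun h => by
  rcases S.mem_W.1 h with e | ⟨i, e⟩
  exacts [S.z_ne e, S.e_ne_z i e.symm]

theorem W_conj {g x : G} (hg : g ∈ centralizer ({S.z} : Set G)) (hx : x ∈ S.W) : g * x * g⁻¹ ∈ S.W := by
  rcases S.mem_W.1 hx with rfl | ⟨i, rfl⟩
  · rw [mul_one, mul_inv_cancel]; exact one_mem _
  · obtain ⟨j, e⟩ := S.e_conj g hg i
    exact e ▸ S.e_mem_W j

theorem W_comm {w x : G} (hw : w ∈ S.W) (hx : x ∈ S.J) : x * w = w * x := by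
  rcases S.mem_W.1 hw with rfl | ⟨i, rfl⟩
  · rw [mul_one, one_mul]
  · exact S.e_central i x hx

theorem K_fix {k : G} (hk : k ∈ S.K) (i : Fin 3) : k * S.e i * k⁻¹ = S.e i := by
  rw [mem_centralizer_singleton_iff.1 (S.K_cent i hk), mul_inv_cancel_right]

theorem central_iff {x : G} (hx : x ∈ S.J) :
    (∀ y ∈ S.J, x * y = y * x) ↔ x ∈ S.W ∨ ∃ w ∈ S.W, x = S.z * w := by
  constructor
  · intro h
    rcases S.center x hx h with rfl | rfl | ⟨i, rfl | rfl⟩
    · exact Or.inl (one_mem _)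
    · exact Or.inr ⟨1, one_mem _, (mul_one _).symm⟩
    · exact Or.inl (S.e_mem_W i)
    · exact Or.inr ⟨_, S.e_mem_W i, rfl⟩
  · rintro (h | ⟨w, hw, rfl⟩) y hy
    · exact (S.W_comm h hy).symm
    · rw [mul_assoc, ← S.W_comm hw hy, ← mul_assoc, ← S.z_comm (S.J_le_cent hy), mul_assoc]

theorem c_pow_mem (n : ℕ) : S.c ^ n ∈ centralizer ({S.z} : Set G) := pow_mem S.c_mem n

theorem c_pow_rot (n : ℕ) (i : Fin 3) :
    S.c ^ n * S.e i * (S.c ^ n)⁻¹ = S.e ⟨((i : ℕ) + n) % 3, Nat.mod_lt _ (by norm_num)⟩ := by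
  induction n with
  | zero =>
    rw [pow_zero, one_mul, inv_one, mul_one]
    exact congrArg S.e (Fin.ext (Nat.mod_eq_of_lt (by omega)).symm)
  | succ n ih =>
    rw [pow_succ', show S.c * S.c ^ n * S.e i * (S.c * S.c ^ n)⁻¹ =
      S.c * (S.c ^ n * S.e i * (S.c ^ n)⁻¹) * S.c⁻¹ by group, ih, S.c_rot]
    refine congrArg S.e (Fin.ext ?_)
    rw [Fin.val_add]
    show (((i : ℕ) + n) % 3 + 1) % 3 = ((i : ℕ) + (n + 1)) % 3
    omega

theorem c_pow_fix {n : ℕ} {i : Fin 3} (h : S.c ^ n * S.e i * (S.c ^ n)⁻¹ = S.e i) : n % 3 = 0 := by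
  rw [S.c_pow_rot] at h
  have h' : ((i : ℕ) + n) % 3 = i := congrArg Fin.val (S.e_inj h)
  omega

theorem c_pow_one {n : ℕ} (h : n % 3 = 0) : S.c ^ n = 1 := by
  rw [← Nat.div_add_mod n 3, h, add_zero, pow_mul, S.c_pow, one_pow]

end Setup

namespace FData

variable {S : Setup G F} (D : FData S)
include D

theorem vec_one : D.vec 1 = 0 :=
  (D.vec_zero 1 S.J.one_mem).2 fun y _ => by rw [one_mul, mul_one]

theorem vec_z : D.vec S.z = 0 :=
  (D.vec_zero _ S.z_mem).2 fun _ hy => (S.z_comm (S.J_le_cent hy)).symm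

theorem vec_W {w : G} (hw : w ∈ S.W) : D.vec w = 0 :=
  (D.vec_zero _ (S.W_le_J hw)).2 fun _ hy => (S.W_comm hw hy).symm

theorem vec_e (i : Fin 3) : D.vec (S.e i) = 0 := D.vec_W (S.e_mem_W i)

theorem vec_inv {x : G} (hx : x ∈ S.J) : D.vec x⁻¹ = -D.vec x :=
  eq_neg_of_add_eq_zero_right (by rw [← D.vec_mul x hx _ (inv_mem hx), mul_inv_cancel, D.vec_one])

theorem add_self (v : Fin 4 → F) : v + v = 0 := by
  obtain ⟨x, hx, rfl⟩ := D.vec_surj v
  rw [← D.vec_mul x hx x hx]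
  rcases S.sq_or x hx with h | h
  · rw [h, D.vec_one]
  · rw [h, D.vec_z]

theorem neg_eq (v : Fin 4 → F) : -v = v := neg_eq_of_add_eq_zero_left (D.add_self v)

theorem vec_eq_iff {x y : G} (hx : x ∈ S.J) (hy : y ∈ S.J) :
    D.vec x = D.vec y ↔ x⁻¹ * y ∈ S.W ∨ ∃ w ∈ S.W, x⁻¹ * y = S.z * w := by
  rw [← S.central_iff (mul_mem (inv_mem hx) hy), ← D.vec_zero _ (mul_mem (inv_mem hx) hy),
    D.vec_mul _ (inv_mem hx) y hy, D.vec_inv hx, neg_add_eq_zero]

theorem act_add {g : G} (hg : g ∈ centralizer ({S.z} : Set G)) (u v : Fin 4 → F) :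
    D.act g (u + v) = D.act g u + D.act g v := by
  obtain ⟨x, hx, rfl⟩ := D.vec_surj u
  obtain ⟨y, hy, rfl⟩ := D.vec_surj v
  rw [← D.vec_mul x hx y hy, ← D.act_vec g hg _ (mul_mem hx hy), ← D.act_vec g hg x hx,
    ← D.act_vec g hg y hy, ← D.vec_mul _ (S.J_normal g hg x hx) _ (S.J_normal g hg y hy)]
  exact congrArg D.vec (by group)

theorem act_mul {g h : G} (hg : g ∈ centralizer ({S.z} : Set G)) (hh : h ∈ centralizer ({S.z} : Set G))
    (v : Fin 4 → F) : D.act (g * h) v = D.act g (D.act h v) := by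
  obtain ⟨x, hx, rfl⟩ := D.vec_surj v
  rw [← D.act_vec h hh x hx, ← D.act_vec _ (mul_mem hg hh) x hx,
    ← D.act_vec g hg _ (S.J_normal h hh x hx)]
  exact congrArg D.vec (by group)

theorem act_J {g : G} (hg : g ∈ S.J) (v : Fin 4 → F) : D.act g v = v :=
  (D.act_one g (S.J_le_cent hg)).2 hg v

theorem act_id (v : Fin 4 → F) : D.act 1 v = v := D.act_J S.J.one_mem v

theorem act_inv {g : G} (hg : g ∈ centralizer ({S.z} : Set G)) (v : Fin 4 → F) :
    D.act g⁻¹ (D.act g v) = v := by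
  rw [← D.act_mul (inv_mem hg) hg, inv_mul_cancel, D.act_id]

theorem act_zero {g : G} (hg : g ∈ centralizer ({S.z} : Set G)) : D.act g 0 = 0 := by
  rw [← D.vec_one, ← D.act_vec g hg 1 S.J.one_mem, mul_one, mul_inv_cancel]

theorem act_injective {g : G} (hg : g ∈ centralizer ({S.z} : Set G)) : Function.Injective (D.act g) :=
  fun u v h => by rw [← D.act_inv hg u, h, D.act_inv hg v]

end FData

end CfsgLib.Recog.Fi23Cent
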