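import Cfsg.Agent.Lib.Recog.Fi22Cent.LocGeom

/-!
Involutions of the four-dimensional Hermitian space over four elements: a linear one is a transvection or fixes
exactly a totally singular plane, a semilinear one has a real form of symplectic or orthogonal type.
-/

set_option autoImplicit false
set_option linter.unusedSectionVars false

namespace CfsgLib.Recog.Fi23Cent

open Cfsg CfsgLib.Recog.U6Cent
open CfsgLib.Recog.Fi22Cent (IsIsom va vb ve0 ve2)
open scoped Matrix

variable {F : Type*} [Field F] [Fintype F]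

local notation "V" => Fin 4 → F
local notation "h" => hermForm 4 F 2

/-- A semilinear map twisting the form. -/
structure IsTwist (g : (Fin 4 → F) → Fin 4 → F) : Prop where
  add : ∀ x y, g (x + y) = g x + g y
  smul : ∀ (k : F) x, g (k • x) = k ^ 2 • g x
  herm : ∀ x y, hermForm 4 F 2 (g x) (g y) = hermForm 4 F 2 x y ^ 2

/-- A semilinear involution twisting the form. -/
structure IsConjInvol (σ : (Fin 4 → F) → Fin 4 → F) : Prop extends IsTwist σ where
  invol : ∀ x, σ (σ x) = x

/-- The real form is symplectic. -/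
def IsSymp (σ : (Fin 4 → F) → Fin 4 → F) : Prop := ∀ x, σ x = x → hermForm 4 F 2 x x = 0

/-- The real form is orthogonal with distinguished vector `v`. -/
def IsOrth (σ : (Fin 4 → F) → Fin 4 → F) (v : Fin 4 → F) : Prop :=
  v ≠ 0 ∧ σ v = v ∧ hermForm 4 F 2 v v = 0 ∧ ∀ x, σ x = x → hermForm 4 F 2 x x = hermForm 4 F 2 x v

variable (hF : Fintype.card F = 4)
include hF

theorem mulVec_su_injective (M : SU 4 F 2) : Function.Injective fun x : V => slToMat 4 F M *ᵥ x := by
  intro x y e
  have := congrArg (fun u : V => slToMat 4 F (↑(M⁻¹ : SU 4 F 2) : Matrix.SpecialLinearGroup (Fin 4) F) *ᵥ u) e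
  simp only [← mulVec_mul_su hF, inv_mul_cancel] at this
  simpa using this

/-- An involutory isometry is a transvection or fixes exactly a totally singular plane, its image. -/
theorem invol_linear {f : (Fin 4 → F) → Fin 4 → F} (hf : IsIsom f) (hi : ∀ x, f (f x) = x)
    (hne : ∃ x, f x ≠ x) :
    (∃ v : V, v ≠ 0 ∧ h v v = 0 ∧ ∀ x, f x = transvec v x) ∨
      ∃ L : Submodule F V, Module.finrank F L = 2 ∧ (∀ u ∈ L, ∀ w ∈ L, h u w = 0) ∧
        (∀ x, f x = x ↔ x ∈ L) ∧ ∀ x, x ∈ L ↔ ∃ y, y + f y = x := by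
  obtain ⟨M, -, hM⟩ := Fi22Cent.isom_invol hF hf hi hne
  have hinj := mulVec_su_injective hF M
  have hsurj : ∀ u : V, ∃ x, slToMat 4 F M *ᵥ x = u := fun u =>
    (Finite.injective_iff_surjective.1 hinj) u
  obtain ⟨a, ha⟩ := hsurj va
  obtain ⟨b, hb⟩ := hsurj vb
  have ha2 : ∀ x, h x a = h (slToMat 4 F M *ᵥ x) va := fun x => by rw [← ha]; exact (M.2 x a).symm
  have hb2 : ∀ x, h x b = h (slToMat 4 F M *ᵥ x) vb := fun x => by rw [← hb]; exact (M.2 x b).symm
  rcases hM with hM | hM
  · refine Or.inl ⟨a, fun e => Fi22Cent.va_ne hF ?_, by rw [ha2, ha, Fi22Cent.va_iso hF], fun x => hinj ?_⟩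
    · rw [← ha, e, Matrix.mulVec_zero]
    · show slToMat 4 F M *ᵥ f x = slToMat 4 F M *ᵥ transvec a x
      rw [hM, transvec, transvec, Matrix.mulVec_add, Matrix.mulVec_smul, ha, ha2]
  right
  have hva : h (va : V) vb = 0 := by simp [hermForm, va, vb, Fin.sum_univ_four]
  have hvb : h (vb : V) va = 0 := by simp [hermForm, va, vb, Fin.sum_univ_four]
  have hy : ∀ y, slToMat 4 F M *ᵥ (y + f y) = h y b • vb + h y a • va := fun y => by
    rw [Matrix.mulVec_add, hM, transvec, transvec, herm_add_left hF, herm_smul_left hF, hvb, mul_zero,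
      add_zero, ha2, hb2, add_assoc, ← add_assoc (slToMat 4 F M *ᵥ y) (slToMat 4 F M *ᵥ y) _,
      vadd_self hF, zero_add]
  let l : F × F →ₗ[F] V :=
    { toFun := fun p => p.1 • a + p.2 • b
      map_add' := fun p q => by simp only [Prod.fst_add, Prod.snd_add, add_smul]; abel
      map_smul' := fun k p => by simp [smul_smul, smul_add] }
  have hl : ∀ p, slToMat 4 F M *ᵥ l p = p.1 • va + p.2 • vb := fun p => by
    show slToMat 4 F M *ᵥ (p.1 • a + p.2 • b) = _
    rw [Matrix.mulVec_add, Matrix.mulVec_smul, Matrix.mulVec_smul, ha, hb]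
  have himg : ∀ y, y + f y ∈ LinearMap.range l := fun y => ⟨(h y a, h y b), hinj (by
    show slToMat 4 F M *ᵥ l _ = slToMat 4 F M *ᵥ (y + f y)
    rw [hl, hy, add_comm])⟩
  have hlr : ∀ x ∈ LinearMap.range l, ∃ y, y + f y = x := by
    rintro _ ⟨p, rfl⟩
    obtain ⟨y, e⟩ := hsurj (p.1 • ve0 + p.2 • ve2)
    refine ⟨y, hinj ?_⟩
    show slToMat 4 F M *ᵥ (y + f y) = slToMat 4 F M *ᵥ l p
    rw [hy, hl, ha2, hb2, e, add_comm (_ • vb)]
    simp [hermForm, va, vb, ve0, ve2, Fin.sum_univ_four]
  refine ⟨LinearMap.range l, ?_, ?_, fun x => ?_, fun x => ⟨hlr x, fun ⟨y, e⟩ => e ▸ himg y⟩⟩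
  · rw [LinearMap.finrank_range_of_inj, Module.finrank_prod, Module.finrank_self]
    intro p q e
    have e' := (hl p).symm.trans ((congrArg (fun u : V => slToMat 4 F M *ᵥ u) e).trans (hl q))
    exact Prod.ext (by simpa [va, vb] using congrFun e' 0) (by simpa [va, vb] using congrFun e' 2)
  · rintro _ ⟨p, rfl⟩ _ ⟨q, rfl⟩
    rw [← M.2 (l p) (l q), hl, hl]
    simp [hermForm, va, vb, Fin.sum_univ_four, f4_add_self hF]
  · constructor
    · intro hx
      have e := hy x
      rw [hx, vadd_self hF, Matrix.mulVec_zero] at e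
      have e0 : h x a = 0 := by simpa [va, vb] using (congrFun e 0).symm
      have e2 : h x b = 0 := by simpa [va, vb] using (congrFun e 2).symm
      rw [ha2, Fi22Cent.herm_va hF] at e0
      rw [hb2, Fi22Cent.herm_vb hF] at e2
      refine ⟨((slToMat 4 F M *ᵥ x) 0, (slToMat 4 F M *ᵥ x) 2), hinj ?_⟩
      show slToMat 4 F M *ᵥ l _ = slToMat 4 F M *ᵥ x
      rw [hl]
      refine funext fun i => ?_
      fin_cases i <;> simp [va, vb]
      · exact f4_eq_of_add_zero hF e0
      · exact f4_eq_of_add_zero hF e2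
    · intro hx
      obtain ⟨y, rfl⟩ := hlr x hx
      rw [hf.add, hi, add_comm]

section Semilinear

variable {σ : (Fin 4 → F) → Fin 4 → F} (hσ : IsConjInvol σ)
include hσ

/-- The real form spans. -/
theorem real_decomp {ω : F} (hω : ω ^ 2 = ω + 1) (x : V) :
    ∃ r s, σ r = r ∧ σ s = s ∧ x = r + ω • s := by
  refine ⟨x + ω • (x + σ x), x + σ x, ?_, ?_, ?_⟩
  · rw [hσ.add, hσ.smul, hσ.add, hσ.invol, add_comm (σ x) x, hω, add_smul, one_smul]
    rw [add_comm (ω • (x + σ x)), ← add_assoc, ← add_assoc, add_comm (σ x) x, add_assoc x (σ x) (σ x),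
      vadd_self hF, add_zero]
  · rw [hσ.add, hσ.invol, add_comm]
  · rw [add_assoc, vadd_self hF, add_zero]

theorem real_herm {u w : V} (hu : σ u = u) (hw : σ w = w) : h u w = 0 ∨ h u w = 1 := by
  refine f4_bool ?_
  rw [← hσ.herm, hu, hw]

theorem real_symm {u w : V} (hu : σ u = u) (hw : σ w = w) : h w u = h u w := by
  rw [herm_swap hF u w, ← hσ.herm, hu, hw]

theorem real_zero {w : V} (h0 : ∀ u, σ u = u → h u w = 0) : w = 0 := by
  obtain ⟨ω, -, -, hω, -⟩ := exists_omega hF
  refine eq_zero_of_herm hF fun x => ?_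
  obtain ⟨r, s, hr, hs, rfl⟩ := real_decomp hF hσ hω x
  rw [herm_add_left hF, herm_smul_left hF, h0 r hr, h0 s hs, mul_zero, add_zero]

theorem real_pair {w : V} (hw : σ w = w) (hw0 : w ≠ 0) : ∃ u, σ u = u ∧ h u w = 1 := by
  by_contra hno
  push Not at hno
  exact hw0 (real_zero hF hσ fun u hu => (real_herm hF hσ hu hw).resolve_right (hno u hu))

/-- The vector representing the diagonal of the real form. -/
theorem exists_diag_vector : ∃ v : V, σ v = v ∧ ∀ x, h x v = h (σ x) x := by
  classical
  have hadd : ∀ x y, h (σ (x + y)) (x + y) = h (σ x) x + h (σ y) y := fun x y => by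
    have e : h (σ y) x = h (σ x) y := by
      rw [← congrArg (h (σ y)) (hσ.invol x), hσ.herm, ← herm_swap hF]
    rw [hσ.add, herm_add_left hF, herm_add_right hF, herm_add_right hF, e]
    linear_combination (h (σ x) y) * f4_char hF
  have hsmul : ∀ (k : F) x, h (σ (k • x)) (k • x) = k * h (σ x) x := fun k x => by
    rw [hσ.smul, herm_smul_left hF, herm_smul_right hF]
    linear_combination (h (σ x) x) * f4_pow hF k
  let φ : V →ₗ[F] F :=
    { toFun := fun x => h (σ x) x
      map_add' := hadd
      map_smul' := fun k x => hsmul k x }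
  let v : V := fun i => φ (Pi.single i 1) ^ 2
  have hv : ∀ x, h x v = φ x := fun x => by
    conv_rhs => rw [← Finset.univ_sum_single x, map_sum]
    refine Finset.sum_congr rfl fun i _ => ?_
    rw [show Pi.single i (x i) = x i • (Pi.single i 1 : V) by rw [← Pi.single_smul, smul_eq_mul, mul_one],
      map_smul, smul_eq_mul, ← pow_mul, f4_pow hF]
  refine ⟨v, ?_, hv⟩
  refine v_eq_of_add_zero hF (eq_zero_of_herm hF fun x => ?_)
  rw [herm_add_right hF, hv, ← congrArg (fun y => h y (σ v)) (hσ.invol x), hσ.herm, hv]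
  show h (σ (σ x)) (σ x) ^ 2 + h (σ x) x = 0
  rw [hσ.invol, ← herm_swap hF, f4_add_self hF]

/-- A symmetric nondegenerate form of this size has isotropic diagonal vector. -/
theorem diag_vector_iso {v : V} (hv : σ v = v) (hd : ∀ x, σ x = x → h x x = h x v) : h v v = 0 := by
  classical
  by_contra hne
  have hvv : h v v = 1 := (real_herm hF hσ hv hv).resolve_left hne
  have hiso : ∀ x, σ x = x → h x v = 0 → h x x = 0 := fun x hx e => (hd x hx).trans e
  have hsym : ∀ {u w : V}, σ u = u → σ w = w → h w u = h u w := fun hu hw => real_symm hF hσ hu hw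
  have hfix : ∀ {k : F} {u : V}, (k = 0 ∨ k = 1) → σ u = u → σ (k • u) = k • u := fun {k u} hk hu => by
    rw [hσ.smul, hu]; rcases hk with rfl | rfl <;> simp
  have hcard : Fintype.card V = 256 := by
    rw [Fintype.card_fun, Fintype.card_fin, hF]; norm_num
  obtain ⟨ω, -, -, hω, -⟩ := exists_omega hF
  have hspan : ∀ (n : ℕ) (c : Fin n → V), n < 4 →
      ∃ r, σ r = r ∧ ∀ k : Fin n → F, r ≠ ∑ i, k i • c i := by
    intro n c hn
    by_contra hno
    push Not at hno
    have hs : Function.Surjective fun k : Fin n → F => ∑ i, k i • c i := fun x => by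
      obtain ⟨r, s, hr, hs, rfl⟩ := real_decomp hF hσ hω x
      obtain ⟨k, rfl⟩ := hno r hr
      obtain ⟨m, rfl⟩ := hno s hs
      exact ⟨k + ω • m, by simp [Finset.smul_sum, add_smul, smul_smul, Finset.sum_add_distrib]⟩
    have := Fintype.card_le_of_surjective _ hs
    rw [hcard, Fintype.card_fun, Fintype.card_fin, hF] at this
    have := Nat.pow_le_pow_right (show 0 < 4 by norm_num) (show n ≤ 3 by omega)
    omega
  -- a hyperbolic pair orthogonal to `v`
  obtain ⟨r, hr, hrn⟩ := hspan 1 ![v] (by norm_num)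
  set a := r + h r v • v with ha
  have haσ : σ a = a := by rw [ha, hσ.add, hr, hfix (real_herm hF hσ hr hv) hv]
  have hav : h a v = 0 := by rw [ha, herm_add_left hF, herm_smul_left hF, hvv, mul_one, f4_add_self hF]
  have ha0 : a ≠ 0 := fun e => hrn ![h r v]
    (by rw [Fin.sum_univ_one]; exact v_eq_of_add_zero hF e)
  obtain ⟨b0, hb0, hb1⟩ := real_pair hF hσ haσ ha0
  have hva : h v a = 0 := herm_orth_symm hF hav
  set b := b0 + h b0 v • v with hb
  have hbσ : σ b = b := by rw [hb, hσ.add, hb0, hfix (real_herm hF hσ hb0 hv) hv]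
  have hbv : h b v = 0 := by rw [hb, herm_add_left hF, herm_smul_left hF, hvv, mul_one, f4_add_self hF]
  have hba : h b a = 1 := by rw [hb, herm_add_left hF, herm_smul_left hF, hva, mul_zero, add_zero, hb1]
  have hvb : h v b = 0 := herm_orth_symm hF hbv
  have hab : h a b = 1 := (hsym hbσ haσ).trans hba
  have haa := hiso a haσ hav
  have hbb := hiso b hbσ hbv
  -- the projection to the orthogonal of the three
  let P : V → V := fun x => x + (h x v • v + h x b • a + h x a • b)
  have hP : ∀ x, σ x = x → σ (P x) = P x ∧ h (P x) v = 0 ∧ h (P x) a = 0 ∧ h (P x) b = 0 := fun x hx =>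
    ⟨by simp only [P, hσ.add, hx, hfix (real_herm hF hσ hx hv) hv, hfix (real_herm hF hσ hx hbσ) haσ,
        hfix (real_herm hF hσ hx haσ) hbσ],
      by simp [P, herm_add_left hF, herm_smul_left hF, hvv, hav, hbv, f4_add_self hF],
      by simp [P, herm_add_left hF, herm_smul_left hF, hva, haa, hba, f4_add_self hF],
      by simp [P, herm_add_left hF, herm_smul_left hF, hvb, hab, hbb, f4_add_self hF]⟩
  obtain ⟨r', hr', hrn'⟩ := hspan 3 ![v, a, b] (by norm_num)
  obtain ⟨huσ, huv, hua, hub⟩ := hP r' hr'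
  set u := P r' with hu
  have hu0 : u ≠ 0 := fun e => hrn' ![h r' v, h r' b, h r' a] (by
    simp only [Fin.sum_univ_three, Matrix.cons_val]
    exact v_eq_of_add_zero hF e)
  obtain ⟨d0, hd0, hd1⟩ := real_pair hF hσ huσ hu0
  obtain ⟨hdσ, hdv, hda, hdb⟩ := hP d0 hd0
  set d := P d0 with hdd
  have hvu : h v u = 0 := herm_orth_symm hF huv
  have hau : h a u = 0 := herm_orth_symm hF hua
  have hbu : h b u = 0 := herm_orth_symm hF hub
  have hdu : h d u = 1 := by
    simp only [hdd, P, herm_add_left hF, herm_smul_left hF, hvu, hau, hbu, mul_zero, add_zero, hd1]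
  have hud : h u d = 1 := (hsym hdσ huσ).trans hdu
  have huu := hiso u huσ huv
  have hinj : Function.Injective fun k : Fin 5 → F =>
      k 0 • v + k 1 • a + k 2 • b + k 3 • u + k 4 • d := by
    intro k m e
    have key : ∀ y, h (k 0 • v + k 1 • a + k 2 • b + k 3 • u + k 4 • d) y =
        h (m 0 • v + m 1 • a + m 2 • b + m 3 • u + m 4 • d) y := fun y => congrArg (fun x => h x y) e
    simp only [herm_add_left hF, herm_smul_left hF] at key
    refine funext fun i => ?_
    fin_cases i
    · simpa [hvv, hav, hbv, huv, hdv] using key v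
    · simpa [hvb, hab, hbb, hub, hdb] using key b
    · simpa [hva, haa, hba, hua, hda] using key a
    · simpa [herm_orth_symm hF hdv, herm_orth_symm hF hda, herm_orth_symm hF hdb, hud, hiso d hdσ hdv]
        using key d
    · simpa [hvu, hau, hbu, huu, hdu] using key u
  have := Fintype.card_le_of_injective _ hinj
  rw [hcard, Fintype.card_fun, Fintype.card_fin, hF] at this
  norm_num at this

/-- The two types of real forms. -/
theorem real_type : IsSymp σ ∨ ∃ v, IsOrth σ v := by
  obtain ⟨v, hv, hd⟩ := exists_diag_vector hF hσ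
  have hd' : ∀ x, σ x = x → h x x = h x v := fun x hx => by rw [hd, hx]
  by_cases h0 : v = 0
  · exact Or.inl fun x hx => by rw [hd' x hx, h0, U6Cent.herm_zero_right]
  · exact Or.inr ⟨v, h0, hv, diag_vector_iso hF hσ hv hd', hd'⟩

theorem IsOrth.exists_one {v : V} (ho : IsOrth σ v) : ∃ p, σ p = p ∧ h p v = 1 ∧ h p p = 1 := by
  obtain ⟨p, hp, e⟩ := real_pair hF hσ ho.2.1 ho.1
  exact ⟨p, hp, e, (ho.2.2.2 p hp).trans e⟩

theorem IsOrth.not_symp {v : V} (ho : IsOrth σ v) : ¬ IsSymp σ := fun hs => by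
  obtain ⟨p, hp, -, e⟩ := ho.exists_one hF hσ
  exact one_ne_zero (e.symm.trans (hs p hp))

theorem IsOrth.unique {v w : V} (ho : IsOrth σ v) (ho' : IsOrth σ w) : v = w := by
  refine v_eq_of_add_zero hF (real_zero hF hσ fun u hu => ?_)
  rw [herm_add_right hF, ← ho.2.2.2 u hu, ← ho'.2.2.2 u hu, f4_add_self hF]

/-- The transvection at a fixed isotropic vector commutes with `σ`. -/
theorem transvec_comm_real {u : V} (hu : σ u = u) (x : V) : σ (transvec u x) = transvec u (σ x) := by
  unfold transvec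
  rw [hσ.add, hσ.smul, hu, ← hσ.herm, hu]

/-- An invariant additive function on the real form vanishes on isotropic vectors. -/
theorem invariant_zero {A : Type*} [AddCommGroup A] (φ : (Fin 4 → F) → A)
    (hadd : ∀ x y, σ x = x → σ y = y → φ (x + y) = φ x + φ y)
    (hinv : ∀ u, σ u = u → h u u = 0 → ∀ x, σ x = x → φ (transvec u x) = φ x)
    {u : V} (hu : σ u = u) (hiso : h u u = 0) : φ u = 0 := by
  by_cases h0 : u = 0
  · subst h0
    have h1 := hadd 0 0 hu hu
    rw [add_zero] at h1
    exact left_eq_add.1 h1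
  obtain ⟨x, hx, e⟩ := real_pair hF hσ hu h0
  have := hinv u hu hiso x hx
  rw [transvec, e, one_smul, hadd x u hx hu] at this
  exact add_eq_left.1 this

/-- An isometry fixing the real form pointwise is trivial. -/
theorem isom_fix_real {f : (Fin 4 → F) → Fin 4 → F} (hf : IsIsom f) (hfix : ∀ x, σ x = x → f x = x)
    (x : V) : f x = x := by
  obtain ⟨ω, -, -, hω, -⟩ := exists_omega hF
  obtain ⟨r, s, hr, hs, rfl⟩ := real_decomp hF hσ hω x
  rw [hf.add, hf.smul, hfix r hr, hfix s hs]

/-- An isometry fixing the real vectors orthogonal to `v` is trivial or the transvection. -/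
theorem isom_fix_hyperplane {v : V} (ho : IsOrth σ v) {f : (Fin 4 → F) → Fin 4 → F} (hf : IsIsom f)
    (hfix : ∀ x, σ x = x → h x v = 0 → f x = x) : (∀ x, f x = x) ∨ ∀ x, f x = transvec v x := by
  obtain ⟨ω, -, hω1, hω, -⟩ := exists_omega hF
  have hperp : ∀ x, h x v = 0 → f x = x := fun x hx => by
    obtain ⟨r, s, hr, hs, rfl⟩ := real_decomp hF hσ hω x
    rw [herm_add_left hF, herm_smul_left hF] at hx
    have h01 : h r v = 0 ∧ h s v = 0 := by
      rcases real_herm hF hσ hr ho.2.1 with e | e <;> rcases real_herm hF hσ hs ho.2.1 with e' | e' <;>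
        rw [e, e'] at hx <;> simp only [mul_zero, mul_one, add_zero, zero_add] at hx
      · exact ⟨e, e'⟩
      · exact absurd hx (by intro e0; rw [e0] at hω; simp at hω)
      · exact absurd hx one_ne_zero
      · exact absurd (f4_eq_of_add_zero hF hx).symm hω1
    rw [hf.add, hf.smul, hfix r hr h01.1, hfix s hs h01.2]
  obtain ⟨p, -, hpv, hpp⟩ := ho.exists_one hF hσ
  set w := f p + p with hw
  have hfp : f p = p + w := by rw [hw, add_comm p, add_assoc, vadd_self hF, add_zero]
  have hdec : ∀ x, f x = x + h x v • w := fun x => by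
    have hy : h (x + h x v • p) v = 0 := by
      rw [herm_add_left hF, herm_smul_left hF, hpv, mul_one, f4_add_self hF]
    have e := hperp _ hy
    rw [hf.add, hf.smul, hfp, smul_add] at e
    calc f x = f x + (h x v • p + h x v • w) + (h x v • p + h x v • w) := by
          rw [add_assoc, vadd_self hF, add_zero]
      _ = x + h x v • p + (h x v • p + h x v • w) := by rw [e]
      _ = x + h x v • w := by rw [add_assoc, ← add_assoc (h x v • p), vadd_self hF, zero_add]
  obtain ⟨k, hk⟩ : ∃ k : F, w = k • v := mem_line hF ho.1 fun y hy => by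
    have e := hf.herm y p
    rw [hperp y hy, hfp, herm_add_right hF] at e
    exact add_eq_left.1 e
  have hk2 : k ^ 2 = k := by
    have e := hf.herm p p
    rw [hfp, hk, herm_add_left hF, herm_add_right hF, herm_add_right hF, herm_smul_left hF,
      herm_smul_left hF, herm_smul_right hF, herm_smul_right hF, ho.2.2.1, hpv, hpp,
      herm_swap hF p v, hpv, one_pow] at e
    linear_combination e - k * f4_char hF
  rcases f4_bool hk2 with rfl | rfl
  · exact Or.inl fun x => by rw [hdec, hk, zero_smul, smul_zero, add_zero]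
  · exact Or.inr fun x => by rw [hdec, hk, one_smul, transvec]

theorem comp_isom {g : (Fin 4 → F) → Fin 4 → F} (hg : IsTwist g) : IsIsom fun x => σ (g x) :=
  ⟨fun x y => by rw [hg.add, hσ.add],
    fun k x => by rw [hg.smul, hσ.smul, ← pow_mul, f4_pow hF],
    fun x y => by rw [hσ.herm, hg.herm, ← pow_mul, f4_pow hF]⟩

/-- A twisting map fixing the real form pointwise is `σ`. -/
theorem twist_fix_real {g : (Fin 4 → F) → Fin 4 → F} (hg : IsTwist g) (hfix : ∀ x, σ x = x → g x = x)
    (x : V) : g x = σ x := by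
  rw [← hσ.invol (g x)]
  exact congrArg σ (isom_fix_real hF hσ (comp_isom hF hσ hg) (fun y hy => by rw [hfix y hy, hy]) x)

/-- A twisting map fixing the real vectors orthogonal to `v` is `σ` or `σ τ`. -/
theorem twist_fix_hyperplane {v : V} (ho : IsOrth σ v) {g : (Fin 4 → F) → Fin 4 → F} (hg : IsTwist g)
    (hfix : ∀ x, σ x = x → h x v = 0 → g x = x) :
    (∀ x, g x = σ x) ∨ ∀ x, g x = σ (transvec v x) := by
  rcases isom_fix_hyperplane hF hσ ho (comp_isom hF hσ hg) (fun y hy e => by rw [hfix y hy e, hy])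
    with e | e
  · exact Or.inl fun x => by rw [← hσ.invol (g x)]; exact congrArg σ (e x)
  · exact Or.inr fun x => by rw [← hσ.invol (g x)]; exact congrArg σ (e x)

/-- `σ τ` is symplectic. -/
theorem orth_transvec_symp {v : V} (ho : IsOrth σ v) :
    IsConjInvol (fun x => σ (transvec v x)) ∧ IsSymp (fun x => σ (transvec v x)) := by
  have hT := Fi22Cent.isom_transvec hF ho.2.2.1
  refine ⟨⟨⟨fun x y => by rw [hT.add, hσ.add], fun k x => by rw [hT.smul, hσ.smul],
    fun x y => by rw [hσ.herm, hT.herm]⟩, fun x => ?_⟩, fun x hx => ?_⟩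
  · show σ (transvec v (σ (transvec v x))) = x
    rw [← transvec_comm_real hF hσ ho.2.1, Fi22Cent.transvec_invol hF ho.2.2.1, hσ.invol]
  · replace hx : σ (transvec v x) = x := hx
    rw [transvec, hσ.add, hσ.smul, ho.2.1] at hx
    obtain ⟨ω, -, -, hω, -⟩ := exists_omega hF
    set a := h x v with ha
    have e1 : h (σ x) v = a ^ 2 := by
      have := hσ.herm x v
      rwa [ho.2.1] at this
    have ha01 : a ^ 2 = a := by
      have e : h (σ x + a ^ 2 • v) v = a := by rw [hx]
      rwa [herm_add_left hF, herm_smul_left hF, ho.2.2.1, mul_zero, add_zero, e1] at e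
    rcases f4_bool ha01 with e | e
    · rw [e, zero_pow two_ne_zero, zero_smul, add_zero] at hx
      rw [ho.2.2.2 x hx, ← ha, e]
    · rw [e, one_pow, one_smul] at hx
      have hfix : σ (x + ω • v) = x + ω • v := by
        rw [hσ.add, hσ.smul, ho.2.1, hω, add_smul, one_smul]
        rw [show σ x + (ω • v + v) = σ x + v + ω • v by abel, hx]
      have := ho.2.2.2 _ hfix
      rw [herm_add_left hF, herm_add_right hF, herm_add_right hF, herm_smul_left hF,
        herm_smul_right hF, herm_smul_right hF, herm_smul_left hF, herm_add_left hF, herm_smul_left hF,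
        ho.2.2.1, herm_swap hF x v, ← ha, e] at this
      linear_combination this - hω - ω * f4_char hF

end Semilinear

end CfsgLib.Recog.Fi23Cent
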