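import Cfsg.Agent.Lib.Recog.Fi23Cent.CoordBasic
import Cfsg.Agent.Lib.Recog.Fi23Cent.CoordInvol

/-!
The members of `C(z)` as isometries and twisting maps, and the types of those squaring into `J`.
-/

set_option autoImplicit false

namespace CfsgLib.Recog.Fi23Cent

open Subgroup Cfsg
open CfsgLib.Recog.Fi22Cent (IsIsom)
open CfsgLib.Recog.U6Cent (transvec)

variable {G : Type*} [Group G] {F : Type*} [Field F] [Fintype F]

private theorem perm_three : ∀ p : Fin 3 → Fin 3, Function.Injective p →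
    (∃ i, p i = i) ∨ (∀ i, p i = i + 1) ∨ ∀ i, p i = i + 2 := by decide

namespace Setup

variable (S : Setup G F)

/-- A member of `C(z)` fixes an `e` or lies in a coset `c K` or `c² K`. -/
theorem fix_or_rot {g : G} (hg : g ∈ centralizer ({S.z} : Set G)) :
    (∃ i, g * S.e i * g⁻¹ = S.e i) ∨ ∃ n : ℕ, ∃ k ∈ S.K, g = S.c ^ n * k := by
  classical
  choose p hp using S.e_conj g hg
  have hinj : Function.Injective p := fun i j h => S.e_inj (by
    have := (hp i).trans ((congrArg S.e h).trans (hp j).symm)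
    exact mul_left_cancel (mul_right_cancel this))
  have rot : ∀ n : ℕ, (∀ i, g * S.e i * g⁻¹ = S.c ^ n * S.e i * (S.c ^ n)⁻¹) →
      ∃ n : ℕ, ∃ k ∈ S.K, g = S.c ^ n * k := fun n h => by
    refine ⟨n, (S.c ^ n)⁻¹ * g, S.e_ker _ (mul_mem (inv_mem (S.c_pow_mem n)) hg) fun i => ?_,
      (mul_inv_cancel_left _ _).symm⟩
    rw [show (S.c ^ n)⁻¹ * g * S.e i * ((S.c ^ n)⁻¹ * g)⁻¹ =
      (S.c ^ n)⁻¹ * (g * S.e i * g⁻¹) * S.c ^ n by group, h]
    group
  have key : ∀ n : ℕ, ∀ i : Fin 3, S.c ^ n * S.e i * (S.c ^ n)⁻¹ =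
      S.e ⟨((i : ℕ) + n) % 3, Nat.mod_lt _ (by norm_num)⟩ := S.c_pow_rot
  rcases perm_three p hinj with ⟨i, hi⟩ | h | h
  · exact Or.inl ⟨i, by rw [hp, hi]⟩
  · refine Or.inr (rot 1 fun i => ?_)
    rw [hp, key, h]
    exact congrArg S.e (Fin.ext (by rw [Fin.val_add]; rfl))
  · refine Or.inr (rot 2 fun i => ?_)
    rw [hp, key, h]
    exact congrArg S.e (Fin.ext (by rw [Fin.val_add]; rfl))

/-- A member of `C(z)` whose square lies in `J` fixes an `e`. -/
theorem exists_fixed {g : G} (hg : g ∈ centralizer ({S.z} : Set G)) (hgg : g * g ∈ S.J) :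
    ∃ i, g * S.e i * g⁻¹ = S.e i := by
  rcases S.fix_or_rot hg with h | ⟨n, k, hk, rfl⟩
  · exact h
  refine ⟨0, ?_⟩
  have hsq := S.K_fix (S.J_le hgg) 0
  have hk0 : ∀ i, k * S.e i * k⁻¹ = S.e i := S.K_fix hk
  have e2 : S.c ^ n * k * (S.c ^ n * k) * S.e 0 * (S.c ^ n * k * (S.c ^ n * k))⁻¹ =
      S.c ^ (n + n) * S.e 0 * (S.c ^ (n + n))⁻¹ := by
    rw [show S.c ^ n * k * (S.c ^ n * k) * S.e 0 * (S.c ^ n * k * (S.c ^ n * k))⁻¹ =
      S.c ^ n * (k * (S.c ^ n * (k * S.e 0 * k⁻¹) * (S.c ^ n)⁻¹) * k⁻¹) * (S.c ^ n)⁻¹ by group,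
      hk0, S.c_pow_rot, hk0, ← S.c_pow_rot, pow_add]
    group
  have hn : n % 3 = 0 := by
    have := S.c_pow_fix (e2.symm.trans hsq)
    omega
  rw [S.c_pow_one hn, one_mul, hk0]

end Setup

namespace FData

variable {S : Setup G F} (D : FData S)
include D

theorem act_eq_iff {g k : G} (hg : g ∈ centralizer ({S.z} : Set G)) (hk : k ∈ centralizer ({S.z} : Set G)) :
    (∀ v, D.act g v = D.act k v) ↔ k⁻¹ * g ∈ S.J := by
  rw [← D.act_one _ (mul_mem (inv_mem hk) hg)]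
  refine forall_congr' fun v => ⟨fun e => by rw [D.act_mul (inv_mem hk) hg, e, D.act_inv hk], fun e => ?_⟩
  rw [D.act_mul (inv_mem hk) hg] at e
  conv_rhs => rw [← e, ← D.act_mul hk (inv_mem hk), mul_inv_cancel, D.act_id]

theorem isom_act {g : G} (hg : g ∈ S.K) : IsIsom (D.act g) := by
  obtain ⟨M, hM⟩ := D.act_inner g hg
  rw [funext hM]
  exact Fi22Cent.isom_su M

theorem act_c_pow : ∃ k : F, k ≠ 0 ∧ k ≠ 1 ∧ ∀ (n : ℕ) v, D.act (S.c ^ n) v = k ^ n • v := by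
  obtain ⟨k, h0, h1, hk⟩ := D.act_c
  refine ⟨k, h0, h1, fun n => ?_⟩
  induction n with
  | zero => intro v; rw [pow_zero, pow_zero, one_smul, D.act_id]
  | succ n ih => intro v; rw [pow_succ', D.act_mul S.c_mem (S.c_pow_mem n), ih, hk, smul_smul, pow_succ']

/-- A member of `C(z)` outside `K` fixing some `e` twists. -/
theorem twist_act {g : G} (hg : g ∈ centralizer ({S.z} : Set G)) (hgK : g ∉ S.K) {i : Fin 3}
    (hi : g * S.e i * g⁻¹ = S.e i) : IsTwist (D.act g) :=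
  ⟨D.act_add hg, D.act_outer g hg hgK i hi, D.act_form g hg hgK i hi⟩

/-- Every member of `C(z)` acts as an isometry or twists. -/
theorem isom_or_twist {g : G} (hg : g ∈ centralizer ({S.z} : Set G)) :
    IsIsom (D.act g) ∨ (g ∉ S.K ∧ IsTwist (D.act g)) := by
  rcases S.fix_or_rot hg with ⟨i, hi⟩ | ⟨n, k, hk, rfl⟩
  · by_cases hK : g ∈ S.K
    · exact Or.inl (D.isom_act hK)
    · exact Or.inr ⟨hK, D.twist_act hg hK hi⟩
  obtain ⟨m, hm0, -, hm⟩ := D.act_c_pow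
  have hf := D.isom_act hk
  refine Or.inl ⟨D.act_add hg, fun a v => ?_, fun v w => ?_⟩
  · rw [D.act_mul (S.c_pow_mem n) (S.K_le hk), D.act_mul (S.c_pow_mem n) (S.K_le hk), hm, hm, hf.smul,
      smul_comm]
  · rw [D.act_mul (S.c_pow_mem n) (S.K_le hk), D.act_mul (S.c_pow_mem n) (S.K_le hk), hm, hm,
      U6Cent.herm_smul_left S.hF, U6Cent.herm_smul_right S.hF, hf.herm, ← mul_assoc,
      U6Cent.f4_norm S.hF (pow_ne_zero n hm0), one_mul]

theorem sq_act {g : G} (hg : g ∈ centralizer ({S.z} : Set G)) (hgg : g * g ∈ S.J) (v : Fin 4 → F) :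
    D.act g (D.act g v) = v := by rw [← D.act_mul hg hg, D.act_J hgg]

/-- An element of `K \ J` squaring into `J` is a transvection or fixes exactly a totally singular plane. -/
theorem inner_type {g : G} (hg : g ∈ S.K) (hgJ : g ∉ S.J) (hgg : g * g ∈ S.J) :
    D.IsTransv g ∨ ∃ L : Submodule F (Fin 4 → F), Module.finrank F L = 2 ∧
      (∀ u ∈ L, ∀ w ∈ L, hermForm 4 F 2 u w = 0) ∧ (∀ x, D.act g x = x ↔ x ∈ L) ∧
      ∀ x, x ∈ L ↔ ∃ y, y + D.act g y = x := by
  refine invol_linear S.hF (D.isom_act hg) (D.sq_act (S.K_le hg) hgg) ?_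
  by_contra h
  push Not at h
  exact hgJ ((D.act_one g (S.K_le hg)).1 h)

/-- An element outside `K` squaring into `J` acts as a conjugation of the space. -/
theorem outer_invol {g : G} (hg : g ∈ centralizer ({S.z} : Set G)) (hgK : g ∉ S.K) (hgg : g * g ∈ S.J) :
    IsConjInvol (D.act g) := by
  obtain ⟨i, hi⟩ := S.exists_fixed hg hgg
  exact ⟨D.twist_act hg hgK hi, D.sq_act hg hgg⟩

theorem outer_type {g : G} (hg : g ∈ centralizer ({S.z} : Set G)) (hgK : g ∉ S.K) (hgg : g * g ∈ S.J) :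
    IsSymp (D.act g) ∨ ∃ v, IsOrth (D.act g) v :=
  real_type S.hF (D.outer_invol hg hgK hgg)

theorem mem_K_of_transvec {g : G} (hg : g ∈ centralizer ({S.z} : Set G)) {v : Fin 4 → F}
    (hv : hermForm 4 F 2 v v = 0) (h : ∀ x, D.act g x = transvec v x) : g ∈ S.K := by
  obtain ⟨M, hM⟩ := U6Cent.exists_transvec_su S.hF hv
  obtain ⟨k, hk, e⟩ := D.act_surj M
  have := (D.act_eq_iff hg (S.K_le hk)).1 fun x => by rw [h, e, hM]
  rw [← mul_inv_cancel_left k g]
  exact mul_mem hk (S.J_le this)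

/-- What fixes the real form pointwise: `J`, or the elements acting as `g`. -/
theorem fix_real {g s : G} (hg : g ∈ centralizer ({S.z} : Set G)) (hgK : g ∉ S.K) (hgg : g * g ∈ S.J)
    (hs : s ∈ centralizer ({S.z} : Set G)) (hfix : ∀ x, D.act g x = x → D.act s x = x) :
    s ∈ S.J ∨ (s ∉ S.K ∧ ∀ x, D.act s x = D.act g x) := by
  have hσ := D.outer_invol hg hgK hgg
  rcases D.isom_or_twist hs with hf | ⟨hsK, hf⟩
  · exact Or.inl ((D.act_one s hs).1 (isom_fix_real S.hF hσ hf hfix))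
  · exact Or.inr ⟨hsK, twist_fix_real S.hF hσ hf hfix⟩

/-- What fixes the real vectors orthogonal to `v` for the orthogonal type: `J`, the transvection at `v`, the
elements acting as `g`, and the symplectic product. -/
theorem fix_hyperplane {g s : G} (hg : g ∈ centralizer ({S.z} : Set G)) (hgK : g ∉ S.K) (hgg : g * g ∈ S.J)
    {v : Fin 4 → F} (ho : IsOrth (D.act g) v) (hs : s ∈ centralizer ({S.z} : Set G))
    (hfix : ∀ x, D.act g x = x → hermForm 4 F 2 x v = 0 → D.act s x = x) :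
    s ∈ S.J ∨ (s ∈ S.K ∧ D.IsTransv s ∧ ∀ x, D.act s x = transvec v x) ∨
      (s ∉ S.K ∧ ∀ x, D.act s x = D.act g x) ∨
      (s ∉ S.K ∧ IsSymp (D.act s) ∧ ∀ x, D.act s x = D.act g (transvec v x)) := by
  have hσ := D.outer_invol hg hgK hgg
  rcases D.isom_or_twist hs with hf | ⟨hsK, hf⟩
  · rcases isom_fix_hyperplane S.hF hσ ho hf hfix with e | e
    · exact Or.inl ((D.act_one s hs).1 e)
    · exact Or.inr (Or.inl ⟨D.mem_K_of_transvec hs ho.2.2.1 e, ⟨v, ho.1, ho.2.2.1, e⟩, e⟩)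
  · rcases twist_fix_hyperplane S.hF hσ ho hf hfix with e | e
    · exact Or.inr (Or.inr (Or.inl ⟨hsK, e⟩))
    · refine Or.inr (Or.inr (Or.inr ⟨hsK, ?_, e⟩))
      rw [show D.act s = fun x => D.act g (transvec v x) from funext e]
      exact (orth_transvec_symp S.hF hσ ho).2

/-- The transvection at an isotropic real vector commutes with `g` modulo `J`. -/
theorem exists_transvec_cent {g : G} (hg : g ∈ centralizer ({S.z} : Set G)) (hgK : g ∉ S.K)
    (hgg : g * g ∈ S.J) {u : Fin 4 → F} (hu : D.act g u = u) (hiso : hermForm 4 F 2 u u = 0) :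
    ∃ k ∈ S.K, (∀ x, D.act k x = transvec u x) ∧ g * k * g⁻¹ * k⁻¹ ∈ S.J := by
  obtain ⟨M, hM⟩ := U6Cent.exists_transvec_su S.hF hiso
  obtain ⟨k, hk, e⟩ := D.act_surj M
  have he : ∀ x, D.act k x = transvec u x := fun x => by rw [e, hM]
  have hkH := S.K_le hk
  refine ⟨k, hk, he, ?_⟩
  have h1 : g⁻¹ * k⁻¹ * (g * k) ∈ S.J := by
    rw [← mul_inv_rev]
    refine (D.act_eq_iff (mul_mem hg hkH) (mul_mem hkH hg)).1 fun x => ?_
    rw [D.act_mul hg hkH, D.act_mul hkH hg, he, he, transvec_comm_real S.hF (D.outer_invol hg hgK hgg) hu]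
  have := S.J_normal _ (mul_mem hkH hg) _ h1
  rwa [show k * g * (g⁻¹ * k⁻¹ * (g * k)) * (k * g)⁻¹ = g * k * g⁻¹ * k⁻¹ by group] at this

end FData

end CfsgLib.Recog.Fi23Cent
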