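import Cfsg.Agent.Lib.Recog.Fi23Cent.CoordBasic
import Cfsg.Agent.Lib.Recog.U6Cent.Wrap
import Cfsg.Agent.Lib.Recog.U6Cent.NatAct

/-!
First facts: the stabiliser of `e i` in `C(z)`, normal two-subgroups of `K`, and the fusion of the central involutions.
-/

set_option autoImplicit false
set_option linter.unusedSectionVars false

namespace CfsgLib.Recog.Fi23Cent

open Subgroup Cfsg

variable {G : Type*} [Group G] [Finite G] {F : Type*} [Field F] [Fintype F]

theorem su_four_simple (hF : Fintype.card F = 4) : IsSimpleGroup (SU 4 F 2) := by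
  have hF' : Fintype.card F = 2 ^ 2 := hF
  haveI := CfsgLib.Classical.isSimpleGroup_psu hF' (n := 4) (by norm_num) (by norm_num)
  obtain ⟨e⟩ := U6Cent.nonempty_psu_four hF
  exact e.symm.isSimpleGroup

theorem fin_step : ∀ i : Fin 3, i + 2 + 1 = i := by decide

theorem fin_step' : ∀ i : Fin 3, i + 2 + 2 = i + 1 := by decide

theorem fin_other : ∀ i k l m : Fin 3, k ≠ i → l ≠ i → l ≠ k → m ≠ i → m ≠ k → m = l := by decide

theorem fin_cover : ∀ i j : Fin 3, j = i ∨ j = i + 1 ∨ j = i + 2 := by decide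

namespace Setup

variable (S : Setup G F)

theorem J_cent {x : G} (hx : x ∈ S.J) : x ∈ centralizer ({S.z} : Set G) := S.K_le (S.J_le hx)

theorem z_inv : S.z⁻¹ = S.z := inv_eq_of_mul_eq_one_right S.z_sq

theorem e_inv (i : Fin 3) : (S.e i)⁻¹ = S.e i := inv_eq_of_mul_eq_one_right (S.e_sq i)

theorem z_e_comm (i : Fin 3) : S.z * S.e i = S.e i * S.z := S.e_central i _ S.z_mem

theorem d_mem (i : Fin 3) : S.d i ∈ S.J := mul_mem S.z_mem (S.e_mem i)

theorem d_central (i : Fin 3) : ∀ x ∈ S.J, x * S.d i = S.d i * x := fun x hx => by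
  rw [d, ← mul_assoc, S.z_comm (S.J_cent hx), mul_assoc, S.e_central i x hx, ← mul_assoc]

theorem d_sq (i : Fin 3) : S.d i * S.d i = 1 := by
  rw [d, mul_assoc, ← mul_assoc (S.e i), ← S.z_e_comm, mul_assoc S.z, S.e_sq, mul_one, S.z_sq]

theorem d_ne (i : Fin 3) : S.d i ≠ 1 := fun h => S.e_ne_z i (by
  rw [← inv_eq_of_mul_eq_one_right h, S.z_inv])

theorem d_ne_z (i : Fin 3) : S.d i ≠ S.z := fun h => S.e_ne i (mul_eq_left.1 h)

theorem z_mul_d (i : Fin 3) : S.z * S.d i = S.e i := by rw [d, ← mul_assoc, S.z_sq, one_mul]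

theorem e_mul_d (i : Fin 3) : S.e i * S.d i = S.z := by
  rw [d, ← mul_assoc, ← S.z_e_comm, mul_assoc, S.e_sq, mul_one]

theorem e_mul_cases (i j : Fin 3) : S.e i * S.e j = 1 ∨ ∃ k, S.e i * S.e j = S.e k := by
  rcases fin_cover i j with rfl | rfl | rfl
  · exact Or.inl (S.e_sq j)
  · exact Or.inr ⟨_, S.e_mul i⟩
  · refine Or.inr ⟨i + 1, ?_⟩
    have h := S.e_mul (i + 2)
    rw [fin_step, fin_step',
      S.e_comm] at h
    exact h

theorem d_ne_e (i j : Fin 3) : S.d i ≠ S.e j := fun h => by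
  have hz : S.z = S.e j * S.e i := by rw [← h, d, mul_assoc, S.e_sq, mul_one]
  rcases S.e_mul_cases j i with e | ⟨k, e⟩
  · exact S.z_ne (hz.trans e)
  · exact S.e_ne_z k (hz.trans e).symm

theorem isPGroup_J : IsPGroup 2 S.J := IsPGroup.of_card (n := 11) (by rw [S.card_J]; norm_num)

/-- The centre of `J` as a finite set of at most eight elements. -/
theorem center_card : {x : G | x ∈ S.J ∧ ∀ y ∈ S.J, x * y = y * x}.ncard ≤ 8 := by
  classical
  have h : {x : G | x ∈ S.J ∧ ∀ y ∈ S.J, x * y = y * x} ⊆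
      ↑(({1, S.z} : Finset G) ∪ Finset.univ.image S.e ∪ Finset.univ.image S.d) := fun x hx => by
    simp only [Finset.coe_union, Finset.coe_insert, Finset.coe_singleton, Finset.coe_image,
      Finset.coe_univ, Set.image_univ, Set.mem_union, Set.mem_insert_iff, Set.mem_singleton_iff,
      Set.mem_range]
    rcases S.center x hx.1 hx.2 with e | e | ⟨i, e | e⟩
    exacts [Or.inl (Or.inl (Or.inl e)), Or.inl (Or.inl (Or.inr e)), Or.inl (Or.inr ⟨i, e.symm⟩),
      Or.inr ⟨i, e.symm⟩]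
  refine (Set.ncard_le_ncard h (Set.toFinite _)).trans ?_
  rw [Set.ncard_coe_finset]
  refine (Finset.card_union_le _ _).trans ?_
  have h1 := Finset.card_union_le ({1, S.z} : Finset G) (Finset.univ.image S.e)
  have h2 : ({1, S.z} : Finset G).card ≤ 2 := Finset.card_le_two
  have h3 : (Finset.univ.image S.e).card ≤ 3 := Finset.card_image_le.trans (by simp)
  have h4 : (Finset.univ.image S.d).card ≤ 3 := Finset.card_image_le.trans (by simp)
  omega

/-- An abelian subgroup of `J` of index at most four is impossible. -/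
theorem abelian_small (A : Subgroup G) (hA : A ≤ S.J) (hab : ∀ x ∈ A, ∀ y ∈ A, x * y = y * x) :
    Nat.card A < 342 := by
  classical
  by_contra hlt
  push Not at hlt
  haveI := Fintype.ofFinite (S.J ⧸ A.subgroupOf S.J)
  have hq : Nat.card (S.J ⧸ A.subgroupOf S.J) ≤ 5 := by
    have h := (A.subgroupOf S.J).index_mul_card
    rw [Nat.card_congr (subgroupOfEquivOfLe hA).toEquiv, S.card_J] at h
    change (A.subgroupOf S.J).index ≤ 5
    by_contra hc
    have := Nat.mul_le_mul (not_le.1 hc) hlt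
    omega
  let Z := {x : G | x ∈ S.J ∧ ∀ y ∈ S.J, x * y = y * x}
  let φ : A → (S.J ⧸ A.subgroupOf S.J) → Bool := fun a q =>
    decide ((a : G) * (q.out : G) = (q.out : G) * a)
  have hfib : ∀ a b : A, φ a = φ b → (a : G)⁻¹ * b ∈ Z := fun a b e => by
    refine ⟨mul_mem (inv_mem (hA a.2)) (hA b.2), fun y hy => ?_⟩
    obtain ⟨q, hq⟩ : ∃ q, (QuotientGroup.mk (⟨y, hy⟩ : S.J) : S.J ⧸ A.subgroupOf S.J) = q := ⟨_, rfl⟩
    set j : G := (q.out : G) with hj
    have hjJ : j ∈ S.J := q.out.2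
    have hA' : j⁻¹ * y ∈ A := by
      have h1 : (QuotientGroup.mk q.out : S.J ⧸ A.subgroupOf S.J) = QuotientGroup.mk (⟨y, hy⟩ : S.J) := by
        rw [QuotientGroup.out_eq', hq]
      exact mem_subgroupOf.1 (QuotientGroup.eq.1 h1)
    have hcj : (a : G)⁻¹ * b * j = j * ((a : G)⁻¹ * b) := by
      have e' : decide ((a : G) * j = j * a) = decide ((b : G) * j = j * b) := congrFun e q
      rw [decide_eq_decide] at e'
      by_cases h : (a : G) * j = j * a
      · exact ((Commute.inv_left h).mul_left (e'.1 h)).eq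
      · have ea := (S.comm_or _ (hA a.2) _ hjJ).resolve_left h
        have eb := (S.comm_or _ (hA b.2) _ hjJ).resolve_left fun x => h (e'.2 x)
        calc (a : G)⁻¹ * b * j = (a : G)⁻¹ * (j * (b * S.z)) := by rw [mul_assoc, eb, mul_assoc]
          _ = (a : G)⁻¹ * (j * (S.z * b)) := by rw [S.z_comm (S.J_cent (hA b.2))]
          _ = (a : G)⁻¹ * ((j * a) * S.z) * ((a : G)⁻¹ * b) := by
            rw [mul_assoc j (a : G), S.z_comm (S.J_cent (hA a.2))]
            group
          _ = j * ((a : G)⁻¹ * b) := by rw [← ea]; group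
    have hjy : y = j * (j⁻¹ * y) := by group
    rw [hjy, ← mul_assoc ((a : G)⁻¹ * b), hcj, mul_assoc,
      hab _ (mul_mem (inv_mem a.2) b.2) _ hA']
    group
  obtain ⟨f, hf⟩ : ∃ f : A → ((S.J ⧸ A.subgroupOf S.J) → Bool) × Z, Function.Injective f := by
    have hsec : ∀ c, ∃ a0 : A, ∀ a : A, φ a = c → φ a0 = c := fun c => by
      by_cases h : ∃ a : A, φ a = c
      · obtain ⟨a, ha⟩ := h; exact ⟨a, fun _ _ => ha⟩
      · exact ⟨1, fun a ha => absurd ⟨a, ha⟩ h⟩
    choose a0 ha0 using hsec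
    refine ⟨fun a => (φ a, ⟨(a0 (φ a) : G)⁻¹ * a, hfib _ _ (ha0 _ a rfl)⟩), fun a b e => ?_⟩
    simp only [Prod.mk.injEq, Subtype.mk.injEq] at e
    rw [e.1] at e
    exact Subtype.ext (mul_left_cancel e.2)
  have h1 := Nat.card_le_card_of_injective f hf
  rw [Nat.card_prod, Nat.card_fun, Nat.card_eq_fintype_card (α := Bool), Fintype.card_bool,
    Nat.card_coe_set_eq] at h1
  have h2 : 2 ^ Nat.card (S.J ⧸ A.subgroupOf S.J) ≤ 2 ^ 5 := Nat.pow_le_pow_right two_pos hq
  have h3 := Nat.mul_le_mul h2 S.center_card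
  simp only [Z] at h1
  linarith [h1.trans h3]

/-- A two-subgroup of `K` normalised by `K` lies in `J`. -/
theorem two_le_J (R : Subgroup G) (hR : R ≤ S.K) (h2 : IsPGroup 2 R)
    (hn : ∀ g ∈ S.K, ∀ x ∈ R, g * x * g⁻¹ ∈ R) : R ≤ S.J := by
  haveI := su_four_simple S.hF
  haveI : Finite (SU 4 F 2) := Finite.of_surjective _ S.psi_surj
  let R' : Subgroup S.K := R.subgroupOf S.K
  haveI : R'.Normal := ⟨fun x hx g => hn g g.2 x hx⟩
  have hRn : (R'.map S.psi).Normal := Subgroup.Normal.map inferInstance _ S.psi_surj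
  have hR' : IsPGroup 2 (R'.map S.psi) := (h2.of_equiv (subgroupOfEquivOfLe hR).symm).map _
  rcases hRn.eq_bot_or_eq_top with h | h
  · intro x hx
    refine (S.psi_ker ⟨x, hR hx⟩).1 ?_
    have : S.psi ⟨x, hR hx⟩ ∈ R'.map S.psi := mem_map_of_mem _ hx
    rwa [h, mem_bot] at this
  · exfalso
    rw [h] at hR'
    obtain ⟨n, hn⟩ := IsPGroup.iff_card.1 hR'
    rw [card_top, U6Cent.card_su_four S.hF] at hn
    have : 3 ∣ 2 ^ n := hn ▸ (by norm_num)
    exact absurd (Nat.prime_three.dvd_of_dvd_pow this) (by norm_num)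

/-- A central involution of `J` other than `z` is not conjugate to `z`. -/
theorem not_conj_aux {u : G} (hu : u ≠ S.z) (hK : S.K ≤ centralizer ({u} : Set G)) :
    ¬ IsConj S.z u := by
  intro hc
  obtain ⟨g, hg⟩ := isConj_iff.1 hc
  set φ := (MulAut.conj g).toMonoidHom
  have hφ : ∀ x, φ x = g * x * g⁻¹ := fun x => rfl
  set J' := S.J.map φ with hJ'
  set C := centralizer ({u} : Set G)
  have hmapC : (centralizer ({S.z} : Set G)).map φ = C := by
    ext x
    constructor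
    · rintro ⟨y, hy, rfl⟩
      rw [mem_centralizer_singleton_iff, hφ, ← hg]
      calc g * y * g⁻¹ * (g * S.z * g⁻¹) = g * (y * S.z) * g⁻¹ := by group
        _ = g * (S.z * y) * g⁻¹ := by rw [mem_centralizer_singleton_iff.1 hy]
        _ = g * S.z * g⁻¹ * (g * y * g⁻¹) := by group
    · intro hx
      refine ⟨g⁻¹ * x * g, mem_centralizer_singleton_iff.2 ?_, by rw [hφ]; group⟩
      have h := mem_centralizer_singleton_iff.1 hx
      rw [← hg] at h
      calc g⁻¹ * x * g * S.z = g⁻¹ * (x * (g * S.z * g⁻¹)) * g := by group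
        _ = S.z * (g⁻¹ * x * g) := by rw [h]; group
  have hJC : J' ≤ C := hmapC ▸ map_mono (S.J_le.trans S.K_le)
  have hJ'n : ∀ c ∈ C, ∀ x ∈ J', c * x * c⁻¹ ∈ J' := by
    rw [← hmapC]
    rintro _ ⟨c, hc, rfl⟩ _ ⟨x, hx, rfl⟩
    exact ⟨c * x * c⁻¹, S.J_normal c hc x hx, by simp⟩
  set A := J' ⊓ S.K with hA
  have hAJ : A ≤ S.J := S.two_le_J A inf_le_right ((S.isPGroup_J.map φ).to_le inf_le_left) fun k hk x hx =>
    mem_inf.2 ⟨hJ'n k (hK hk) x (mem_inf.1 hx).1, mul_mem (mul_mem hk (mem_inf.1 hx).2) (inv_mem hk)⟩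
  have hab : ∀ x ∈ A, ∀ y ∈ A, x * y = y * x := fun x hx y hy => by
    rcases S.comm_or x (hAJ hx) y (hAJ hy) with e | e
    · exact e
    exfalso
    obtain ⟨x', hx', rfl⟩ := (mem_inf.1 hx).1
    obtain ⟨y', hy', rfl⟩ := (mem_inf.1 hy).1
    rcases S.comm_or x' hx' y' hy' with e' | e'
    · rw [← map_mul, e', map_mul] at e
      exact S.z_ne (mul_eq_left.1 e.symm)
    · rw [← map_mul, e', map_mul, map_mul, mul_right_inj, hφ S.z, hg] at e
      exact hu e
  have hKC : S.K.relIndex C = 6 := by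
    have h := (S.K.subgroupOf C).index_mul_card
    rw [Nat.card_congr (subgroupOfEquivOfLe hK).toEquiv, S.card_K, ← hmapC,
      ← Nat.card_congr ((centralizer ({S.z} : Set G)).equivMapOfInjective φ
      (MulAut.conj g).injective).toEquiv, S.card_H, hmapC] at h
    change S.K.relIndex C * _ = _ at h
    omega
  have h6 : A.relIndex J' ≤ 6 := by
    rw [hA, inf_relIndex_left]
    have := relIndex_le_of_le_right (H := S.K) hJC (by rw [hKC]; norm_num)
    rwa [hKC] at this
  have h := (A.subgroupOf J').index_mul_card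
  rw [Nat.card_congr (subgroupOfEquivOfLe (inf_le_left : A ≤ J')).toEquiv,
    ← Nat.card_congr (S.J.equivMapOfInjective φ (MulAut.conj g).injective).toEquiv, S.card_J] at h
  change A.relIndex J' * _ = _ at h
  have := S.abelian_small A hAJ hab
  nlinarith

theorem not_conj_e (i : Fin 3) : ¬ IsConj S.z (S.e i) := S.not_conj_aux (S.e_ne_z i) (S.K_cent i)

theorem K_cent_d (i : Fin 3) : S.K ≤ centralizer ({S.d i} : Set G) := fun g hg =>
  mem_centralizer_singleton_iff.2 <| by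
    rw [d, ← mul_assoc, S.z_comm (S.K_le hg), mul_assoc, mem_centralizer_singleton_iff.1 (S.K_cent i hg),
      ← mul_assoc]

theorem not_conj_d (i : Fin 3) : ¬ IsConj S.z (S.d i) := S.not_conj_aux (S.d_ne_z i) (S.K_cent_d i)

/-- The stabiliser of `e i` in `C(z)`. -/
def Stab (i : Fin 3) : Subgroup G := centralizer ({S.z} : Set G) ⊓ centralizer ({S.e i} : Set G)

theorem K_le_stab (i : Fin 3) : S.K ≤ S.Stab i := le_inf S.K_le (S.K_cent i)

theorem c_rot_fin (k i : Fin 3) : S.c ^ (k : ℕ) * S.e i * (S.c ^ (k : ℕ))⁻¹ = S.e (i + k) := by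
  fin_cases k
  · simp
  · simpa using S.c_rot i
  · simp only
    rw [pow_two, show S.c * S.c * S.e i * (S.c * S.c)⁻¹ = S.c * (S.c * S.e i * S.c⁻¹) * S.c⁻¹ by group,
      S.c_rot, S.c_rot, add_assoc]
    rfl

theorem card_stab (i : Fin 3) : Nat.card (S.Stab i) = 106168320 := by
  set H := centralizer ({S.z} : Set G)
  have hbij : Function.Bijective (fun p : Fin 3 × S.Stab i =>
      (⟨S.c ^ (p.1 : ℕ) * p.2, mul_mem (pow_mem S.c_mem _) (mem_inf.1 p.2.2).1⟩ : H)) := by
    constructor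
    · rintro ⟨k, x⟩ ⟨l, y⟩ h
      have h' : S.c ^ (k : ℕ) * (x : G) = S.c ^ (l : ℕ) * y := congrArg Subtype.val h
      have e : ∀ (m : Fin 3) (w : S.Stab i), (S.c ^ (m : ℕ) * (w : G)) * S.e i * (S.c ^ (m : ℕ) * (w : G))⁻¹ =
          S.e (i + m) := fun m w => by
        rw [show (S.c ^ (m : ℕ) * (w : G)) * S.e i * (S.c ^ (m : ℕ) * (w : G))⁻¹ =
          S.c ^ (m : ℕ) * ((w : G) * S.e i * (w : G)⁻¹) * (S.c ^ (m : ℕ))⁻¹ by group,
          mem_centralizer_singleton_iff.1 (mem_inf.1 w.2).2, mul_inv_cancel_right, S.c_rot_fin]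
      have hkl : k = l := add_left_cancel (S.e_inj ((e k x).symm.trans (h' ▸ e l y)))
      subst hkl
      exact Prod.ext rfl (Subtype.ext (mul_left_cancel h'))
    · rintro ⟨g, hg⟩
      obtain ⟨j, hj⟩ := S.e_conj g hg i
      refine ⟨(j - i, ⟨(S.c ^ ((j - i : Fin 3) : ℕ))⁻¹ * g,
        mem_inf.2 ⟨mul_mem (inv_mem (pow_mem S.c_mem _)) hg, mem_centralizer_singleton_iff.2 ?_⟩⟩),
        Subtype.ext (mul_inv_cancel_left _ _)⟩
      have h := S.c_rot_fin (j - i) i
      rw [add_sub_cancel, ← hj] at h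
      calc (S.c ^ ((j - i : Fin 3) : ℕ))⁻¹ * g * S.e i
          = (S.c ^ ((j - i : Fin 3) : ℕ))⁻¹ * (g * S.e i * g⁻¹) * g := by group
        _ = S.e i * ((S.c ^ ((j - i : Fin 3) : ℕ))⁻¹ * g) := by rw [← h]; group
  have h := Nat.card_congr (Equiv.ofBijective _ hbij)
  rw [Nat.card_prod, Nat.card_fin, S.card_H] at h
  omega

/-- The centre of a Sylow subgroup of the stabiliser of `e i`. -/
theorem center_stab {i : Fin 3} {T : Subgroup G} (hT : T ≤ S.Stab i) (hc : Nat.card T = 262144)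
    {x : G} (hx : x ∈ T) (hxc : ∀ t ∈ T, x * t = t * x) (hJ : S.J ≤ T) :
    x = 1 ∨ x = S.z ∨ x = S.e i ∨ x = S.d i := by
  have hxJ : x ∈ S.J := S.self_cent (mem_inf.2 ⟨(mem_inf.1 (hT hx)).1,
    mem_centralizer_iff.2 fun j hj => (hxc j (hJ hj)).symm⟩)
  obtain ⟨t, ht, htK⟩ : ∃ t ∈ T, t ∉ S.K := by
    by_contra! h
    have h1 := Subgroup.card_dvd_of_le (show T ≤ S.K from h)
    rw [hc, S.card_K] at h1
    norm_num at h1
  obtain ⟨htz, hti⟩ := mem_inf.1 (hT ht)
  have hfix : ∀ k, t * S.e k * t⁻¹ = S.e k → k = i := fun k hk => by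
    by_contra hne
    refine htK (S.e_ker t htz fun l => ?_)
    have hi' := mul_inv_eq_iff_eq_mul.2 (mem_centralizer_singleton_iff.1 hti)
    obtain ⟨m, hm⟩ := S.e_conj t htz l
    rw [hm]
    congr 1
    by_cases h1 : l = i
    · subst h1; exact S.e_inj (hm.symm.trans hi')
    by_cases h2 : l = k
    · subst h2; exact S.e_inj (hm.symm.trans hk)
    have h3 : m ≠ i := fun e => h1 (S.e_inj ((MulAut.conj t).injective ((e ▸ hm).trans hi'.symm)))
    have h4 : m ≠ k := fun e => h2 (S.e_inj ((MulAut.conj t).injective ((e ▸ hm).trans hk.symm)))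
    exact fin_other i k l m hne h1 h2 h3 h4
  rcases S.center x hxJ (fun y hy => hxc y (hJ hy)) with h | h | ⟨k, h | h⟩
  · exact Or.inl h
  · exact Or.inr (Or.inl h)
  · have := hfix k (by rw [← h, ← hxc t ht, mul_inv_cancel_right])
    exact Or.inr (Or.inr (Or.inl (by rw [h, this])))
  · have hk : t * S.e k * t⁻¹ = S.e k := by
      have e : S.e k = S.z * x := by rw [h, ← mul_assoc, S.z_sq, one_mul]
      rw [e, ← mul_assoc, S.z_comm htz, mul_assoc S.z, ← hxc t ht, mul_assoc, mul_inv_cancel_right]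
    exact Or.inr (Or.inr (Or.inr (by rw [h, hfix k hk]; rfl)))

/-- A Sylow subgroup of the stabiliser of `e i` is one of the group, with normalizer in `C(z)`. -/
theorem exists_sylow (i : Fin 3) : ∃ T : Sylow 2 G, (T : Subgroup G) ≤ S.Stab i ∧ S.J ≤ T ∧
    Nat.card T = 262144 ∧ normalizer ((T : Subgroup G) : Set G) ≤ centralizer ({S.z} : Set G) := by
  haveI : Fact (Nat.Prime 2) := ⟨Nat.prime_two⟩
  set L := S.Stab i
  have hJp : IsPGroup 2 (S.J.subgroupOf L) :=
    S.isPGroup_J.of_equiv (subgroupOfEquivOfLe (S.J_le.trans (S.K_le_stab i))).symm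
  obtain ⟨P, hP⟩ := hJp.exists_le_sylow
  set T := (P : Subgroup L).map L.subtype with hT
  have hTL : T ≤ L := map_subtype_le _
  have hJT : S.J ≤ T := fun x hx =>
    ⟨⟨x, S.K_le_stab i (S.J_le hx)⟩, hP (mem_subgroupOf.2 hx), rfl⟩
  have hTc : Nat.card T = 262144 := by
    rw [← Nat.card_congr ((P : Subgroup L).equivMapOfInjective L.subtype L.subtype_injective).toEquiv,
      P.card_eq_multiplicity, S.card_stab i, show (106168320 : ℕ).factorization 2 = 18 by
        rw [show (106168320 : ℕ) = 2 ^ 18 * 405 by norm_num, Nat.factorization_mul (by norm_num)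
          (by norm_num), Finsupp.add_apply, Nat.factorization_pow_self (by norm_num),
          Nat.factorization_eq_zero_of_not_dvd (by norm_num)]]
    norm_num
  have hN : normalizer (T : Set G) ≤ centralizer ({S.z} : Set G) := fun n hn => by
    have hzT : n * S.z * n⁻¹ ∈ T := (mem_normalizer_iff.1 hn _).1 (hJT S.z_mem)
    have hcz : ∀ t ∈ T, n * S.z * n⁻¹ * t = t * (n * S.z * n⁻¹) := fun t ht => by
      have h1 : n⁻¹ * t * n ∈ T := (mem_normalizer_iff''.1 hn t).1 ht
      calc n * S.z * n⁻¹ * t = n * (S.z * (n⁻¹ * t * n)) * n⁻¹ := by group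
        _ = t * (n * S.z * n⁻¹) := by rw [← S.z_comm (mem_inf.1 (hTL h1)).1]; group
    rcases S.center_stab hTL hTc hzT hcz hJT with h | h | h | h
    · exact absurd (conj_eq_one_iff.1 h) S.z_ne
    · exact mem_centralizer_singleton_iff.2 (mul_inv_eq_iff_eq_mul.1 h)
    · exact absurd (isConj_iff.2 ⟨n, h⟩) (S.not_conj_e i)
    · exact absurd (isConj_iff.2 ⟨n, h⟩) (S.not_conj_d i)
  have hTp : IsPGroup 2 T := IsPGroup.of_card (n := 18) (by rw [hTc]; norm_num)
  obtain ⟨Q, hQ⟩ := hTp.exists_le_sylow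
  have hQT : (Q : Subgroup G) = T := by
    refine le_antisymm ?_ hQ
    by_contra hne
    have hlt : T.subgroupOf (Q : Subgroup G) < ⊤ := lt_top_iff_ne_top.2 fun h =>
      hne (subgroupOf_eq_top.1 h)
    haveI := Q.isPGroup'.isNilpotent
    obtain ⟨⟨x, hxQ⟩, hxn, hxT⟩ := SetLike.exists_of_lt
      (Group.normalizerCondition_of_isNilpotent _ hlt)
    have hxN : x ∈ normalizer (T : Set G) := mem_normalizer_iff.2 fun y => by
      constructor
      · intro hy
        exact mem_subgroupOf.1 ((mem_normalizer_iff.1 hxn ⟨y, hQ hy⟩).1 hy)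
      · intro hy
        have hyQ : y ∈ (Q : Subgroup G) := by
          have := mul_mem (mul_mem (inv_mem hxQ) (hQ hy)) hxQ
          simpa [mul_assoc] using this
        exact mem_subgroupOf.1 ((mem_normalizer_iff.1 hxn ⟨y, hyQ⟩).2 hy)
    have hxH := hN hxN
    have h2 : IsPGroup 2 (T ⊔ zpowers x : Subgroup G) := Q.isPGroup'.to_le (sup_le hQ (zpowers_le.2 hxQ))
    obtain ⟨m, hm⟩ := IsPGroup.iff_card.1 h2
    have hdvd : 2 ^ m ∣ 318504960 := by
      rw [← hm, ← S.card_H]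
      exact card_dvd_of_le (sup_le (hTL.trans inf_le_left) (zpowers_le.2 hxH))
    have hm18 : m ≤ 18 := by
      by_contra h
      exact absurd ((pow_dvd_pow 2 (show 19 ≤ m by omega)).trans hdvd) (by norm_num)
    have hle := Nat.pow_le_pow_right (show 2 > 0 by norm_num) hm18
    have heq : T = T ⊔ zpowers x := eq_of_le_of_card_ge le_sup_left (by rw [hm, hTc]; omega)
    exact hxT (mem_subgroupOf.2 (heq ▸ (le_sup_right : zpowers x ≤ _) (mem_zpowers x)))
  exact ⟨Q, by rw [hQT]; exact hTL, by rw [hQT]; exact hJT, by rw [show Nat.card Q = Nat.card (Q : Subgroup G) from rfl, hQT, hTc],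
    by rw [hQT]; exact hN⟩

theorem not_conj_de (i j : Fin 3) : ¬ IsConj (S.d i) (S.e j) := by
  intro hc
  obtain ⟨T, hTL, hJT, -, hN⟩ := S.exists_sylow i
  have hcij : IsConj (S.d i) (S.e i) := hc.trans (isConj_iff.2 ⟨S.c ^ ((i - j : Fin 3) : ℕ), by
    rw [S.c_rot_fin, add_sub_cancel]⟩)
  have hcen : ∀ u ∈ S.J, (∀ t ∈ (T : Subgroup G), u * t = t * u) → u ∈ centralizer ((T : Subgroup G) : Set G) :=
    fun u _ h => mem_centralizer_iff.2 fun t ht => (h t ht).symm
  have he : ∀ t ∈ (T : Subgroup G), S.e i * t = t * S.e i := fun t ht =>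
    (mem_centralizer_singleton_iff.1 (mem_inf.1 (hTL ht)).2).symm
  have hd : ∀ t ∈ (T : Subgroup G), S.d i * t = t * S.d i := fun t ht => by
    rw [d, mul_assoc, he t ht, ← mul_assoc, ← S.z_comm (mem_inf.1 (hTL ht)).1, mul_assoc]
  obtain ⟨g, hg⟩ := isConj_iff.1 hcij
  haveI : Fact (Nat.Prime 2) := ⟨Nat.prime_two⟩
  obtain ⟨n, hn, he'⟩ := T.conj_eq_normalizer_conj_of_mem_centralizer (S.d i) g⁻¹
    (hcen _ (S.d_mem i) hd) (by rw [inv_inv, hg]; exact hcen _ (S.e_mem i) he)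
  rw [inv_inv, hg] at he'
  obtain ⟨k, hk⟩ := S.e_conj n (hN hn) i
  refine S.d_ne_e i k ?_
  rw [← hk, he', show n * (n⁻¹ * S.d i * n) * n⁻¹ = S.d i by group]

end Setup

end CfsgLib.Recog.Fi23Cent
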