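import Cfsg.Agent.Lib.Recog.Fi22Cent.LocGeom

/-!
Products of two orthogonal transvections produced from one transvection and a diagonal element of order three,
and the maps fixing `(1,1,0,0)` commuting with all of them.
-/

set_option autoImplicit false
set_option linter.unusedSectionVars false

namespace CfsgLib.Recog.Fi23Cent

open Cfsg CfsgLib.Recog.U6Cent
open CfsgLib.Recog.Fi22Cent (IsIsom va vb ve0 ve2 ve3)

variable {F : Type*} [Field F] [Fintype F] (hF : Fintype.card F = 4)
include hF

private theorem isom_transvec_comm {f : (Fin 4 → F) → Fin 4 → F} (hf : IsIsom f) (v x : Fin 4 → F) :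
    f (transvec v x) = transvec (f v) (f x) := by
  unfold transvec; rw [hf.add, hf.smul, hf.herm]

private theorem isom_diag {w : F} (hw : w ≠ 0) :
    IsIsom fun (x : Fin 4 → F) (i : Fin 4) => (![1, 1, w, w ^ 2] : Fin 4 → F) i * x i where
  add x y := funext fun i => mul_add _ _ _
  smul k x := funext fun i => mul_left_comm _ _ _
  herm x y := by
    refine Finset.sum_congr rfl fun i _ => ?_
    show _ * x i * (_ * y i) ^ 2 = x i * y i ^ 2
    have hd : (![1, 1, w, w ^ 2] : Fin 4 → F) i ≠ 0 := by fin_cases i <;> simp [hw]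
    linear_combination (x i * y i ^ 2) * f4_norm hF hd

/-- The product of two orthogonal transvections from a transvection and an element of order three. -/
theorem comm_transvec {w a g : F} (h1 : w ≠ 1) (h0 : w ≠ 0) (_ha : a ≠ 0) (hg : g ≠ 0) (x : Fin 4 → F) :
    let C : (Fin 4 → F) → Fin 4 → F := fun x i => (![1, 1, w, w ^ 2] : Fin 4 → F) i * x i
    let T : (Fin 4 → F) → Fin 4 → F := transvec ![a, a, 1, g]
    C (T (C (T (C (C (T (C (C (T x))))))))) = transvec ![a, a, 1, g] (transvec ![0, 0, 1, g] x) := by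
  intro C T
  have hC : IsIsom C := isom_diag hF h0
  have hsum : w ^ 2 + w + 1 = 0 := by
    have h3 := f4_norm hF h0
    exact (mul_eq_zero.1 (show (w + 1) * (w ^ 2 + w + 1) = 0 by
      linear_combination h3 + (w ^ 2 + w + 1) * f4_char hF)).resolve_left fun e =>
        h1 (f4_eq_of_add_zero hF e)
  have hC3 : ∀ v, C (C (C v)) = v := fun v => funext fun i => by
    show _ * (_ * (_ * v i)) = v i
    have hd : (![1, 1, w, w ^ 2] : Fin 4 → F) i ≠ 0 := by fin_cases i <;> simp [h0]
    linear_combination v i * f4_norm hF hd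
  have hcom : ∀ v y, C (transvec v y) = transvec (C v) (C y) := isom_transvec_comm hF hC
  set q : Fin 4 → F := ![a, a, 1, g] with hq
  set p : Fin 4 → F := ![0, 0, 1, g] with hp
  have hqq : hermForm 4 F 2 q q = 0 := by
    simp [hermForm, hq, Fin.sum_univ_four]
    linear_combination f4_norm hF hg + (a ^ 3 + 1) * f4_char hF
  have hCC : hermForm 4 F 2 (C (C q)) (C q) = 1 := by
    rw [hC.herm]
    simp [hermForm, hq, C, Fin.sum_univ_four]
    linear_combination hsum + w ^ 2 * f4_norm hF hg + (a ^ 3 - 1) * f4_char hF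
  have hsumv : C (C q) + C q = p := funext fun i => by
    fin_cases i <;> simp [hq, hp, C, f4_add_self hF]
    · linear_combination hsum - f4_char hF
    · linear_combination g * hsum + g * f4_pow hF w - g * f4_char hF
  have hiso : IsIsom (transvec (C q)) := Fi22Cent.isom_transvec hF (by rw [hC.herm, hqq])
  have hconj : ∀ y, transvec (C q) (transvec (C (C q)) (transvec (C q) y)) = transvec p y := fun y => by
    rw [isom_transvec_comm hF hiso, Fi22Cent.transvec_invol hF (by rw [hC.herm, hqq])]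
    rw [show transvec (C q) (C (C q)) = p by rw [transvec, hCC, one_smul, hsumv]]
  have hpq : hermForm 4 F 2 p q = 0 := by
    simp [hermForm, hq, hp, Fin.sum_univ_four]
    linear_combination f4_norm hF hg + f4_char hF
  show C (transvec q (C (transvec q (C (C (transvec q (C (C (transvec q x))))))))) = _
  simp only [hcom, hC3]
  rw [hconj]
  unfold transvec
  rw [herm_add_left hF, herm_smul_left hF, herm_add_left hF, herm_smul_left hF, hpq,
    herm_orth_symm hF hpq, mul_zero, mul_zero, add_zero, add_zero, add_right_comm]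

/-- The value of the product. -/
theorem pair_apply {a g : F} (ha : a ≠ 0) (hg : g ≠ 0) (x : Fin 4 → F) :
    transvec ![a, a, 1, g] (transvec ![0, 0, 1, g] x) =
      x + ((x 2 + g ^ 2 * x 3) * a) • va + ((x 0 + x 1) * a ^ 2) • (![a, a, 1, g] : Fin 4 → F) := by
  refine funext fun i => ?_
  have ha3 := f4_norm hF ha
  have hg3 := f4_norm hF hg
  have h2 := f4_char hF
  fin_cases i <;>
    simp [transvec, hermForm, va, Fin.sum_univ_four] <;> grind

/-- What commutes with all the products and fixes `(1,1,0,0)` is trivial or the transvection there. -/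
theorem eq_transvec_of_comm {f : (Fin 4 → F) → Fin 4 → F}
    (hf : IsIsom f ∨ ((∀ x y, f (x + y) = f x + f y) ∧ (∀ (k : F) x, f (k • x) = k ^ 2 • f x) ∧
      ∀ x y, hermForm 4 F 2 (f x) (f y) = hermForm 4 F 2 x y ^ 2))
    (ha : f va = va)
    (hN : ∀ a g : F, a ≠ 0 → g ≠ 0 → ∀ x, f (transvec ![a, a, 1, g] (transvec ![0, 0, 1, g] x)) =
      transvec ![a, a, 1, g] (transvec ![0, 0, 1, g] (f x))) :
    (∀ x, f x = x) ∨ ∀ x, f x = transvec va x := by
  obtain ⟨ω, h0, h1, hω, h3⟩ := exists_omega hF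
  have hq : ∀ a g : F, (![a, a, 1, g] : Fin 4 → F) = a • va + ve2 + g • ve3 := fun a g => funext fun i => by
    fin_cases i <;> simp [va, ve2, ve3]
  rcases hf with hf | ⟨hadd, hsmul, hherm⟩
  · have hc : ∀ y, (f y) 0 + (f y) 1 = y 0 + y 1 := fun y => by
      rw [← Fi22Cent.herm_va hF, ← Fi22Cent.herm_va hF]
      conv_lhs => rw [← ha]
      exact hf.herm y va
    have key : ∀ a g : F, a ≠ 0 → g ≠ 0 → ∀ y,
        f y + ((y 2 + g ^ 2 * y 3) * a) • va + ((y 0 + y 1) * a ^ 2) • (a • va + f ve2 + g • f ve3) =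
        f y + (((f y) 2 + g ^ 2 * (f y) 3) * a) • va + ((y 0 + y 1) * a ^ 2) • (a • va + ve2 + g • ve3) := by
      intro a g ha0 hg y
      have e := hN a g ha0 hg y
      rw [pair_apply hF ha0 hg, pair_apply hF ha0 hg, hq, hf.add, hf.add, hf.smul, hf.smul, hf.add, hf.add,
        hf.smul, hf.smul, ha, hc] at e
      exact e
    have k2 : ∀ g : F, g ≠ 0 → (f ve2) 2 + g ^ 2 * (f ve2) 3 = 1 := fun g hg => by
      simpa [va, ve2, ve3] using (congrFun (key 1 g one_ne_zero hg ve2) 0).symm
    have k3 : ∀ g : F, g ≠ 0 → (f ve3) 2 + g ^ 2 * (f ve3) 3 = g ^ 2 := fun g hg => by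
      simpa [va, ve2, ve3] using (congrFun (key 1 g one_ne_zero hg ve3) 0).symm
    have hne : (1 : F) + ω ^ 2 ≠ 0 := by
      rw [hω]; intro e; exact h0 (by linear_combination e - f4_char hF)
    have y3 : (f ve2) 3 = 0 := (mul_eq_zero.1 (show (1 + ω ^ 2) * (f ve2) 3 = 0 by
      linear_combination k2 1 one_ne_zero + k2 ω h0 - ((f ve2) 2 - 1) * f4_char hF)).resolve_left hne
    have y2 : (f ve2) 2 = 1 := by simpa [y3] using k2 1 one_ne_zero
    have z3 : (f ve3) 3 = 1 := by
      refine mul_left_cancel₀ hne ?_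
      linear_combination k3 1 one_ne_zero + k3 ω h0 - (f ve3) 2 * f4_char hF
    have z2 : (f ve3) 2 = 0 := by simpa [z3] using k3 1 one_ne_zero
    have y1 : (f ve2) 1 = (f ve2) 0 := (f4_eq_of_add_zero hF (by simpa [ve2] using hc ve2)).symm
    have z1 : (f ve3) 1 = (f ve3) 0 := (f4_eq_of_add_zero hF (by simpa [ve3] using hc ve3)).symm
    have k0 : ∀ a g : F, a ≠ 0 → g ≠ 0 →
        a ^ 2 * ((f ve2) 0 + g * (f ve3) 0) = a * ((f ve0) 2 + g ^ 2 * (f ve0) 3) := fun a g ha0 hg => by
      have e := congrFun (key a g ha0 hg ve0) 0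
      generalize f ve0 = U at e ⊢
      generalize f ve2 = Y at e ⊢
      generalize f ve3 = Z at e ⊢
      simp [va, ve0, ve2, ve3, Matrix.vecHead] at e
      linear_combination e
    have kz : ∀ g : F, g ≠ 0 → (f ve2) 0 + g * (f ve3) 0 = 0 := fun g hg => by
      have e1 := k0 1 g one_ne_zero hg
      have e2 := k0 ω g h0 hg
      refine (mul_eq_zero.1 (show (ω ^ 2 - ω) * ((f ve2) 0 + g * (f ve3) 0) = 0 by
        linear_combination e2 - ω * e1)).resolve_left fun e => ?_
      exact one_ne_zero (α := F) (by linear_combination e - hω)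
    have z0 : (f ve3) 0 = 0 := (mul_eq_zero.1 (show (1 + ω) * (f ve3) 0 = 0 by
      linear_combination kz 1 one_ne_zero + kz ω h0 - (f ve2) 0 * f4_char hF)).resolve_left fun e =>
        h1 (f4_eq_of_add_zero hF e).symm
    have y0 : (f ve2) 0 = 0 := by simpa [z0] using kz 1 one_ne_zero
    refine Fi22Cent.isom_fix_perp hF hf ha (funext fun i => ?_) (funext fun i => ?_)
    · generalize f ve2 = Y at y0 y1 y2 y3 ⊢
      fin_cases i <;> simp [ve2, y0, y1, y2, y3]
    · generalize f ve3 = Z at z0 z1 z2 z3 ⊢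
      fin_cases i <;> simp [ve3, z0, z1, z2, z3]
  · exfalso
    have h01 : (f ve2) 0 + (f ve2) 1 = 0 := by
      rw [← Fi22Cent.herm_va hF, ← ha, hherm, Fi22Cent.herm_va hF]; simp [ve2]
    have key : ∀ a : F, a ≠ 0 → a ^ 2 = ((f ve2) 2 + (f ve2) 3) * a := fun a ha0 => by
      have e := hN a 1 ha0 one_ne_zero ve2
      rw [pair_apply hF ha0 one_ne_zero, pair_apply hF ha0 one_ne_zero, hadd, hadd, hsmul, hsmul, ha] at e
      have e0 := congrFun e 0
      generalize f ve2 = Y at e0 h01 ⊢
      simp [va, ve2, Matrix.vecHead] at e0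
      linear_combination e0 + a ^ 3 * h01
    refine h1 (mul_left_cancel₀ h0 ?_)
    have e1 := key 1 one_ne_zero
    have e2 := key ω h0
    linear_combination e2 - ω * e1

end CfsgLib.Recog.Fi23Cent
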