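import Cfsg.Agent.Lib.Recog.Fi23Cent.LocTransvec
import Cfsg.Prelude.Def_TwoFusion

/-!
Every conjugation carrying `z` into `C(z)` fixes `z` or carries some `e i` to some `e j`; with `z` isolated in
the centralisers of all `d i` and `e i`, `z` is isolated.
-/

set_option autoImplicit false
set_option linter.unusedSectionVars false

namespace CfsgLib.Recog.Fi23Cent

open Subgroup Cfsg CfsgLib.Recog.U6Cent CfsgLib.Recog.Fi22Cent

variable {G : Type*} [Group G] [Finite G] {F : Type*} [Field F] [Fintype F]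

namespace Setup

variable (S : Setup G F)

/-- Each centraliser in `J` of a preimage of some `e i` centralises the preimage of `z`. -/
def Fix (g : G) : Prop :=
  ∀ i, ∀ x ∈ S.J, x * (g⁻¹ * S.e i * g) = g⁻¹ * S.e i * g * x →
    x * (g⁻¹ * S.z * g) = g⁻¹ * S.z * g * x

theorem orderOf_z : orderOf S.z = 2 := orderOf_eq_prime (by rw [pow_two, S.z_sq]) S.z_ne

theorem pre_mem {g : G} (ht : g * S.z * g⁻¹ ∈ centralizer ({S.z} : Set G)) :
    g⁻¹ * S.z * g ∈ centralizer ({S.z} : Set G) :=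
  mem_centralizer_singleton_iff.2 (by
    calc g⁻¹ * S.z * g * S.z = g⁻¹ * (S.z * (g * S.z * g⁻¹)) * g := by group
      _ = S.z * (g⁻¹ * S.z * g) := by rw [← S.z_comm ht]; group)

/-- If `z` is isolated in `C(u)` then its commutators there have odd order. -/
theorem odd_of_isoAt {u : G} (h : S.IsoAt u) (hu : S.z * u = u * S.z) {x : G}
    (hx : x ∈ centralizer ({u} : Set G)) : Odd (orderOf (S.z * (x * S.z * x⁻¹))) := by
  have hzC : S.z ∈ centralizer ({u} : Set G) := mem_centralizer_singleton_iff.2 hu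
  have hiso : IsIsolatedInvolution (⟨S.z, hzC⟩ : centralizer ({u} : Set G)) :=
    ⟨by rw [← orderOf_coe]; exact S.orderOf_z, fun g hg =>
      Subtype.ext (h g g.2 (congrArg Subtype.val hg.symm.eq))⟩
  have := CfsgLib.Invol.isolated_odd_mul_conj hiso ⟨x, hx⟩
  rwa [← orderOf_coe] at this

theorem odd_conj {u : G} (h : S.IsoAt u) (hu : S.z * u = u * S.z) (g : G) {x : G}
    (hxy : x * (g⁻¹ * u * g) = g⁻¹ * u * g * x) :
    Odd (orderOf (g⁻¹ * S.z * g * (x * (g⁻¹ * S.z * g) * x⁻¹))) := by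
  have hx' : g * x * g⁻¹ ∈ centralizer ({u} : Set G) := mem_centralizer_singleton_iff.2 (by
    calc g * x * g⁻¹ * u = g * (x * (g⁻¹ * u * g)) * g⁻¹ := by group
      _ = u * (g * x * g⁻¹) := by rw [hxy]; group)
  have := S.odd_of_isoAt h hu hx'
  rwa [show g⁻¹ * S.z * g * (x * (g⁻¹ * S.z * g) * x⁻¹) =
    g⁻¹ * (S.z * (g * x * g⁻¹ * S.z * (g * x * g⁻¹)⁻¹)) * g by group,
    CfsgLib.Invol.orderOf_conj_inv_eq]

/-- Where `z` is isolated, the centraliser in `J` of the preimage centralises the preimage of `z`. -/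
theorem fix_isoAt {u : G} (h : S.IsoAt u) (hu : S.z * u = u * S.z) {g : G}
    (ht : g * S.z * g⁻¹ ∈ centralizer ({S.z} : Set G)) {x : G} (hx : x ∈ S.J)
    (hxy : x * (g⁻¹ * u * g) = g⁻¹ * u * g * x) :
    x * (g⁻¹ * S.z * g) = g⁻¹ * S.z * g * x := by
  have hodd := S.odd_conj h hu g hxy
  set s := g⁻¹ * S.z * g with hs
  have hss : s⁻¹ = s := by rw [hs, mul_inv_rev, mul_inv_rev, inv_inv, S.z_inv, mul_assoc]
  have hm : s * (x * s * x⁻¹) ∈ S.J := by
    have := mul_mem (S.J_normal s (S.pre_mem ht) x hx) (inv_mem hx)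
    rwa [hss, show s * x * s * x⁻¹ = s * (x * s * x⁻¹) by group] at this
  have h2 := eq_inv_of_mul_eq_one_right (S.odd_mem_J hm hodd)
  rw [hss] at h2
  exact mul_inv_eq_iff_eq_mul.1 h2

theorem fix_of_isoE (h : S.IsoE) {g : G} (ht : g * S.z * g⁻¹ ∈ centralizer ({S.z} : Set G)) : S.Fix g :=
  fun i _ hx hxy => S.fix_isoAt (h i) (S.z_e_comm i) ht hx hxy

theorem z_d_comm (i : Fin 3) : S.z * S.d i = S.d i * S.z := S.d_central i _ S.z_mem

/-- When `C(e i)` normalises `W` a translate of `g` by an element permuting the `e i` has the property `Fix`. -/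
theorem exists_fix (hU : S.U6) {g : G} (ht : g * S.z * g⁻¹ ∈ centralizer ({S.z} : Set G)) :
    ∃ k : G, (∀ i, ∃ m, k * S.e i * k⁻¹ = S.e m) ∧
      k * g * S.z * (k * g)⁻¹ ∈ centralizer ({S.z} : Set G) ∧ S.Fix (k * g) := by
  have : Fact (Nat.Prime 2) := ⟨Nat.prime_two⟩
  set NW := normalizer (S.W : Set G) with hNW
  have hfin : (S.W : Set G).Finite := Set.toFinite _
  have hNmem : ∀ a : G, (∀ w ∈ S.W, a * w * a⁻¹ ∈ S.W) → a ∈ NW := fun a ha =>
    mem_normalizer_iff.2 (fun w => ⟨ha w, fun hw => by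
      have hmap : S.W.map (MulAut.conj a).toMonoidHom = S.W := by
        refine eq_of_le_of_card_ge ?_ (le_of_eq ?_)
        · rintro _ ⟨v, hv, rfl⟩; exact ha v hv
        · exact Nat.card_congr (S.W.equivMapOfInjective _ (MulAut.conj a).injective).toEquiv
      rw [← hmap] at hw
      obtain ⟨v, hv, e⟩ := hw
      rwa [← (MulAut.conj a).injective e]⟩)
  have hHN : centralizer ({S.z} : Set G) ≤ NW := fun a ha => hNmem a fun w hw => S.W_conj ha hw
  set M : Subgroup G := NW.map (MulAut.conj g⁻¹).toMonoidHom with hM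
  set N : Subgroup G := (S.J ⊓ M).map (MulAut.conj g).toMonoidHom with hN
  have hNN : N ≤ NW := by
    rintro _ ⟨x, hx, rfl⟩
    obtain ⟨v, hv, rfl⟩ := (mem_inf.1 hx).2
    simpa [mul_assoc] using hv
  have hNp : IsPGroup 2 N := (S.isPGroup_J.to_le inf_le_left).map _
  obtain ⟨T, hTS, -, -, -⟩ := S.exists_sylow 0
  have hTN : (T : Subgroup G) ≤ NW := hTS.trans (inf_le_left.trans hHN)
  obtain ⟨Q, hQ⟩ := (hNp.comap_of_injective NW.subtype NW.subtype_injective).exists_le_sylow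
  obtain ⟨k, hk⟩ := MulAction.exists_smul_eq NW Q (T.subtype hTN)
  have hmove : ∀ x ∈ N, (k : G) * x * (k : G)⁻¹ ∈ centralizer ({S.z} : Set G) := fun x hx => by
    have h1 : k * ⟨x, hNN hx⟩ * k⁻¹ ∈ ((k • Q : Sylow 2 NW) : Subgroup NW) :=
      ⟨⟨x, hNN hx⟩, hQ hx, rfl⟩
    rw [hk] at h1
    exact (mem_inf.1 (hTS h1)).1
  have hperm : ∀ i, ∃ m, (k : G) * S.e i * (k : G)⁻¹ = S.e m := fun i => by
    rcases S.mem_W.1 ((mem_normalizer_iff.1 k.2 _).1 (S.e_mem_W i)) with h | h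
    · exact absurd (conj_eq_one_iff.1 h) (S.e_ne i)
    · exact h
  have hin : ∀ x ∈ S.J, g * x * g⁻¹ ∈ NW → k * g * x * (k * g)⁻¹ ∈ centralizer ({S.z} : Set G) :=
    fun x hx hxg => by
      rw [show (k : G) * g * x * ((k : G) * g)⁻¹ = k * (g * x * g⁻¹) * (k : G)⁻¹ by group]
      exact hmove _ ⟨x, mem_inf.2 ⟨hx, ⟨g * x * g⁻¹, hxg, by simp [mul_assoc]⟩⟩, rfl⟩
  refine ⟨k, hperm, hin _ S.z_mem (hHN ht), fun i x hx hxy => ?_⟩
  obtain ⟨m, hm⟩ : ∃ m, (k : G)⁻¹ * S.e i * k = S.e m := by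
    rcases S.mem_W.1 ((mem_normalizer_iff''.1 k.2 _).1 (S.e_mem_W i)) with h | h
    · exact absurd ((conj_eq_one_iff (a := (k : G)⁻¹)).1 (by rwa [inv_inv])) (S.e_ne i)
    · exact h
  rw [show ((k : G) * g)⁻¹ * S.e i * ((k : G) * g) = g⁻¹ * ((k : G)⁻¹ * S.e i * k) * g by group, hm] at hxy
  have hxg : g * x * g⁻¹ ∈ centralizer ({S.e m} : Set G) := mem_centralizer_singleton_iff.2 (by
    calc g * x * g⁻¹ * S.e m = g * (x * (g⁻¹ * S.e m * g)) * g⁻¹ := by group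
      _ = S.e m * (g * x * g⁻¹) := by rw [hxy]; group)
  have h1 := mem_centralizer_singleton_iff.1 (hin x hx (hNmem _ (hU.1 m _ hxg)))
  calc x * (((k : G) * g)⁻¹ * S.z * ((k : G) * g))
      = ((k : G) * g)⁻¹ * ((k : G) * g * x * ((k : G) * g)⁻¹ * S.z) * ((k : G) * g) := by group
    _ = ((k : G) * g)⁻¹ * S.z * ((k : G) * g) * x := by rw [h1]; group

theorem tame_mul_left {g k : G} (hk : ∀ i, ∃ m, k * S.e i * k⁻¹ = S.e m) (h : S.Tame (k * g)) : S.Tame g := by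
  rcases h with h | ⟨i, j, h⟩
  · obtain ⟨m, hm⟩ := hk 0
    obtain ⟨n, hn⟩ := S.e_conj _ (inv_mem h) m
    refine Or.inr ⟨0, n, ?_⟩
    rw [← hn, ← hm]; group
  · choose π hπ using hk
    obtain ⟨m, hm⟩ := Finite.surjective_of_injective (fun a b e => S.e_inj ((MulAut.conj k).injective (by
      show k * S.e a * k⁻¹ = k * S.e b * k⁻¹
      rw [hπ, hπ, e])) : Function.Injective π) i
    refine Or.inr ⟨m, j, ?_⟩
    rw [← h, ← hm, ← hπ]; group

theorem tame_mul_right {g k : G} (hk : k ∈ centralizer ({S.z} : Set G)) (h : S.Tame (g * k)) : S.Tame g := by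
  rcases h with h | ⟨i, j, h⟩
  · exact Or.inl ((Subgroup.mul_mem_cancel_right _ hk).1 h)
  · obtain ⟨l, hl⟩ := S.e_conj k hk j
    exact Or.inr ⟨i, l, by rw [← hl, ← h]; group⟩

/-- If `z` is isolated in every `C(d i)` an element carrying some `d` to some `d` fixes `z`. -/
theorem mem_of_d (hD : S.IsoD) {g : G} (ht : g * S.z * g⁻¹ ∈ centralizer ({S.z} : Set G)) {i k : Fin 3}
    (h : g⁻¹ * S.d i * g = S.d k) : g ∈ centralizer ({S.z} : Set G) := by
  have hw : S.c ^ ((i - k : Fin 3) : ℕ) * S.d k * (S.c ^ ((i - k : Fin 3) : ℕ))⁻¹ = S.d i := by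
    rw [d, d, show S.c ^ ((i - k : Fin 3) : ℕ) * (S.z * S.e k) * (S.c ^ ((i - k : Fin 3) : ℕ))⁻¹ =
      S.c ^ ((i - k : Fin 3) : ℕ) * S.z * (S.c ^ ((i - k : Fin 3) : ℕ))⁻¹ *
        (S.c ^ ((i - k : Fin 3) : ℕ) * S.e k * (S.c ^ ((i - k : Fin 3) : ℕ))⁻¹) by group,
      S.conj_z (S.c_pow_mem _), S.c_rot_fin, add_sub_cancel]
  set w := S.c ^ ((i - k : Fin 3) : ℕ)
  have hwH : w⁻¹ ∈ centralizer ({S.z} : Set G) := inv_mem (S.c_pow_mem _)
  have hfix : g * w⁻¹ * S.d i * (g * w⁻¹)⁻¹ = S.d i := by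
    rw [show g * w⁻¹ * S.d i * (g * w⁻¹)⁻¹ = g * (w⁻¹ * S.d i * w) * g⁻¹ by group, ← hw,
      show w⁻¹ * (w * S.d k * w⁻¹) * w = S.d k by group, ← h,
      show g * (g⁻¹ * S.d i * g) * g⁻¹ = S.d i by group, h, hw]
  have hsh : g * w⁻¹ * S.z * (g * w⁻¹)⁻¹ = g * S.z * g⁻¹ := by
    rw [show g * w⁻¹ * S.z * (g * w⁻¹)⁻¹ = g * (w⁻¹ * S.z * w⁻¹⁻¹) * g⁻¹ by group, S.conj_z hwH]
  have := hD i (g * w⁻¹) (mem_centralizer_singleton_iff.2 (mul_inv_eq_iff_eq_mul.1 hfix))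
    (by rw [hsh]; exact S.z_comm ht)
  rw [hsh] at this
  exact mem_centralizer_singleton_iff.2 (mul_inv_eq_iff_eq_mul.1 this)

/-- The local configuration at a fixed point of the conjugate of `z`, away from `J`. -/
theorem loc_of_fix (hD : S.IsoD) {g : G} (hf : S.Fix g)
    (ht : g * S.z * g⁻¹ ∈ centralizer ({S.z} : Set G)) (hall : ∀ l, g⁻¹ * S.e l * g ∉ S.J) {i : Fin 3}
    (hi : g * S.z * g⁻¹ * S.e i * (g * S.z * g⁻¹)⁻¹ = S.e i) :
    S.Loc (g⁻¹ * S.z * g) (g⁻¹ * S.d i * g) := by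
  have hsy : g⁻¹ * S.z * g * (g⁻¹ * S.d i * g) = g⁻¹ * S.e i * g := by rw [← S.z_mul_d i]; group
  have htd : g * S.z * g⁻¹ * S.d i = S.d i * (g * S.z * g⁻¹) :=
    ((Commute.mul_right (S.z_comm ht : Commute _ S.z) (mul_inv_eq_iff_eq_mul.1 hi : Commute _ (S.e i))).eq)
  refine ⟨S.pre_mem ht, mem_centralizer_singleton_iff.2 ?_, ?_, ?_, ?_, ?_, ?_, ?_⟩
  · calc g⁻¹ * S.d i * g * S.z = g⁻¹ * (S.d i * (g * S.z * g⁻¹)) * g := by group
      _ = S.z * (g⁻¹ * S.d i * g) := by rw [← htd]; group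
  · rw [show g⁻¹ * S.z * g * (g⁻¹ * S.z * g) = g⁻¹ * (S.z * S.z) * g by group, S.z_sq, mul_one, inv_mul_cancel]
  · rw [show g⁻¹ * S.d i * g * (g⁻¹ * S.d i * g) = g⁻¹ * (S.d i * S.d i) * g by group, S.d_sq, mul_one,
      inv_mul_cancel]
  · calc g⁻¹ * S.z * g * (g⁻¹ * S.d i * g) = g⁻¹ * (S.z * S.d i) * g := by group
      _ = g⁻¹ * S.d i * g * (g⁻¹ * S.z * g) := by rw [S.z_d_comm]; group
  · exact fun x _ hxy => S.odd_conj (hD i) (S.z_d_comm i) g hxy
  · intro x hx h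
    rw [hsy] at h
    exact hf i x hx h
  · intro x hx hxs
    have hx' : g * x * g⁻¹ ∈ centralizer ({S.z} : Set G) := mem_centralizer_singleton_iff.2 (by
      calc g * x * g⁻¹ * S.z = g * (x * (g⁻¹ * S.z * g)) * g⁻¹ := by group
        _ = S.z * (g * x * g⁻¹) := by rw [hxs]; group)
    obtain ⟨k, hk⟩ := S.e_conj _ hx' i
    by_cases hki : k = i
    · have hxe : x * (g⁻¹ * S.e i * g) = g⁻¹ * S.e i * g * x := by
        rw [hki] at hk
        calc x * (g⁻¹ * S.e i * g) = g⁻¹ * (g * x * g⁻¹ * S.e i) * g := by group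
          _ = g⁻¹ * S.e i * g * x := by rw [mul_inv_eq_iff_eq_mul.1 hk]; group
      rw [← hsy] at hxe
      calc x * (g⁻¹ * S.d i * g) = (g⁻¹ * S.z * g)⁻¹ * (g⁻¹ * S.z * g * x) * (g⁻¹ * S.d i * g) := by group
        _ = (g⁻¹ * S.z * g)⁻¹ * (x * (g⁻¹ * S.z * g * (g⁻¹ * S.d i * g))) := by rw [← hxs]; group
        _ = g⁻¹ * S.d i * g * x := by rw [hxe]; group
    · exfalso
      obtain ⟨l, hl⟩ := (S.e_mul_cases i k).resolve_left fun h =>
        hki (S.e_inj (by rw [eq_inv_of_mul_eq_one_right h, S.e_inv]))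
      refine hall l ?_
      set X := g⁻¹ * S.e i * g with hX
      have hXH : X ∈ centralizer ({S.z} : Set G) := mem_centralizer_singleton_iff.2 (by
        calc X * S.z = g⁻¹ * (S.e i * (g * S.z * g⁻¹)) * g := by rw [hX]; group
          _ = S.z * X := by rw [← mul_inv_eq_iff_eq_mul.1 hi, hX]; group)
      have hXinv : X⁻¹ = X := by rw [hX, mul_inv_rev, mul_inv_rev, inv_inv, S.e_inv, mul_assoc]
      have hmem := mul_mem (S.J_normal X hXH x hx) (inv_mem hx)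
      rw [hXinv] at hmem
      rw [← hl, ← hk]
      convert hmem using 1
      rw [hX]; group

/-- An element of `C(z)` centralising the preimage of `z` goes to an element fixing all `e i` as soon as it is a
commutator of squares. -/
theorem ker_comm {g a b : G} (_ha : a ∈ centralizer ({S.z} : Set G))
    (has : a * (g⁻¹ * S.z * g) = g⁻¹ * S.z * g * a) (_hb : b ∈ centralizer ({S.z} : Set G))
    (hbs : b * (g⁻¹ * S.z * g) = g⁻¹ * S.z * g * b) (i : Fin 3) :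
    Commute (a * a * (b * b) * (a * a * (a * a)) * (b * b * (b * b))) (g⁻¹ * S.d i * g) := by
  have push : ∀ {x : G}, x * (g⁻¹ * S.z * g) = g⁻¹ * S.z * g * x →
      g * x * g⁻¹ ∈ centralizer ({S.z} : Set G) := fun {x} h => mem_centralizer_singleton_iff.2 (by
    calc g * x * g⁻¹ * S.z = g * (x * (g⁻¹ * S.z * g)) * g⁻¹ := by group
      _ = S.z * (g * x * g⁻¹) := by rw [h]; group)
  set a' := g * a * g⁻¹ with ha'
  set b' := g * b * g⁻¹ with hb'
  obtain ⟨m, hm⟩ := S.sq_rot (push has)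
  obtain ⟨n, hn⟩ := S.sq_rot (push hbs)
  rw [← ha'] at hm
  rw [← hb'] at hn
  have rot : ∀ (u v : G) (p q : Fin 3), (∀ l, u * S.e l * u⁻¹ = S.e (l + p)) →
      (∀ l, v * S.e l * v⁻¹ = S.e (l + q)) → ∀ l, u * v * S.e l * (u * v)⁻¹ = S.e (l + q + p) :=
    fun u v p q hu hv l => by
      rw [show u * v * S.e l * (u * v)⁻¹ = u * (v * S.e l * v⁻¹) * u⁻¹ by group, hv, hu]
  set N := a' * a' * (b' * b') * (a' * a' * (a' * a')) * (b' * b' * (b' * b')) with hN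
  have hNz : N ∈ centralizer ({S.z} : Set G) := by
    have h1 := mul_mem (push has) (push has)
    have h2 := mul_mem (push hbs) (push hbs)
    exact mul_mem (mul_mem (mul_mem h1 h2) (mul_mem h1 h1)) (mul_mem h2 h2)
  have hNe : N * S.e i * N⁻¹ = S.e i := by
    have r1 : ∀ l, a' * a' * (a' * a') * S.e l * (a' * a' * (a' * a'))⁻¹ = S.e (l + m + m) := rot _ _ _ _ hm hm
    have r2 : ∀ l, b' * b' * (b' * b') * S.e l * (b' * b' * (b' * b'))⁻¹ = S.e (l + n + n) := rot _ _ _ _ hn hn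
    have r12 := rot _ _ _ _ hm hn
    rw [hN, show a' * a' * (b' * b') * (a' * a' * (a' * a')) * (b' * b' * (b' * b')) * S.e i *
        (a' * a' * (b' * b') * (a' * a' * (a' * a')) * (b' * b' * (b' * b')))⁻¹ =
      a' * a' * (b' * b') * (a' * a' * (a' * a') * (b' * b' * (b' * b') * S.e i *
        (b' * b' * (b' * b'))⁻¹) * (a' * a' * (a' * a'))⁻¹) * (a' * a' * (b' * b'))⁻¹ by group,
      r2, r1, r12, (by decide : ∀ i m n : Fin 3, i + n + n + m + m + n + m = i) i m n]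
  have hNd : Commute N (S.d i) :=
    (Commute.mul_right (S.z_comm hNz : Commute N S.z) (mul_inv_eq_iff_eq_mul.1 hNe : Commute N (S.e i)))
  set n₀ := a * a * (b * b) * (a * a * (a * a)) * (b * b * (b * b)) with hn₀
  have e : N = g * n₀ * g⁻¹ := by rw [hN, hn₀, ha', hb']; group
  calc n₀ * (g⁻¹ * S.d i * g) = g⁻¹ * (N * S.d i) * g := by rw [e]; group
    _ = g⁻¹ * S.d i * g * n₀ := by rw [hNd.eq, e]; group

end Setup

namespace FData

variable {S : Setup G F} (A : FData S)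
include A

/-- An element with zero vector. -/
theorem cases_of_vec {x : G} (hx : x ∈ S.J) (h : A.vec x = 0) :
    x = 1 ∨ x = S.z ∨ ∃ i, x = S.e i ∨ x = S.d i := S.center x hx ((A.vec_zero x hx).1 h)

theorem sJ_case (hD : S.IsoD) {g : G} (ht : g * S.z * g⁻¹ ∈ centralizer ({S.z} : Set G)) (hf : S.Fix g)
    (hall : ∀ l, g⁻¹ * S.e l * g ∉ S.J) (hall' : ∀ l, g⁻¹ * S.d l * g ∉ S.J)
    (hs : g⁻¹ * S.z * g ∈ S.J) (hu : A.vec (g⁻¹ * S.z * g) = va) : False := by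
  set t := g * S.z * g⁻¹ with htdef
  have hτ : ∀ i, t * S.e i * t⁻¹ = S.e i → ∀ v, A.act (g⁻¹ * S.d i * g) v = transvec va v := fun i hi =>
    have L := S.loc_of_fix hD hf ht hall hi
    A.sJ_transvec hs hu L.yH L.yy L.comm (hall' i) fun a ha has b hb hbs => S.ker_comm ha has hb hbs i
  by_cases htK : t ∈ S.K
  · have h : ∀ i, t * S.e i * t⁻¹ = S.e i := fun i => S.K_fix htK i
    have y0 := (S.loc_of_fix hD hf ht hall (h 0)).yH
    have y1 := (S.loc_of_fix hD hf ht hall (h 1)).yH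
    refine hall 2 ?_
    have e : g⁻¹ * S.e 2 * g = g⁻¹ * S.d 0 * g * (g⁻¹ * S.d 1 * g) := by
      rw [show g⁻¹ * S.d 0 * g * (g⁻¹ * S.d 1 * g) = g⁻¹ * (S.d 0 * S.d 1) * g by group, Setup.d, Setup.d,
        show S.z * S.e 0 * (S.z * S.e 1) = S.z * (S.e 0 * S.z) * S.e 1 by group, ← S.z_e_comm, ← mul_assoc S.z S.z,
        S.z_sq, one_mul]
      exact congrArg (fun w => g⁻¹ * w * g) (S.e_mul 0).symm
    rw [e]
    refine (A.act_one _ (mul_mem y0 y1)).1 fun v => ?_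
    rw [A.act_mul y0 y1, hτ 0 (h 0), hτ 1 (h 1), transvec_invol S.hF (va_iso S.hF)]
  · obtain ⟨j, hj⟩ := S.exists_fixed_invol ht (by
      rw [htdef, show g * S.z * g⁻¹ * (g * S.z * g⁻¹) = g * (S.z * S.z) * g⁻¹ by group, S.z_sq, mul_one,
        mul_inv_cancel])
    refine A.sJ_false (S.loc_of_fix hD hf ht hall hj) hs hu (hτ j hj) fun x hx hxs => ?_
    have hx' : g * x * g⁻¹ ∈ centralizer ({S.z} : Set G) := mem_centralizer_singleton_iff.2 (by
      calc g * x * g⁻¹ * S.z = g * (x * (g⁻¹ * S.z * g)) * g⁻¹ := by group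
        _ = S.z * (g * x * g⁻¹) := by rw [hxs]; group)
    have hxt : g * x * g⁻¹ * t = t * (g * x * g⁻¹) := by
      calc g * x * g⁻¹ * t = g * (x * S.z) * g⁻¹ := by rw [htdef]; group
        _ = t * (g * x * g⁻¹) := by rw [S.z_comm hx, htdef]; group
    have he : Commute (g * x * g⁻¹) (S.d j) :=
      Commute.mul_right (S.z_comm hx' : Commute _ S.z)
        (mul_inv_eq_iff_eq_mul.1 (S.fix_of_comm ht hx' htK hj hxt) : Commute _ (S.e j))
    calc x * (g⁻¹ * S.d j * g) = g⁻¹ * (g * x * g⁻¹ * S.d j) * g := by group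
      _ = g⁻¹ * S.d j * g * x := by rw [he.eq]; group

/-- A conjugation with the property `Fix` carrying `z` into `C(z)` is tame. -/
theorem tame_of_fix (hD : S.IsoD) {g : G} (ht : g * S.z * g⁻¹ ∈ centralizer ({S.z} : Set G))
    (hf : S.Fix g) : S.Tame g := by
  set s := g⁻¹ * S.z * g with hs
  have hsH : s ∈ centralizer ({S.z} : Set G) := S.pre_mem ht
  have conj : ∀ {a b : G}, g⁻¹ * a * g = b → IsConj a b :=
    fun e => isConj_iff.2 ⟨g⁻¹, by rw [inv_inv, e]⟩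
  have one_ne : ∀ {a : G}, a ≠ 1 → g⁻¹ * a * g ≠ 1 := fun ha e => ha (by
    simpa [mul_assoc] using congrArg (fun w => g * w * g⁻¹) e)
  have hsq : ∀ a : G, a * a = 1 → g⁻¹ * a * g * (g⁻¹ * a * g) = 1 := fun a ha => by
    rw [show g⁻¹ * a * g * (g⁻¹ * a * g) = g⁻¹ * (a * a) * g by group, ha, mul_one, inv_mul_cancel]
  have hs0 : s ∈ S.J → A.vec s = 0 → S.Tame g := fun h h0 => by
    rcases A.cases_of_vec h h0 with e | e | ⟨i, e | e⟩
    · exact absurd e (one_ne S.z_ne)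
    · refine Or.inl (mem_centralizer_singleton_iff.2 ?_)
      calc g * S.z = g * (g⁻¹ * S.z * g) := by rw [← hs, e]
        _ = S.z * g := by group
    · exact absurd (conj e) (S.not_conj_e i)
    · exact absurd (conj e) (S.not_conj_d i)
  have hx0 : ∀ i, g⁻¹ * S.e i * g ∈ S.J → A.vec (g⁻¹ * S.e i * g) = 0 → S.Tame g := fun i h h0 => by
    rcases A.cases_of_vec h h0 with e | e | ⟨j, e | e⟩
    · exact absurd e (one_ne (S.e_ne i))
    · exact absurd (conj e).symm (S.not_conj_e i)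
    · exact Or.inr ⟨i, j, e⟩
    · exact absurd (conj e).symm (S.not_conj_de j i)
  have hy0 : ∀ i, g⁻¹ * S.d i * g ∈ S.J → A.vec (g⁻¹ * S.d i * g) = 0 → S.Tame g := fun i h h0 => by
    rcases A.cases_of_vec h h0 with e | e | ⟨j, e | e⟩
    · exact absurd e (one_ne (S.d_ne i))
    · exact absurd (conj e).symm (S.not_conj_d i)
    · exact absurd (conj e) (S.not_conj_de i j)
    · exact Or.inl (S.mem_of_d hD ht e)
  have hsx : ∀ i, s * (g⁻¹ * S.e i * g) = g⁻¹ * S.d i * g := fun i => by rw [hs, Setup.d]; group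
  have hsy : ∀ i, s * (g⁻¹ * S.d i * g) = g⁻¹ * S.e i * g := fun i => by rw [hs, ← S.z_mul_d i]; group
  by_cases hJ : ∀ l, g⁻¹ * S.e l * g ∉ S.J ∧ g⁻¹ * S.d l * g ∉ S.J
  · have hall := fun l => (hJ l).1
    obtain ⟨j, hj⟩ := S.exists_fixed_invol ht (by
      rw [show g * S.z * g⁻¹ * (g * S.z * g⁻¹) = g * (S.z * S.z) * g⁻¹ by group, S.z_sq, mul_one,
        mul_inv_cancel])
    by_cases hsJ : s ∈ S.J
    · by_cases h0 : A.vec s = 0
      · exact hs0 hsJ h0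
      exfalso
      obtain ⟨M, hM⟩ := exists_su_map S.hF ((A.sq_iff s hsJ).1 (hsq _ S.z_sq)) h0 (va_iso S.hF) (va_ne S.hF)
      obtain ⟨k, hk, hkM⟩ := A.act_surj M
      have hkH := S.K_le hk
      have hc : ∀ a : G, (g * k⁻¹)⁻¹ * a * (g * k⁻¹) = k * (g⁻¹ * a * g) * k⁻¹ := fun a => by group
      have hmem : ∀ a : G, k * a * k⁻¹ ∈ S.J → a ∈ S.J := fun a ha => by
        simpa [mul_assoc] using S.J_normal k⁻¹ (inv_mem hkH) _ ha
      refine A.sJ_case hD (g := g * k⁻¹) ?_ ?_ (fun l h => hall l (hmem _ (by rwa [← hc])))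
        (fun l h => (hJ l).2 (hmem _ (by rwa [← hc]))) ?_ ?_
      · rwa [show g * k⁻¹ * S.z * (g * k⁻¹)⁻¹ = g * (k⁻¹ * S.z * k⁻¹⁻¹) * g⁻¹ by group,
          S.conj_z (inv_mem hkH)]
      · intro i x hx hxy
        rw [hc] at hxy ⊢
        have hx' : k⁻¹ * x * k ∈ S.J := by simpa using S.J_normal _ (inv_mem hkH) x hx
        have h' := hf i _ hx' (by
          calc k⁻¹ * x * k * (g⁻¹ * S.e i * g) = k⁻¹ * (x * (k * (g⁻¹ * S.e i * g) * k⁻¹)) * k := by group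
            _ = g⁻¹ * S.e i * g * (k⁻¹ * x * k) := by rw [hxy]; group)
        calc x * (k * (g⁻¹ * S.z * g) * k⁻¹) = k * (k⁻¹ * x * k * (g⁻¹ * S.z * g)) * k⁻¹ := by group
          _ = k * (g⁻¹ * S.z * g) * k⁻¹ * x := by rw [h']; group
      · rw [hc]; exact S.J_normal k hkH s hsJ
      · rw [hc, A.act_vec k hkH s hsJ, hkM, hM]
    · exact (A.loc_false (S.loc_of_fix hD hf ht hall hj) hsJ (hJ j).2 (by rw [hsy]; exact hall j)).elim
  · push Not at hJ
    obtain ⟨i, hi⟩ := hJ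
    have aux : ∀ a b : G, a ∈ S.J → a * a = 1 → (∀ x ∈ S.J, x * a = a * x → x * s = s * x) → s * a = b →
        (A.vec a = 0 → S.Tame g) → (b ∈ S.J → A.vec b = 0 → S.Tame g) → S.Tame g := by
      intro a b ha haa hfa hab ha0 hb0
      by_cases h : A.vec a = 0
      · exact ha0 h
      · obtain ⟨hsJ, e | e⟩ := A.fix_memJ hsH ha h haa (hsq _ S.z_sq) hfa
        · exact hs0 hsJ e
        · refine hb0 (hab ▸ mul_mem hsJ ha) ?_
          rw [← hab, A.vec_mul s hsJ a ha, e, A.add_self]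
    by_cases hiJ : g⁻¹ * S.e i * g ∈ S.J
    · exact aux _ _ hiJ (hsq _ (S.e_sq i)) (hf i) (hsx i) (hx0 i hiJ) (hy0 i)
    · exact aux _ _ (hi hiJ) (hsq _ (S.d_sq i))
        (fun x hx h => S.fix_isoAt (hD i) (S.z_d_comm i) ht hx h) (hsy i) (hy0 i (hi hiJ)) (hx0 i)

/-- **Every conjugation carrying `z` into `C(z)` is tame.** -/
theorem tame (hD : S.IsoD) (h : S.IsoE ∨ S.U6) {g : G}
    (ht : g * S.z * g⁻¹ ∈ centralizer ({S.z} : Set G)) : S.Tame g := by
  rcases h with h | h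
  · exact A.tame_of_fix hD ht (S.fix_of_isoE h ht)
  · obtain ⟨k, hk, hkt, hkf⟩ := S.exists_fix h ht
    exact S.tame_mul_left hk (A.tame_of_fix hD hkt hkf)

/-- **`z` is isolated** when it is so in the centralisers of all `d i` and `e i`. -/
theorem isolated (hD : S.IsoD) (hE : S.IsoE) : IsIsolatedInvolution S.z := by
  refine ⟨S.orderOf_z, fun g hg => ?_⟩
  have ht : g * S.z * g⁻¹ ∈ centralizer ({S.z} : Set G) := mem_centralizer_singleton_iff.2 hg.symm.eq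
  rcases A.tame hD (Or.inl hE) ht with h | ⟨i, k, h⟩
  · exact S.conj_z h
  · have hw := S.c_rot_fin (i - k) k
    rw [add_sub_cancel] at hw
    set w := S.c ^ ((i - k : Fin 3) : ℕ)
    have hwH : w⁻¹ ∈ centralizer ({S.z} : Set G) := inv_mem (S.c_pow_mem _)
    have hfix : g * w⁻¹ * S.e i * (g * w⁻¹)⁻¹ = S.e i := by
      rw [show g * w⁻¹ * S.e i * (g * w⁻¹)⁻¹ = g * (w⁻¹ * S.e i * w) * g⁻¹ by group, ← hw,
        show w⁻¹ * (w * S.e k * w⁻¹) * w = S.e k by group, ← h,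
        show g * (g⁻¹ * S.e i * g) * g⁻¹ = S.e i by group, h, hw]
    have hsh : g * w⁻¹ * S.z * (g * w⁻¹)⁻¹ = g * S.z * g⁻¹ := by
      rw [show g * w⁻¹ * S.z * (g * w⁻¹)⁻¹ = g * (w⁻¹ * S.z * w⁻¹⁻¹) * g⁻¹ by group, S.conj_z hwH]
    rw [← hsh]
    exact hE i _ (mem_centralizer_singleton_iff.2 (mul_inv_eq_iff_eq_mul.1 hfix))
      (by rw [hsh]; exact S.z_comm ht)

end FData

end CfsgLib.Recog.Fi23Cent
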