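import Cfsg.Agent.Lib.Recog.Fi23Cent.Facts
import Cfsg.Agent.Lib.Recog.Fi22Cent.LocGeom

/-!
The elements of `C(z)` in coordinates: their permutations of the three `e i`, inner and outer involutions, lifts.
-/

set_option autoImplicit false
set_option linter.unusedSectionVars false

namespace CfsgLib.Recog.Fi23Cent

open Subgroup Cfsg CfsgLib.Recog.U6Cent CfsgLib.Recog.Fi22Cent
open scoped Matrix

variable {G : Type*} [Group G] [Finite G] {F : Type*} [Field F] [Fintype F]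

theorem fin_involutive : ∀ π : Fin 3 → Fin 3, (∀ i, π (π i) = i) → ∃ i, π i = i := by decide

theorem fin_fixed : ∀ π : Fin 3 → Fin 3, Function.Injective π → ∀ i k, π i = i → π k = k → i ≠ k →
    ∀ l, π l = l := by decide

theorem fin_sq_rot : ∀ π : Fin 3 → Fin 3, Function.Injective π → ∃ m, ∀ i, π (π i) = i + m := by decide

theorem fin_swap_mul : ∀ π ρ : Fin 3 → Fin 3, Function.Injective π → Function.Injective ρ →
    ∀ i, π i = i → ρ i = i → (∃ l, π l ≠ l) → (∃ l, ρ l ≠ l) → ∀ l, π (ρ l) = l := by decide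

namespace Setup

variable (S : Setup G F)

/-- An element of `C(z)` permutes the three involutions `e i`. -/
theorem exists_perm {h : G} (hh : h ∈ centralizer ({S.z} : Set G)) :
    ∃ π : Fin 3 → Fin 3, Function.Injective π ∧ ∀ i, h * S.e i * h⁻¹ = S.e (π i) := by
  choose π hπ using S.e_conj h hh
  refine ⟨π, fun a b e => S.e_inj ((MulAut.conj h).injective ?_), hπ⟩
  show h * S.e a * h⁻¹ = h * S.e b * h⁻¹
  rw [hπ, hπ, e]

theorem exists_fixed_invol {h : G} (hh : h ∈ centralizer ({S.z} : Set G)) (h2 : h * h = 1) :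
    ∃ i, h * S.e i * h⁻¹ = S.e i := by
  obtain ⟨π, -, hπ⟩ := S.exists_perm hh
  obtain ⟨i, hi⟩ := fin_involutive π fun i => S.e_inj (by
    rw [← hπ, ← hπ, inv_eq_of_mul_eq_one_right h2,
      show h * (h * S.e i * h) * h = h * h * S.e i * (h * h) by group, h2, one_mul, mul_one])
  exact ⟨i, by rw [hπ, hi]⟩

theorem fixed_unique {h : G} (hh : h ∈ centralizer ({S.z} : Set G)) (hK : h ∉ S.K) {i k : Fin 3}
    (hi : h * S.e i * h⁻¹ = S.e i) (hk : h * S.e k * h⁻¹ = S.e k) : i = k := by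
  by_contra hne
  obtain ⟨π, hπi, hπ⟩ := S.exists_perm hh
  refine hK (S.e_ker h hh fun l => ?_)
  rw [hπ, fin_fixed π hπi i k (S.e_inj (by rw [← hπ, hi])) (S.e_inj (by rw [← hπ, hk])) hne l]

/-- An element commuting with an outer involution fixes the same `e i`. -/
theorem fix_of_comm {t x : G} (ht : t ∈ centralizer ({S.z} : Set G)) (hx : x ∈ centralizer ({S.z} : Set G))
    (hK : t ∉ S.K) {i : Fin 3} (hi : t * S.e i * t⁻¹ = S.e i) (hc : x * t = t * x) :
    x * S.e i * x⁻¹ = S.e i := by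
  obtain ⟨k, hk⟩ := S.e_conj x hx i
  have : t * S.e k * t⁻¹ = S.e k := by
    rw [← hk, show t * (x * S.e i * x⁻¹) * t⁻¹ = t * x * S.e i * (t * x)⁻¹ by group, ← hc,
      show x * t * S.e i * (x * t)⁻¹ = x * (t * S.e i * t⁻¹) * x⁻¹ by group, hi]
  rw [hk, S.fixed_unique ht hK hi this]

/-- Two commuting outer involutions have inner product. -/
theorem mul_mem_K {g h : G} (hg : g ∈ centralizer ({S.z} : Set G)) (hh : h ∈ centralizer ({S.z} : Set G))
    (hgg : g * g = 1) (hgK : g ∉ S.K) (hhK : h ∉ S.K) (hc : g * h = h * g) : g * h ∈ S.K := by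
  obtain ⟨i, hi⟩ := S.exists_fixed_invol hg hgg
  have hi' := S.fix_of_comm hg hh hgK hi hc.symm
  obtain ⟨π, hπi, hπ⟩ := S.exists_perm hg
  obtain ⟨ρ, hρi, hρ⟩ := S.exists_perm hh
  have hne : ∀ {x : G} {σ : Fin 3 → Fin 3}, x ∈ centralizer ({S.z} : Set G) → x ∉ S.K →
      (∀ l, x * S.e l * x⁻¹ = S.e (σ l)) → ∃ l, σ l ≠ l := fun hx hxK hσ => by
    by_contra hall
    push Not at hall
    exact hxK (S.e_ker _ hx fun l => by rw [hσ, hall])
  refine S.e_ker _ (mul_mem hg hh) fun l => ?_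
  rw [show g * h * S.e l * (g * h)⁻¹ = g * (h * S.e l * h⁻¹) * g⁻¹ by group, hρ, hπ,
    fin_swap_mul π ρ hπi hρi i (S.e_inj (by rw [← hπ, hi])) (S.e_inj (by rw [← hρ, hi'])) (hne hg hgK hπ)
      (hne hh hhK hρ) l]

/-- A square in `C(z)` rotates the three involutions `e i`. -/
theorem sq_rot {h : G} (hh : h ∈ centralizer ({S.z} : Set G)) :
    ∃ m : Fin 3, ∀ i, h * h * S.e i * (h * h)⁻¹ = S.e (i + m) := by
  obtain ⟨π, hπi, hπ⟩ := S.exists_perm hh
  obtain ⟨m, hm⟩ := fin_sq_rot π hπi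
  refine ⟨m, fun i => ?_⟩
  rw [show h * h * S.e i * (h * h)⁻¹ = h * (h * S.e i * h⁻¹) * h⁻¹ by group, hπ, hπ, hm]

/-- An element of `J` of odd order is trivial. -/
theorem odd_mem_J {x : G} (hx : x ∈ S.J) (ho : Odd (orderOf x)) : x = 1 := by
  have h1 : orderOf x ∣ 2 ^ 11 := by
    have h := orderOf_dvd_natCard (⟨x, hx⟩ : S.J)
    rw [← orderOf_submonoid (⟨x, hx⟩ : S.J), S.card_J] at h
    exact h
  exact orderOf_eq_one_iff.1
    (Nat.eq_one_of_dvd_coprimes (Nat.Coprime.pow_right 11 (Nat.coprime_two_right.2 ho)) dvd_rfl h1)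

/-- The centre of `J` is centralised by `K`. -/
theorem K_center {k w : G} (hk : k ∈ S.K) (hwJ : w ∈ S.J) (hw : ∀ y ∈ S.J, w * y = y * w) :
    k * w = w * k := by
  have h1 : Commute k S.z := S.z_comm (S.K_le hk)
  have h2 : ∀ i, Commute k (S.e i) := fun i => mem_centralizer_singleton_iff.1 (S.K_cent i hk)
  rcases S.center w hwJ hw with rfl | rfl | ⟨i, rfl | rfl⟩
  exacts [Commute.one_right k, h1, h2 i, h1.mul_right (h2 i)]

theorem center_sq {w : G} (hwJ : w ∈ S.J) (hw : ∀ y ∈ S.J, w * y = y * w) : w * w = 1 := by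
  rcases S.center w hwJ hw with rfl | rfl | ⟨i, rfl | rfl⟩
  exacts [one_mul 1, S.z_sq, S.e_sq i, S.d_sq i]

end Setup

namespace FData

variable {S : Setup G F} (A : FData S)
include A

/-- The difference of a vector and its image. -/
def nv (g : G) (v : Fin 4 → F) : Fin 4 → F := v + A.act g v

theorem act_isom {g : G} (hg : g ∈ S.K) : IsIsom (A.act g) := by
  obtain ⟨M, hM⟩ := A.act_inner g hg
  have := isom_su M
  rwa [← funext hM] at this

/-- An involution fixing a whole nonzero line is inner. -/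
theorem inner_of_fix {g : G} (hg : g ∈ centralizer ({S.z} : Set G)) (hgg : g * g = 1) {v : Fin 4 → F}
    (hv : v ≠ 0) (h : ∀ k : F, A.act g (k • v) = k • v) : g ∈ S.K := by
  by_contra hn
  obtain ⟨ω, h0, h1, -, -⟩ := exists_omega S.hF
  obtain ⟨i, hi⟩ := S.exists_fixed_invol hg hgg
  have e := A.act_outer g hg hn i hi ω v
  rw [h, show A.act g v = v by simpa using h 1] at e
  have e' : ω = ω ^ 2 := smul_left_injective F hv e
  exact h1 (mul_left_cancel₀ h0 (by rw [mul_one, ← pow_two, ← e']))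

/-- The quotient of two elements of `J` with the same vector is central in `J`. -/
theorem central_of_vec {x x' : G} (hx : x ∈ S.J) (hx' : x' ∈ S.J) (hv : A.vec x = A.vec x') :
    ∀ y ∈ S.J, x⁻¹ * x' * y = y * (x⁻¹ * x') :=
  (A.vec_zero _ (mul_mem (inv_mem hx) hx')).1 (by
    rw [A.vec_mul _ (inv_mem hx) _ hx', A.vec_inv hx, hv, neg_add_cancel])

/-- Two elements of `J` with the same vector commute with the same elements of `K`. -/
theorem comm_of_vec {e x x' : G} (he : e ∈ S.K) (hx : x ∈ S.J) (hx' : x' ∈ S.J)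
    (hv : A.vec x = A.vec x') (h : x * e = e * x) : x' * e = e * x' := by
  have hw := S.K_center he (mul_mem (inv_mem hx) hx') (A.central_of_vec hx hx' hv)
  calc x' * e = x * (x⁻¹ * x' * e) := by group
    _ = x * e * (x⁻¹ * x') := by rw [← hw, mul_assoc x e]
    _ = e * x' := by rw [h]; group

theorem vec_commutator {g x : G} (hg : g ∈ centralizer ({S.z} : Set G)) (hx : x ∈ S.J) :
    g * x * g⁻¹ * x⁻¹ ∈ S.J ∧ A.vec (g * x * g⁻¹ * x⁻¹) = A.nv g (A.vec x) := by
  refine ⟨mul_mem (S.J_normal g hg x hx) (inv_mem hx), ?_⟩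
  rw [A.vec_mul _ (S.J_normal g hg x hx) _ (inv_mem hx), A.vec_inv hx, A.neg_eq, A.act_vec g hg x hx, nv,
    add_comm]

/-- Isotropic differences come from elements of `J` centralising the involution. -/
theorem nv_mem {e : G} (he : e ∈ centralizer ({S.z} : Set G)) (hee : e * e = 1) {v : Fin 4 → F}
    (hv : hermForm 4 F 2 (A.nv e v) (A.nv e v) = 0) :
    ∃ x ∈ S.J, x * e = e * x ∧ A.vec x = A.nv e v := by
  obtain ⟨j, hj, rfl⟩ := A.vec_surj v
  obtain ⟨hx, hxv⟩ := A.vec_commutator he hj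
  refine ⟨_, hx, ?_, hxv⟩
  have hinv : e⁻¹ = e := inv_eq_of_mul_eq_one_right hee
  have hx2 : (e * j * e⁻¹ * j⁻¹) * (e * j * e⁻¹ * j⁻¹) = 1 :=
    (A.sq_iff _ hx).2 (by rw [hxv]; exact hv)
  have h : e * (e * j * e⁻¹ * j⁻¹) * e⁻¹ = (e * j * e⁻¹ * j⁻¹)⁻¹ := by
    simp only [hinv, mul_inv_rev, inv_inv]
    simp only [← mul_assoc, hee, one_mul]
  rw [inv_eq_of_mul_eq_one_right hx2] at h
  exact (mul_inv_eq_iff_eq_mul.1 h).symm

/-- Conjugates of an element with the same action differ by an element of `J`. -/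
theorem diff_mem_J {g h : G} (hg : g ∈ centralizer ({S.z} : Set G)) (hh : h ∈ centralizer ({S.z} : Set G))
    (e : ∀ v, A.act g v = A.act h v) : g⁻¹ * h ∈ S.J := by
  refine (A.act_one _ (mul_mem (inv_mem hg) hh)).1 fun v => ?_
  rw [A.act_mul (inv_mem hg) hh, ← e, A.act_inv hg]

theorem act_conj {k e : G} (hk : k ∈ centralizer ({S.z} : Set G)) (he : e ∈ centralizer ({S.z} : Set G))
    (v : Fin 4 → F) : A.act (k * e * k⁻¹) (A.act k v) = A.act k (A.act e v) := by
  rw [A.act_mul (mul_mem hk he) (inv_mem hk), A.act_inv hk, A.act_mul hk he]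

/-- A diagonal element of `SU₄(2)` lifts to `K`. -/
theorem exists_diag_lift (d : Fin 4 → F) (hd : ∀ i, d i ≠ 0) (hdet : d 0 * d 1 * d 2 * d 3 = 1) :
    ∃ c ∈ S.K, ∀ x, A.act c x = fun i => d i * x i := by
  obtain ⟨M, hM⟩ := exists_su_diag S.hF d hd hdet
  obtain ⟨c, hc, h⟩ := A.act_surj M
  exact ⟨c, hc, fun x => (h x).trans (funext (hM x))⟩

end FData

end CfsgLib.Recog.Fi23Cent
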