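import Cfsg.Agent.Lib.Recog.Fi23Cent.LocApi

/-!
Involutions of `C(z)` and their centralisers in `J`: the transvection case, absorption of elements of `J`, and
an element of `J` whose centraliser in `J` is centralised.
-/

set_option autoImplicit false
set_option linter.unusedSectionVars false

namespace CfsgLib.Recog.Fi23Cent

open Subgroup Cfsg CfsgLib.Recog.U6Cent CfsgLib.Recog.Fi22Cent
open scoped Matrix

variable {G : Type*} [Group G] [Finite G] {F : Type*} [Field F] [Fintype F]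

/-- A vector trace-orthogonal to a line is orthogonal to it. -/
theorem orth_of_trace (hF : Fintype.card F = 4) {d v : Fin 4 → F}
    (h : ∀ k : F, hermForm 4 F 2 d (k • v) + hermForm 4 F 2 d (k • v) ^ 2 = 0) :
    hermForm 4 F 2 d v = 0 := by
  refine eq_zero_of_trace hF fun k => ?_
  have h' := h (k ^ 2)
  rwa [herm_smul_right hF, ← pow_mul, f4_pow hF] at h'

namespace FData

variable {S : Setup G F} (A : FData S)
include A

/-- An element of `C(z)` fixing the centraliser in `J` of an element of `J` outside the centre. -/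
theorem fix_memJ {s y : G} (hs : s ∈ centralizer ({S.z} : Set G)) (hy : y ∈ S.J) (hyv : A.vec y ≠ 0)
    (hyy : y * y = 1) (hss : s * s = 1) (hc : ∀ x ∈ S.J, x * y = y * x → x * s = s * x) :
    s ∈ S.J ∧ (A.vec s = 0 ∨ A.vec s = A.vec y) := by
  set u := A.vec y with hu
  have hiso : hermForm 4 F 2 u u = 0 := (A.sq_iff y hy).1 hyy
  have hfix : ∀ v, hermForm 4 F 2 v u + hermForm 4 F 2 v u ^ 2 = 0 →
      ∃ j ∈ S.J, A.vec j = v ∧ j * s = s * j := fun v hv => by
    obtain ⟨j, hj, rfl⟩ := A.vec_surj v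
    exact ⟨j, hj, rfl, hc j hj ((A.comm_iff j hj y hy).2 hv)⟩
  have hact : ∀ v, hermForm 4 F 2 v u + hermForm 4 F 2 v u ^ 2 = 0 → A.act s v = v := fun v hv => by
    obtain ⟨j, hj, rfl, hjs⟩ := hfix v hv
    rw [← A.act_vec s hs j hj, ← hjs, mul_inv_cancel_right]
  have hsK : s ∈ S.K := A.inner_of_fix hs hss hyv fun k => hact _ (by
    rw [herm_smul_left S.hF, hiso, mul_zero, zero_pow two_ne_zero, add_zero])
  have hsJ : s ∈ S.J := (A.act_one s hs).1 fun v => by
    by_cases h : hermForm 4 F 2 v u = 0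
    · exact hact v (by rw [h, zero_pow two_ne_zero, add_zero])
    · have h1 := hact ((hermForm 4 F 2 v u)⁻¹ • v) (by
        rw [herm_smul_left S.hF, inv_mul_cancel₀ h, one_pow, f4_add_self S.hF])
      rw [(A.act_isom hsK).smul] at h1
      exact smul_right_injective _ (inv_ne_zero h) h1
  refine ⟨hsJ, ?_⟩
  set w := A.vec s with hw
  have htr : ∀ v, hermForm 4 F 2 v u + hermForm 4 F 2 v u ^ 2 = 0 →
      hermForm 4 F 2 v w + hermForm 4 F 2 v w ^ 2 = 0 := fun v hv => by
    obtain ⟨j, hj, rfl, hjs⟩ := hfix v hv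
    exact (A.comm_iff j hj s hsJ).1 hjs
  obtain ⟨k, hk⟩ := mem_line S.hF hyv (w := w) fun v hv => eq_zero_of_trace S.hF fun k => by
    have := htr (k • v) (by rw [herm_smul_left S.hF, hv, mul_zero, zero_pow two_ne_zero, add_zero])
    rwa [herm_smul_left S.hF] at this
  obtain ⟨v, hv⟩ := exists_pairing hyv (1 : F)
  have h2 := htr v (by rw [hv, one_pow, f4_add_self S.hF])
  rw [hk, herm_smul_right S.hF, hv, mul_one, ← pow_mul, f4_pow S.hF] at h2
  rcases f4_bool (f4_eq_of_add_zero S.hF h2) with e | e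
  · exact Or.inl (by rw [hk, e, zero_smul])
  · exact Or.inr (by rw [hk, e, one_smul])

/-- An inner involution outside `J` and an outer element cannot have the same centraliser in `J`. -/
theorem inner_outer {e o : G} (he : e ∈ S.K) (hee : e * e = 1) (heJ : e ∉ S.J)
    (ho : o ∈ centralizer ({S.z} : Set G)) (hoo : o * o = 1) (hoK : o ∉ S.K)
    (hc : ∀ x ∈ S.J, x * e = e * x → x * o = o * x) : False := by
  have heH := S.K_le he
  have hi : ∀ v, A.act e (A.act e v) = v := fun v => by rw [← A.act_mul heH heH, hee, A.act_id]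
  have adj : ∀ x y, hermForm 4 F 2 (A.act e x) y = hermForm 4 F 2 x (A.act e y) := fun x y => by
    have h := (A.act_isom he).herm x (A.act e y)
    rwa [hi] at h
  obtain ⟨v, hv⟩ : ∃ v, A.nv e v ≠ 0 := by
    by_contra hall
    push Not at hall
    exact heJ ((A.act_one e heH).1 fun v => (v_eq_of_add_zero S.hF (hall v)).symm)
  have hiso : ∀ v, hermForm 4 F 2 (A.nv e v) (A.nv e v) = 0 := fun v => by
    have hf : A.act e (v + A.act e v) = v + A.act e v := by rw [(A.act_isom he).add, hi, add_comm]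
    rw [nv, herm_add_left S.hF, adj, hf, f4_add_self S.hF]
  refine hoK (A.inner_of_fix ho hoo hv fun k => ?_)
  have hk : k • A.nv e v = A.nv e (k • v) := by rw [nv, nv, (A.act_isom he).smul, smul_add]
  obtain ⟨x, hx, hxe, hxv⟩ := A.nv_mem heH hee (hiso (k • v))
  rw [hk, ← hxv, ← A.act_vec o ho x hx, ← hc x hx hxe, mul_inv_cancel_right]

theorem tv_rigid_aux {e f : G} (he : e ∈ S.K) (hee : e * e = 1) (hf : f ∈ S.K)
    (hA : ∀ v, A.act e v = transvec va v) (hc : ∀ x ∈ S.J, x * e = e * x → x * f = f * x) :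
    (∀ v, A.act f v = v) ∨ ∀ v, A.act f v = A.act e v := by
  obtain ⟨ω, h0, h1, hω, h3⟩ := exists_omega S.hF
  have heH := S.K_le he
  have hfix : ∀ x ∈ S.J, x * e = e * x → A.act f (A.vec x) = A.vec x := fun x hx h => by
    rw [← A.act_vec f (S.K_le hf) x hx, ← hc x hx h, mul_inv_cancel_right]
  have hva : A.act f va = va := by
    have hn : A.nv e ve0 = va := by
      rw [nv, hA, transvec, herm_va S.hF, ← add_assoc, vadd_self S.hF, zero_add]
      simp [ve0]
    obtain ⟨x, hx, hxe, hxv⟩ := A.nv_mem heH hee (v := ve0) (by rw [hn]; exact va_iso S.hF)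
    rw [← hn, ← hxv]
    exact hfix x hx hxe
  obtain ⟨c, hc', hcact⟩ := A.exists_diag_lift ![1, 1, ω, ω ^ 2]
    (fun i => by fin_cases i <;> simp [h0]) (by simp only [Matrix.cons_val]; linear_combination h3)
  have hcH := S.K_le hc'
  have hcomm : ∀ v, A.act c (A.act e v) = A.act e (A.act c v) := fun v => by
    rw [hcact, hcact, hA, hA, transvec, transvec, herm_va S.hF, herm_va S.hF]
    funext i
    fin_cases i <;> simp [va]
  have hdel : c⁻¹ * e * c ∈ centralizer ({S.z} : Set G) := mul_mem (mul_mem (inv_mem hcH) heH) hcH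
  have hd : e⁻¹ * (c⁻¹ * e * c) ∈ S.J := A.diff_mem_J heH hdel fun v => by
    rw [A.act_mul (mul_mem (inv_mem hcH) heH) hcH, A.act_mul (inv_mem hcH) heH, ← hcomm, A.act_inv hcH]
  -- on a fixed line the commutator with `e` takes only the values `1` and `z` on differences
  have key : ∀ u : Fin 4 → F, A.act e u = u → ∀ a : F, A.act c u = a • u →
      ∃ x ∈ S.J, A.vec x = (1 + a) • u ∧ (x * e = e * x ∨ e * x * e⁻¹ = x * S.z) := by
    intro u hu a ha
    obtain ⟨j, hj, rfl⟩ := A.vec_surj u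
    set j' := c * j * c⁻¹ with hj'
    have hj'J : j' ∈ S.J := S.J_normal c hcH j hj
    refine ⟨j⁻¹ * j', mul_mem (inv_mem hj) hj'J, ?_, ?_⟩
    · rw [A.vec_mul _ (inv_mem hj) _ hj'J, A.vec_inv hj, A.neg_eq, hj', A.act_vec c hcH j hj, ha, add_smul,
        one_smul]
    · set w := e * j * e⁻¹ * j⁻¹ with hw
      have hwc := (A.vec_zero w (A.vec_commutator heH hj).1).1 (by
        rw [(A.vec_commutator heH hj).2, nv, hu, A.add_self])
      set d := e⁻¹ * (c⁻¹ * e * c) with hdd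
      have e1 : e * j' * e⁻¹ = c * (e * (d * j * d⁻¹) * e⁻¹) * c⁻¹ := by rw [hj', hdd]; group
      have e2 : e * j * e⁻¹ = w * j := by rw [hw]; group
      have hcw : c * w * c⁻¹ = w := by rw [S.K_center hc' (A.vec_commutator heH hj).1 hwc, mul_inv_cancel_right]
      rcases S.conj_cases hj hd with h | h <;> rw [h] at e1
      · refine Or.inl ?_
        have e3 : e * (j⁻¹ * j') * e⁻¹ = j⁻¹ * j' := by
          calc e * (j⁻¹ * j') * e⁻¹ = (e * j * e⁻¹)⁻¹ * (e * j' * e⁻¹) := by group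
            _ = (w * j)⁻¹ * (c * (w * j) * c⁻¹) := by rw [e1, e2]
            _ = (w * j)⁻¹ * (c * w * c⁻¹ * (c * j * c⁻¹)) := by group
            _ = j⁻¹ * j' := by rw [hcw, hj']; group
        exact (mul_inv_eq_iff_eq_mul.1 e3).symm
      · refine Or.inr ?_
        have hez : e * S.z * e⁻¹ = S.z := by rw [S.z_comm heH, mul_inv_cancel_right]
        have hcz : c * S.z * c⁻¹ = S.z := by rw [S.z_comm hcH, mul_inv_cancel_right]
        calc e * (j⁻¹ * j') * e⁻¹ = (e * j * e⁻¹)⁻¹ * (e * j' * e⁻¹) := by group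
          _ = (w * j)⁻¹ * (c * (w * j * S.z) * c⁻¹) := by
            rw [e1, e2]; congr 2
            calc c * (e * (j * S.z) * e⁻¹) = c * (e * j * e⁻¹ * (e * S.z * e⁻¹)) := by group
              _ = c * (w * j * S.z) := by rw [e2, hez]
          _ = (w * j)⁻¹ * (c * w * c⁻¹ * (c * j * c⁻¹) * (c * S.z * c⁻¹)) := by group
          _ = j⁻¹ * j' * S.z := by rw [hcw, hcz, hj']; group
  have line : ∀ u : Fin 4 → F, A.act e u = u → ∀ a : F, 1 + a ≠ 0 → (∀ k : F, A.act c (k • u) = a • (k • u)) →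
      A.act f u = u := by
    intro u hu a ha hcu
    have hfe : ∀ k : F, k ≠ 0 → (∃ x ∈ S.J, A.vec x = k • u ∧ x * e = e * x) → A.act f u = u := by
      intro k hk ⟨x, hx, hxv, hxe⟩
      have h := hfix x hx hxe
      rw [hxv, (A.act_isom hf).smul] at h
      exact smul_right_injective _ hk h
    have hek : ∀ k : F, A.act e (k • u) = k • u := fun k => by rw [(A.act_isom he).smul, hu]
    obtain ⟨x₁, hx₁, v₁, c₁ | c₁⟩ := key ((1 : F) • u) (hek 1) a (hcu 1)
    · exact hfe _ ha ⟨x₁, hx₁, by rw [v₁, one_smul], c₁⟩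
    obtain ⟨x₂, hx₂, v₂, c₂ | c₂⟩ := key (ω • u) (hek ω) a (hcu ω)
    · exact hfe _ (mul_ne_zero ha h0) ⟨x₂, hx₂, by rw [v₂, smul_smul], c₂⟩
    refine hfe ((1 + a) * (1 + ω)) (mul_ne_zero ha fun h => h1 (f4_eq_of_add_zero S.hF h).symm)
      ⟨x₁ * x₂, mul_mem hx₁ hx₂, ?_, ?_⟩
    · rw [A.vec_mul _ hx₁ _ hx₂, v₁, v₂, one_smul, smul_smul, ← add_smul, mul_add, mul_one]
    · refine (mul_inv_eq_iff_eq_mul.1 ?_).symm
      calc e * (x₁ * x₂) * e⁻¹ = e * x₁ * e⁻¹ * (e * x₂ * e⁻¹) := by group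
        _ = x₁ * (S.z * x₂) * S.z := by rw [c₁, c₂]; group
        _ = x₁ * x₂ := by
          rw [← S.z_comm (S.J_le_cent hx₂), ← mul_assoc, mul_assoc (x₁ * x₂), S.z_sq, mul_one]
  have h2 : A.act f ve2 = ve2 := line ve2 (by rw [hA, transvec, herm_va S.hF]; simp [ve2]) ω
    (fun h => h1 (f4_eq_of_add_zero S.hF h).symm) fun k => by
      rw [hcact]; funext i; fin_cases i <;> simp [ve2]
  have h3' : A.act f ve3 = ve3 := line ve3 (by rw [hA, transvec, herm_va S.hF]; simp [ve3]) (ω ^ 2)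
    (fun h => h0 (by linear_combination h - hω - f4_char S.hF)) fun k => by
      rw [hcact]; funext i; fin_cases i <;> simp [ve3]
  rcases isom_fix_perp S.hF (A.act_isom hf) hva h2 h3' with h | h
  · exact Or.inl h
  · exact Or.inr fun v => by rw [h, hA]

/-- An element centralising the centraliser in `J` of a transvection acts trivially or like it. -/
theorem tv_rigid {e f : G} (he : e ∈ S.K) (hee : e * e = 1) (hf : f ∈ S.K) {M : SU 4 F 2}
    (hA : ∀ v, slToMat 4 F M *ᵥ A.act e v = transvec va (slToMat 4 F M *ᵥ v))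
    (hc : ∀ x ∈ S.J, x * e = e * x → x * f = f * x) :
    (∀ v, A.act f v = v) ∨ ∀ v, A.act f v = A.act e v := by
  obtain ⟨k, hk, hkM⟩ := A.act_surj M
  have hkH := S.K_le hk
  have hconj : ∀ v, A.act (k * e * k⁻¹) v = transvec va v := fun v => by
    have h := A.act_conj hkH (S.K_le he) (A.act k⁻¹ v)
    rw [show A.act k (A.act k⁻¹ v) = v by
      rw [← A.act_mul hkH (inv_mem hkH), mul_inv_cancel, A.act_id]] at h
    rw [h, hkM, hA, ← hkM]
    rw [show A.act k (A.act k⁻¹ v) = v by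
      rw [← A.act_mul hkH (inv_mem hkH), mul_inv_cancel, A.act_id]]
  have hc' : ∀ x ∈ S.J, x * (k * e * k⁻¹) = k * e * k⁻¹ * x → x * (k * f * k⁻¹) = k * f * k⁻¹ * x := by
    intro x hx h
    have hx' : k⁻¹ * x * k ∈ S.J := by simpa using S.J_normal _ (inv_mem hkH) x hx
    have h' := hc _ hx' (by
      calc k⁻¹ * x * k * e = k⁻¹ * (x * (k * e * k⁻¹)) * k := by group
        _ = e * (k⁻¹ * x * k) := by rw [h]; group)
    calc x * (k * f * k⁻¹) = k * (k⁻¹ * x * k * f) * k⁻¹ := by group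
      _ = k * f * k⁻¹ * x := by rw [h']; group
  rcases A.tv_rigid_aux (mul_mem (mul_mem hk he) (inv_mem hk))
    (by rw [show k * e * k⁻¹ * (k * e * k⁻¹) = k * (e * e) * k⁻¹ by group, hee, mul_one, mul_inv_cancel])
    (mul_mem (mul_mem hk hf) (inv_mem hk)) hconj hc' with h | h
  · refine Or.inl fun v => A.act_injective hkH ?_
    rw [← A.act_conj hkH (S.K_le hf), h]
  · refine Or.inr fun v => A.act_injective hkH ?_
    rw [← A.act_conj hkH (S.K_le hf), h, A.act_conj hkH (S.K_le he)]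

/-- Elements commuting with the action of an involution can be corrected by `J` to centralise it. -/
theorem absorb {y c : G} (hy : y ∈ S.K) (hyy : y * y = 1) (hc : c ∈ S.K)
    (hcomm : ∀ v, A.act c (A.act y v) = A.act y (A.act c v))
    (hfull : ∀ x ∈ S.J, A.act y (A.vec x) = A.vec x → x * y = y * x)
    (hperp : ∀ d, (∀ v, A.act y v = v → hermForm 4 F 2 d v + hermForm 4 F 2 d v ^ 2 = 0) →
      ∃ w, A.nv y w = d) :
    ∃ e ∈ S.K, e * y = y * e ∧ ∀ v, A.act e v = A.act c (A.act c v) := by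
  have hyH := S.K_le hy
  have hcH := S.K_le hc
  have hconjH : c * y * c⁻¹ ∈ centralizer ({S.z} : Set G) := mul_mem (mul_mem hcH hyH) (inv_mem hcH)
  have hd : y⁻¹ * (c * y * c⁻¹) ∈ S.J := A.diff_mem_J hyH hconjH fun v => by
    rw [A.act_mul (mul_mem hcH hyH) (inv_mem hcH), A.act_mul hcH hyH, hcomm,
      ← A.act_mul hcH (inv_mem hcH), mul_inv_cancel, A.act_id]
  set d := y⁻¹ * (c * y * c⁻¹) with hdd
  obtain ⟨w, hw⟩ := hperp (A.vec d) fun v hv => by
    obtain ⟨j, hj, hjv⟩ := A.vec_surj (A.act c⁻¹ v)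
    have hjy : j * y = y * j := hfull j hj (by
      rw [hjv]
      refine A.act_injective hcH ?_
      rw [hcomm, ← A.act_mul hcH (inv_mem hcH), mul_inv_cancel, A.act_id, hv])
    have hj' : c * j * c⁻¹ ∈ S.J := S.J_normal c hcH j hj
    have hv' : A.vec (c * j * c⁻¹) = v := by
      rw [A.act_vec c hcH j hj, hjv, ← A.act_mul hcH (inv_mem hcH), mul_inv_cancel, A.act_id]
    have h1 : c * j * c⁻¹ * y = y * (c * j * c⁻¹) := hfull _ hj' (by rw [hv', hv])
    have h2 : c * j * c⁻¹ * (c * y * c⁻¹) = c * y * c⁻¹ * (c * j * c⁻¹) := by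
      calc c * j * c⁻¹ * (c * y * c⁻¹) = c * (j * y) * c⁻¹ := by group
        _ = _ := by rw [hjy]; group
    have h3 : Commute (c * j * c⁻¹) d := (Commute.inv_right h1).mul_right h2
    have h4 := (A.comm_iff d hd _ hj').1 h3.eq.symm
    rwa [hv'] at h4
  obtain ⟨j, hj, hjv⟩ := A.vec_surj w
  have hjH := S.J_le_cent hj
  have hyinv : y⁻¹ = y := inv_eq_of_mul_eq_one_right hyy
  set η := y * j * y⁻¹ * j⁻¹ with hη
  have hηv : A.vec η = A.vec d := by rw [(A.vec_commutator hyH hj).2, hjv, hw]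
  have hm : η * (j * d * j⁻¹) ∈ S.J := mul_mem (A.vec_commutator hyH hj).1 (S.J_normal j hjH d hd)
  have hcen := (A.vec_zero _ hm).1 (by
    rw [A.vec_mul _ (A.vec_commutator hyH hj).1 _ (S.J_normal j hjH d hd), hηv, A.act_vec j hjH d hd,
      A.act_J hj, A.add_self])
  set e₁ := j * c with he₁
  have he₁K : e₁ ∈ S.K := mul_mem (S.J_le hj) hc
  have h5 : e₁ * y * e₁⁻¹ = y * (η * (j * d * j⁻¹)) := by
    rw [he₁, hη, hdd, hyinv]
    have : ∀ a : G, y * (y * a) = a := fun a => by rw [← mul_assoc, hyy, one_mul]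
    simp only [mul_assoc, mul_inv_rev, this, inv_mul_cancel_left]
  set w₀ := η * (j * d * j⁻¹)
  refine ⟨e₁ * e₁, mul_mem he₁K he₁K, ?_, fun v => ?_⟩
  · refine mul_inv_eq_iff_eq_mul.1 ?_
    calc e₁ * e₁ * y * (e₁ * e₁)⁻¹ = e₁ * (e₁ * y * e₁⁻¹) * e₁⁻¹ := by group
      _ = e₁ * y * e₁⁻¹ * (e₁ * w₀ * e₁⁻¹) := by 
        conv_lhs => rw [h5]
        group
      _ = y * (w₀ * w₀) := by rw [h5, S.K_center he₁K hm hcen, mul_inv_cancel_right, mul_assoc]
      _ = y := by rw [S.center_sq hm hcen, mul_one]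
  · rw [A.act_mul (S.K_le he₁K) (S.K_le he₁K), he₁, A.act_mul hjH hcH, A.act_mul hjH hcH, A.act_J hj,
      A.act_J hj]

end FData

end CfsgLib.Recog.Fi23Cent
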