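import Cfsg.Agent.Lib.Recog.Fi23Cent.LocCore
import Cfsg.Agent.Lib.Recog.Fi23Cent.GeomFix

/-!
An involution commuting with an involution `s` of `J` and with the commutators of the squares in the centraliser
of `s` acts as the transvection at the vector of `s`.
-/

set_option autoImplicit false
set_option linter.unusedSectionVars false

namespace CfsgLib.Recog.Fi23Cent

open Subgroup Cfsg CfsgLib.Recog.U6Cent CfsgLib.Recog.Fi22Cent
open scoped Matrix

variable {G : Type*} [Group G] [Finite G] {F : Type*} [Field F] [Fintype F]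

namespace FData

variable {S : Setup G F} (A : FData S) {s y : G}
include A

theorem sJ_transvec (hs : s ∈ S.J) (hu : A.vec s = va) (hyH : y ∈ centralizer ({S.z} : Set G))
    (hyy : y * y = 1) (hcomm : s * y = y * s) (hy : y ∉ S.J)
    (hker : ∀ a ∈ centralizer ({S.z} : Set G), a * s = s * a → ∀ b ∈ centralizer ({S.z} : Set G), b * s = s * b →
      Commute (a * a * (b * b) * (a * a * (a * a)) * (b * b * (b * b))) y) :
    ∀ v, A.act y v = transvec va v := by
  obtain ⟨ω, h0, h1, hω, h3⟩ := exists_omega S.hF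
  have h4 : ω ^ 4 = ω := f4_pow S.hF ω
  have hyva : A.act y va = va := by
    rw [← hu, ← A.act_vec y hyH s hs, ← hcomm, mul_inv_cancel_right]
  refine (eq_transvec_of_comm S.hF ?_ hyva ?_).resolve_left fun h => hy ((A.act_one y hyH).1 h)
  · by_cases hyK : y ∈ S.K
    · exact Or.inl (A.act_isom hyK)
    · obtain ⟨i, hi⟩ := S.exists_fixed_invol hyH hyy
      exact Or.inr ⟨A.act_add hyH, A.act_outer y hyH hyK i hi, A.act_form y hyH hyK i hi⟩
  intro α γ hα hγ x
  obtain ⟨c, hc, hcD⟩ := A.exists_diag_lift ![1, 1, ω, ω ^ 2]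
    (fun i => by fin_cases i <;> simp [h0]) (by simp only [Matrix.cons_val]; linear_combination h3)
  have qiso : hermForm 4 F 2 (![α, α, 1, γ] : Fin 4 → F) ![α, α, 1, γ] = 0 := by
    simp [hermForm, Fin.sum_univ_four, f4_add_self S.hF]
    linear_combination f4_norm S.hF hγ + f4_char S.hF
  obtain ⟨M, hM⟩ := exists_su_transvec S.hF qiso
  obtain ⟨d, hd, hdM⟩ := A.act_surj M
  have hdT : ∀ v, A.act d v = transvec ![α, α, 1, γ] v := fun v => (hdM v).trans (hM v)
  have hcH := S.K_le hc
  have hdH := S.K_le hd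
  have hdT' : ∀ v, A.act d⁻¹ v = transvec ![α, α, 1, γ] v := fun v => by
    conv_lhs => rw [← transvec_invol S.hF qiso v, ← hdT]
    exact A.act_inv hdH _
  set a := c * c with ha
  have haK : a ∈ S.K := mul_mem hc hc
  have haH := S.K_le haK
  have hac : a * s = s * a := A.sq_fix hc hs (by rw [hu, hcD]; funext i; fin_cases i <;> simp [va])
  set b := d * a * d⁻¹ with hb
  have hbH : b ∈ centralizer ({S.z} : Set G) := mul_mem (mul_mem hdH haH) (inv_mem hdH)
  have hqv : hermForm 4 F 2 (va : Fin 4 → F) ![α, α, 1, γ] = 0 := by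
    simp [hermForm, Fin.sum_univ_four, va, f4_add_self S.hF]
  have hds : d⁻¹ * s * d ∈ S.J := by simpa using S.J_normal d⁻¹ (inv_mem hdH) s hs
  have hdv : A.vec (d⁻¹ * s * d) = A.vec s := by
    have h := A.act_vec d⁻¹ (inv_mem hdH) s hs
    rw [inv_inv] at h
    rw [h, hdT', hu, transvec, hqv, zero_smul, add_zero]
  have hbc : b * s = s * b := by
    have h := A.comm_of_vec haK hs hds hdv.symm hac.symm
    calc b * s = d * (a * (d⁻¹ * s * d)) * d⁻¹ := by rw [hb]; group
      _ = s * b := by rw [← h, hb]; group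
  have hA : ∀ v, A.act (a * a) v = fun i => ![1, 1, ω, ω ^ 2] i * v i := fun v => by
    rw [A.act_mul haH haH, A.act_mul hcH hcH, A.act_mul hcH hcH, hcD, hcD, hcD, hcD]
    funext i
    fin_cases i <;> simp
    · left; linear_combination (v 2) * h3
    · left; linear_combination (v 3) * (ω ^ 3 + 1) * h3
  have hB : ∀ v, A.act (b * b) v =
      transvec ![α, α, 1, γ] (fun i => ![1, 1, ω, ω ^ 2] i * transvec ![α, α, 1, γ] v i) := fun v => by
    rw [show b * b = d * (a * a) * d⁻¹ by rw [hb]; group,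
      A.act_mul (mul_mem hdH (mul_mem haH haH)) (inv_mem hdH), A.act_mul hdH (mul_mem haH haH), hdT, hA, hdT']
  have hAA := mul_mem haH haH
  have hBB := mul_mem hbH hbH
  have hn : ∀ v, A.act (a * a * (b * b) * (a * a * (a * a)) * (b * b * (b * b))) v =
      transvec ![α, α, 1, γ] (transvec ![0, 0, 1, γ] v) := fun v => by
    rw [A.act_mul (mul_mem (mul_mem hAA hBB) (mul_mem hAA hAA)) (mul_mem hBB hBB),
      A.act_mul (mul_mem hAA hBB) (mul_mem hAA hAA), A.act_mul hAA hBB, A.act_mul hAA hAA, A.act_mul hBB hBB]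
    simp only [hA, hB, transvec_invol S.hF qiso]
    exact comm_transvec S.hF h1 h0 hα hγ v
  have h := hker a haH hac b hbH hbc
  have hnH := mul_mem (mul_mem (mul_mem hAA hBB) (mul_mem hAA hAA)) (mul_mem hBB hBB)
  rw [← hn, ← hn, ← A.act_mul hyH hnH, ← A.act_mul hnH hyH, h.eq]

end FData

end CfsgLib.Recog.Fi23Cent
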