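import Cfsg.Agent.Lib.Recog.Fi23Cent.QuotSetup
import Cfsg.Agent.Lib.Recog.Fi22Cent.Assembly
import Cfsg.Agent.Lib.Recog.Fi22Cent.Isolation
import Cfsg.Agent.Lib.Recog.Fi22Cent.SplitMain
import Cfsg.Agent.Lib.InvChar.SporFi22Simple
import Cfsg.Agent.S1714
import Cfsg.Prelude.Def_CaseTheorems

/-!
The centralizers of `d i` and `e i`: either `Fi₂₃`, or `z` is isolated in every `C(d i)` and each `C(e i)` is
isolated or of type `U₆(2)`.
-/

set_option autoImplicit false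
set_option linter.unusedSectionVars false

namespace CfsgLib.Recog.Fi23Cent

open Subgroup Cfsg
open scoped commutatorElement

variable {G : Type*} [Group G] [Finite G] {F : Type*} [Field F] [Fintype F]

namespace Setup

variable (S : Setup G F)

theorem IsoAt.conj {a u : G} (ha : a ∈ centralizer ({S.z} : Set G)) (h : S.IsoAt u) : S.IsoAt (a * u * a⁻¹) := by
  intro g hg hc
  have hz : a * S.z * a⁻¹ = S.z := S.conj_z ha
  have hz' : a⁻¹ * S.z * a = S.z := by simpa using S.conj_z (inv_mem ha)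
  have e1 : a⁻¹ * g * a * S.z * (a⁻¹ * g * a)⁻¹ = a⁻¹ * (g * S.z * g⁻¹) * a := by
    rw [show a⁻¹ * g * a * S.z * (a⁻¹ * g * a)⁻¹ = a⁻¹ * g * (a * S.z * a⁻¹) * g⁻¹ * a by group, hz]
    group
  have h1 := h (a⁻¹ * g * a) (mem_centralizer_singleton_iff.2 (by
    calc a⁻¹ * g * a * u = a⁻¹ * (g * (a * u * a⁻¹)) * a := by group
      _ = a⁻¹ * (a * u * a⁻¹ * g) * a := by rw [mem_centralizer_singleton_iff.1 hg]
      _ = u * (a⁻¹ * g * a) := by group)) (by
    rw [e1]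
    show a⁻¹ * (g * S.z * g⁻¹) * a * S.z = S.z * (a⁻¹ * (g * S.z * g⁻¹) * a)
    generalize g * S.z * g⁻¹ = t at hc ⊢
    calc a⁻¹ * t * a * S.z = a⁻¹ * t * a * (a⁻¹ * S.z * a) := by rw [hz']
      _ = a⁻¹ * (t * S.z) * a := by group
      _ = a⁻¹ * (S.z * t) * a := by rw [hc.eq]
      _ = (a⁻¹ * S.z * a) * (a⁻¹ * t * a) := by group
      _ = S.z * (a⁻¹ * t * a) := by rw [hz'])
  rw [e1] at h1
  calc g * S.z * g⁻¹ = a * (a⁻¹ * (g * S.z * g⁻¹) * a) * a⁻¹ := by group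
    _ = S.z := by rw [h1, hz]

theorem rot_e (i : Fin 3) : S.c ^ (i : ℕ) * S.e 0 * (S.c ^ (i : ℕ))⁻¹ = S.e i := by
  rw [S.c_rot_fin, zero_add]

theorem rot_d (i : Fin 3) : S.c ^ (i : ℕ) * S.d 0 * (S.c ^ (i : ℕ))⁻¹ = S.d i := by
  rw [d, show S.c ^ (i : ℕ) * (S.z * S.e 0) * (S.c ^ (i : ℕ))⁻¹ =
    S.c ^ (i : ℕ) * S.z * (S.c ^ (i : ℕ))⁻¹ * (S.c ^ (i : ℕ) * S.e 0 * (S.c ^ (i : ℕ))⁻¹) by group,
    S.conj_z (S.c_pow_mem _), S.rot_e]
  rfl

/-- Isolation in the quotient gives isolation in the centralizer. -/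
theorem Pivot.isoAt {u : G} (hP : S.Pivot u)
    (h : IsIsolatedInvolution (quotMap u ⟨S.z, hP.z_cent⟩)) : S.IsoAt u := by
  intro g hg hc
  refine hP.comm_lift S ?_
  let g' : centralizer ({u} : Set G) := ⟨g, hg⟩
  have h1 := h.2 (quotMap u g') (by
    rw [← map_inv, ← map_mul, ← map_mul]
    show _ * _ = _ * _
    rw [← map_mul, ← map_mul]
    exact congrArg _ (Subtype.ext hc.eq.symm))
  rw [← map_inv, ← map_mul, ← map_mul] at h1
  exact quotMap_eq hP.sq h1.symm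

theorem fi22_center_bot {Q : Type*} [Group Q] (e : Spor.IsoFi22 Q) :
    Subgroup.center Q = ⊥ ∧ commutator Q = ⊤ ∧ IsSimpleGroup Q := by
  obtain ⟨f⟩ := e
  haveI : IsSimpleGroup Spor.Fi22 := CfsgLib.InvChar.SporFi22.isSimpleGroup
  haveI : IsSimpleGroup Q := f.isSimpleGroup
  haveI : Finite Spor.Fi22 := CfsgLib.InvChar.SporFi22.card_le.1
  have hcard : Nat.card Q = Nat.card Spor.Fi22 := Nat.card_congr f.toEquiv
  have hnp : ¬ (Nat.card Q).Prime := by
    rw [hcard, CfsgLib.InvChar.SporFi22.card_eq.1]; norm_num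
  have hnc : ¬ ∀ a b : Q, a * b = b * a := fun hcomm => by
    letI : CommGroup Q := { (inferInstance : Group Q) with mul_comm := hcomm }
    haveI : Finite Q := Finite.of_equiv _ f.toEquiv.symm
    exact hnp IsSimpleGroup.prime_card
  refine ⟨?_, ?_, inferInstance⟩
  · exact (Subgroup.Normal.eq_bot_or_eq_top inferInstance).resolve_right fun h =>
      hnc fun a b => mem_center_iff.1 (h ▸ mem_top b : b ∈ Subgroup.center Q) a
  · exact (Subgroup.Normal.eq_bot_or_eq_top inferInstance).resolve_left fun h =>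
      hnc fun a b => by
        have h1 : ⁅a, b⁆ ∈ commutator Q := commutator_mem_commutator (mem_top a) (mem_top b)
        rw [h, mem_bot, commutatorElement_eq_one_iff_mul_comm] at h1
        exact h1

/-- In the first outcome for `d 0` the group is `Fi₂₃`. -/
theorem fi23_of_quot
    (h : Spor.IsoFi22 (centralizer ({S.d 0} : Set G) ⧸ quotKer (S.d 0))) : Spor.IsoFi23 G := by
  have hP := S.pivot_d
  set u := S.d 0 with hu
  set C := centralizer ({u} : Set G) with hC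
  obtain ⟨hcen, hder, hsimp⟩ := fi22_center_bot h
  obtain ⟨x, hx, y, hy, hxy⟩ : ∃ x ∈ S.J, ∃ y ∈ S.J, x * y = y * x * S.z := by
    by_contra hno
    push Not at hno
    have := S.abelian_small S.J le_rfl fun x hx y hy => (S.comm_or x hx y hy).resolve_right (hno x hx y hy)
    rw [S.card_J] at this
    omega
  obtain ⟨τ, hτz, hτ0, hτ1⟩ := S.e_swap 0
  have hτC : τ ∈ C := by
    refine mem_centralizer_singleton_iff.2 ?_
    rw [hu, d, ← mul_assoc, S.z_comm hτz, mul_assoc, mul_inv_eq_iff_eq_mul.1 hτ0, ← mul_assoc]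
  have hJC : S.J ≤ C := S.J_le.trans hP.K_le
  set uc : C := ⟨u, mem_centralizer_singleton_iff.2 rfl⟩ with huc
  have hker : ∀ w : C, quotMap u w = 1 ↔ w = 1 ∨ w = uc := fun w =>
    (quotMap_eq_one hP.sq w).trans ⟨fun h => h.imp (fun e => Subtype.ext e) (fun e => Subtype.ext e),
      fun h => h.imp (fun e => by rw [e]; rfl) (fun e => by rw [e])⟩
  have hucomm : uc ∈ commutator C := by
    have h1 : ⁅(⟨τ, hτC⟩ : C), (⟨S.e 2, hP.e_cent S 2⟩ : C)⁆ ∈ commutator C :=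
      commutator_mem_commutator (mem_top _) (mem_top _)
    have h2 : ⁅(⟨x, hJC hx⟩ : C), (⟨y, hJC hy⟩ : C)⁆ ∈ commutator C :=
      commutator_mem_commutator (mem_top _) (mem_top _)
    have e1 : ((⁅(⟨τ, hτC⟩ : C), (⟨S.e 2, hP.e_cent S 2⟩ : C)⁆ : C) : G) = S.e 0 := by
      simp only [commutatorElement_def, coe_mul, InvMemClass.coe_inv]
      have e : τ * S.e 2 * τ⁻¹ = S.e 1 := by
        have h' : τ * S.e 1 * τ⁻¹ = S.e 2 := hτ1
        calc τ * S.e 2 * τ⁻¹ = τ * (S.e 0 * S.e 1) * τ⁻¹ := by rw [show S.e 2 = S.e 0 * S.e 1 from (S.e_mul 0).symm]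
          _ = (τ * S.e 0 * τ⁻¹) * (τ * S.e 1 * τ⁻¹) := by group
          _ = S.e 0 * S.e 2 := by rw [hτ0, h']
          _ = S.e 0 * (S.e 0 * S.e 1) := by rw [show S.e 2 = S.e 0 * S.e 1 from (S.e_mul 0).symm]
          _ = S.e 1 := by rw [← mul_assoc, S.e_sq, one_mul]
      rw [e, S.e_inv]
      exact S.e_mul 1
    have e2 : ((⁅(⟨x, hJC hx⟩ : C), (⟨y, hJC hy⟩ : C)⁆ : C) : G) = S.z := by
      simp only [commutatorElement_def, coe_mul, InvMemClass.coe_inv]
      rw [hxy, mul_assoc (y * x), ← show x⁻¹ * S.z = S.z * x⁻¹ from S.z_comm (S.J_cent (inv_mem hx)),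
        ← mul_assoc, mul_inv_cancel_right, S.z_comm (S.J_cent hy), mul_inv_cancel_right]
    have h3 := mul_mem h2 h1
    convert h3 using 1
    exact Subtype.ext (by rw [coe_mul, e1, e2]; rfl)
  have hperf : commutator C = ⊤ := by
    refine eq_top_iff.2 fun w _ => ?_
    have hmap : (commutator C).map (quotMap u) = ⊤ := by
      rw [_root_.commutator_def, Subgroup.map_commutator, ← MonoidHom.range_eq_map,
        MonoidHom.range_eq_top.2 (quotMap_surj u), ← _root_.commutator_def, hder]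
    obtain ⟨v, hv, e⟩ := hmap.ge (mem_top (quotMap u w))
    rcases (hker (v⁻¹ * w)).1 (by rw [map_mul, map_inv, e, inv_mul_cancel]) with h | h
    · rw [← inv_mul_eq_one.1 h]; exact hv
    · rw [inv_mul_eq_iff_eq_mul.1 h]; exact mul_mem hv hucomm
  have hcC : Subgroup.center C = quotKer u := by
    refine le_antisymm (fun w hw => ?_) fun w hw => ?_
    · refine (QuotientGroup.eq_one_iff w).1 ?_
      rw [← Subgroup.mem_bot, ← hcen, mem_center_iff]
      intro q
      obtain ⟨v, rfl⟩ := quotMap_surj u q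
      show quotMap u v * quotMap u w = quotMap u w * quotMap u v
      rw [← map_mul, ← map_mul, mem_center_iff.1 hw v]
    · rcases (hker w).1 ((QuotientGroup.eq_one_iff w).2 hw) with rfl | rfl
      · exact one_mem _
      · exact mem_center_iff.2 fun v => Subtype.ext (mem_centralizer_singleton_iff.1 v.2)
  have hq : Cfsg.IsQuasisimple C :=
    ⟨⟨hperf⟩, (QuotientGroup.quotientMulEquivOfEq hcC).isSimpleGroup⟩
  haveI : ((zpowers u).subgroupOf C).Normal := quotKer_normal u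
  refine Cfsg.Agent.S1714.result u (orderOf_eq_prime (by rw [pow_two, hP.sq]) hP.ne) hq h
    ⟨S.c, mem_centralizer_singleton_iff.2 ?_, ?_⟩
  · rw [show S.c * u * S.c⁻¹ = S.d 1 by simpa using S.rot_d 1]
    exact (S.d_central 1 _ hP.mem).symm
  · rw [show S.c * u * S.c⁻¹ = S.d 1 by simpa using S.rot_d 1]
    intro e
    exact absurd (S.e_inj (mul_left_cancel e)) (by decide)

/-- `Fi₂₃`, or `z` is isolated in `C(d 0)`. -/
theorem d_cases : Spor.IsoFi23 G ∨ S.IsoAt (S.d 0) := by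
  have hP := S.pivot_d
  obtain ⟨T, hTz, hT1⟩ := hP.exists_setup S
  have hswap : T.Swap := by
    obtain ⟨τ, hτz, hτ0, hτ1⟩ := S.e_swap 0
    have hτ : τ ∈ S.Stab 0 :=
      mem_inf.2 ⟨hτz, mem_centralizer_singleton_iff.2 (mul_inv_eq_iff_eq_mul.1 hτ0)⟩
    have hτC : τ ∈ centralizer ({S.d 0} : Set G) := by
      rw [← hP.stab] at hτ; exact (mem_inf.1 hτ).2
    refine ⟨quotMap _ ⟨τ, hτC⟩, ?_, ?_⟩
    · rw [hTz, hP.cent_quot S]
      exact mem_map_of_mem _ (mem_subgroupOf.2 hτ)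
    · rw [hT1, hTz, ← map_inv, ← map_mul, ← map_mul, ← map_mul]
      have huu := (quotMap_eq_one hP.sq ⟨S.d 0, mem_centralizer_singleton_iff.2 rfl⟩).2 (Or.inr rfl)
      conv_rhs => rw [← one_mul (quotMap _ (_ * _)), ← huu, ← map_mul]
      refine congrArg _ (Subtype.ext ?_)
      show τ * S.e 1 * τ⁻¹ = S.d 0 * (S.z * S.e 1)
      rw [show τ * S.e 1 * τ⁻¹ = S.e 2 from hτ1, show S.e 2 = S.e 0 * S.e 1 from (S.e_mul 0).symm, d,
        S.z_e_comm, ← mul_assoc (S.e 0 * S.z) S.z, mul_assoc (S.e 0) S.z, S.z_sq, mul_one]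
  by_cases h : T.Iso
  · exact Or.inr (hP.isoAt S (hTz ▸ T.isolated_of_iso h (h.flip_of_swap hswap)))
  · exact Or.inl (S.fi23_of_quot (T.fi22_of_swap hswap (T.iso_or_u6.resolve_left h)))

/-- Without `Fi₂₃`: `z` is isolated in `C(e 0)`, or `C(W)/W` is `U₆(2)`. -/
theorem e_cases (hD : S.IsoD) : S.IsoAt (S.e 0) ∨ S.U6 := by
  set u := S.e 0 with hu
  have hP : S.Pivot u := S.pivot_e
  obtain ⟨T, hTz, hT1⟩ := hP.exists_setup S
  set C := centralizer ({u} : Set G) with hC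
  obtain ⟨τ, hτz, hτ0, hτ1⟩ := S.e_swap 0
  have hτ1' : τ * S.e 1 * τ⁻¹ = S.e 2 := hτ1
  have hτC : τ ∈ C := mem_centralizer_singleton_iff.2 (mul_inv_eq_iff_eq_mul.1 hτ0)
  have he2 : S.e 2 = S.e 0 * S.e 1 := (S.e_mul 0).symm
  have hw : ∀ w : C, quotMap u w = quotMap u ⟨S.e 1, hP.e_cent S 1⟩ → (w : G) = S.e 1 ∨ (w : G) = S.e 2 :=
    fun w h => (quotMap_eq hP.sq h.symm).imp_right fun e => e.trans ((S.e_comm 1 0).trans he2.symm)
  have hns : ¬ T.Swap := by
    rintro ⟨q, hq, e⟩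
    rw [hTz, hP.cent_quot S] at hq
    obtain ⟨g, hg, rfl⟩ := hq
    rw [hT1, hTz, ← map_inv, ← map_mul, ← map_mul, ← map_mul] at e
    obtain ⟨j, hj⟩ := S.e_conj g (mem_inf.1 (mem_subgroupOf.1 hg)).1 1
    rcases quotMap_eq hP.sq e.symm with h | h <;> simp only [coe_mul, InvMemClass.coe_inv, hj] at h
    · exact S.d_ne_e 1 j h.symm
    · refine S.d_ne_e 2 j ?_
      rw [h, d, mul_assoc, he2]
      exact congrArg (S.z * ·) (S.e_comm 0 1)
  have hflip : T.flip.Iso := by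
    intro q hq hc
    obtain ⟨g, rfl⟩ := quotMap_surj u q
    change quotMap u g ∈ centralizer ({T.z * T.z1} : Set _) at hq
    change quotMap u g * T.z * (quotMap u g)⁻¹ = T.z
    change Commute (quotMap u g * T.z * (quotMap u g)⁻¹) T.z at hc
    rw [hTz, hT1, mem_centralizer_singleton_iff, ← map_mul] at hq
    rw [hTz, ← map_inv, ← map_mul, ← map_mul] at hc ⊢
    refine congrArg _ (Subtype.ext ?_)
    simp only [coe_mul, InvMemClass.coe_inv]
    set t := (g : G) * S.z * (g : G)⁻¹ with ht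
    have htu : t * u = u * t :=
      mem_centralizer_singleton_iff.1 (g * ⟨S.z, hP.z_cent⟩ * g⁻¹ : C).2
    have htz : t * S.z = S.z * t := by
      have h2 : quotMap u (⟨S.z, hP.z_cent⟩ * (g * ⟨S.z, hP.z_cent⟩ * g⁻¹)) =
          quotMap u (g * ⟨S.z, hP.z_cent⟩ * g⁻¹ * ⟨S.z, hP.z_cent⟩) := by
        rw [map_mul, map_mul (quotMap u) (g * ⟨S.z, hP.z_cent⟩ * g⁻¹)]; exact hc.eq.symm
      rcases quotMap_eq hP.sq h2 with e | e
      · exact e
      · exfalso
        change t * S.z = S.z * t * u at e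
        refine hP.not_conj (isConj_iff.2 ⟨t, ?_⟩)
        rw [e, mul_assoc S.z, htu, ← mul_assoc, mul_inv_cancel_right]
    have hd1 : (g : G) * S.d 1 * (g : G)⁻¹ = S.d 1 ∨ (g : G) * S.d 1 * (g : G)⁻¹ = S.d 2 := by
      have h1 : quotMap u (⟨S.z, hP.z_cent⟩ * ⟨S.e 1, hP.e_cent S 1⟩) =
          quotMap u (g * (⟨S.z, hP.z_cent⟩ * ⟨S.e 1, hP.e_cent S 1⟩) * g⁻¹) := by
        rw [map_mul (quotMap u) (g * _) g⁻¹, map_mul (quotMap u) g, hq, map_inv, mul_inv_cancel_right]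
      rcases quotMap_eq hP.sq h1 with e | e <;> simp only [coe_mul, InvMemClass.coe_inv] at e
      · exact Or.inl e
      · refine Or.inr (e.trans ?_)
        rw [d, mul_assoc, he2, S.e_comm 0 1]
    have hzτ : τ * S.z * τ⁻¹ = S.z := S.conj_z hτz
    rcases hd1 with e | e
    · exact hD 1 g (mem_centralizer_singleton_iff.2 (mul_inv_eq_iff_eq_mul.1 e)) htz
    · have hτ2 : τ * S.d 2 * τ⁻¹ = S.d 1 := by
        rw [d, show τ * (S.z * S.e 2) * τ⁻¹ = (τ * S.z * τ⁻¹) * (τ * S.e 2 * τ⁻¹) by group, hzτ, he2,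
          show τ * (S.e 0 * S.e 1) * τ⁻¹ = (τ * S.e 0 * τ⁻¹) * (τ * S.e 1 * τ⁻¹) by group, hτ0, hτ1', he2,
          ← mul_assoc (S.e 0), S.e_sq, one_mul]
        rfl
      have h1 := hD 1 (τ * g) (mem_centralizer_singleton_iff.2 (mul_inv_eq_iff_eq_mul.1 (by
        rw [show τ * (g : G) * S.d 1 * (τ * (g : G))⁻¹ = τ * ((g : G) * S.d 1 * (g : G)⁻¹) * τ⁻¹ by group, e,
          hτ2]))) (by
        show _ * _ = _ * _
        rw [show τ * (g : G) * S.z * (τ * (g : G))⁻¹ = τ * t * τ⁻¹ by rw [ht]; group]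
        calc τ * t * τ⁻¹ * S.z = τ * t * τ⁻¹ * (τ * S.z * τ⁻¹) := by rw [hzτ]
          _ = τ * (t * S.z) * τ⁻¹ := by group
          _ = τ * (S.z * t) * τ⁻¹ := by rw [htz]
          _ = τ * S.z * τ⁻¹ * (τ * t * τ⁻¹) := by group
          _ = S.z * (τ * t * τ⁻¹) := by rw [hzτ])
      rw [show τ * (g : G) * S.z * (τ * (g : G))⁻¹ = τ * t * τ⁻¹ by rw [ht]; group] at h1
      exact (MulAut.conj τ).injective (h1.trans hzτ.symm)
  by_cases h : T.Iso
  · exact Or.inl (hP.isoAt S (hTz ▸ T.isolated_of_iso h hflip))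
  refine Or.inr ?_
  obtain ⟨hnorm, G₀, hz1, hidx, hn, ⟨ι⟩⟩ :=
    T.u6_mixed hns h (T.iso_or_u6.resolve_left h) (T.mixed_fix hns h hflip)
  have hfix0 : ∀ g ∈ C, ∀ w ∈ S.W, g * w * g⁻¹ ∈ S.W := by
    intro g hg w hw'
    rcases S.mem_W.1 hw' with rfl | ⟨i, rfl⟩
    · rw [mul_one, mul_inv_cancel]; exact one_mem _
    have hconj : quotMap u (⟨g, hg⟩ * ⟨S.e 1, hP.e_cent S 1⟩ * ⟨g, hg⟩⁻¹) = quotMap u ⟨S.e 1, hP.e_cent S 1⟩ := by
      rw [map_mul, map_mul, map_inv, ← hT1]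
      rcases (mem_zpowers_invol T.z1_sq).1 (hnorm.conj_mem _ (mem_zpowers T.z1) (quotMap u ⟨g, hg⟩)) with e | e
      · exact absurd (conj_eq_one_iff.1 e) T.z1_ne
      · exact e
    have h1 : g * S.e 1 * g⁻¹ ∈ S.W := by
      rcases hw _ hconj with e | e <;> simp only [coe_mul, InvMemClass.coe_inv] at e <;>
        rw [e] <;> exact S.e_mem_W _
    have h0 : g * S.e 0 * g⁻¹ ∈ S.W := by
      rw [mem_centralizer_singleton_iff.1 hg, mul_inv_cancel_right]; exact S.e_mem_W 0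
    fin_cases i
    · exact h0
    · exact h1
    · show g * S.e 2 * g⁻¹ ∈ S.W
      rw [he2, show g * (S.e 0 * S.e 1) * g⁻¹ = (g * S.e 0 * g⁻¹) * (g * S.e 1 * g⁻¹) by group]
      exact mul_mem h0 h1
  refine ⟨fun i g hg w hw' => ?_, ?_⟩
  · have hc := S.c_pow_mem (i : ℕ)
    set a := S.c ^ (i : ℕ) with ha
    have hg' : a⁻¹ * g * a ∈ C := mem_centralizer_singleton_iff.2 (by
      have e := mem_centralizer_singleton_iff.1 hg
      rw [← S.rot_e i, ← ha] at e
      calc a⁻¹ * g * a * S.e 0 = a⁻¹ * (g * (a * S.e 0 * a⁻¹)) * a := by group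
        _ = S.e 0 * (a⁻¹ * g * a) := by rw [e]; group)
    have hw2 : a⁻¹ * w * a ∈ S.W := by simpa using S.W_conj (inv_mem hc) hw'
    have := S.W_conj hc (hfix0 _ hg' _ hw2)
    rwa [show a * (a⁻¹ * g * a * (a⁻¹ * w * a) * (a⁻¹ * g * a)⁻¹) * a⁻¹ = g * w * g⁻¹ by group] at this
  -- the preimage of `G₀`
  set P := G₀.comap (quotMap u) with hPdef
  have hPi : P.index = 2 := by rw [hPdef, index_comap_of_surjective _ (quotMap_surj u), hidx]
  let πP : P →* PSU 6 F 2 := (ι.toMonoidHom.comp (QuotientGroup.mk' ((zpowers T.z1).subgroupOf G₀))).comp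
    (((quotMap u).comp P.subtype).codRestrict G₀ fun p => p.2)
  have hπs : Function.Surjective πP := fun s => by
    obtain ⟨p, hp⟩ := QuotientGroup.mk'_surjective ((zpowers T.z1).subgroupOf G₀) (ι.symm s)
    obtain ⟨v, hv⟩ := quotMap_surj u (p : C ⧸ quotKer u)
    refine ⟨⟨v, show quotMap u v ∈ G₀ by rw [hv]; exact p.2⟩, ?_⟩
    show ι (QuotientGroup.mk' _ ⟨quotMap u v, _⟩) = s
    rw [show (⟨quotMap u v, by rw [hv]; exact p.2⟩ : G₀) = p from Subtype.ext hv, hp, MulEquiv.apply_symm_apply]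
  have hπk : ∀ p : P, πP p = 1 ↔ ((p : C) : G) ∈ S.W := by
    intro p
    show ι (QuotientGroup.mk' _ ⟨quotMap u (p : C), (show quotMap u (p : C) ∈ G₀ from p.2)⟩) = 1 ↔ _
    rw [EmbeddingLike.map_eq_one_iff, QuotientGroup.mk'_apply, QuotientGroup.eq_one_iff, mem_subgroupOf,
      mem_zpowers_invol T.z1_sq, quotMap_eq_one hP.sq, hT1, S.mem_W]
    change ((((p : C) : G) = 1 ∨ ((p : C) : G) = u) ∨ quotMap u (p : C) = quotMap u ⟨S.e 1, hP.e_cent S 1⟩) ↔ _
    constructor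
    · rintro ((e | e) | e)
      · exact Or.inl e
      · exact Or.inr ⟨0, e⟩
      · exact (hw _ e).elim (fun e => Or.inr ⟨1, e⟩) (fun e => Or.inr ⟨2, e⟩)
    · rintro (e | ⟨i, e⟩)
      · exact Or.inl (Or.inl e)
      fin_cases i
      · exact Or.inl (Or.inr e)
      · exact Or.inr (congrArg _ (Subtype.ext e))
      · refine Or.inr ?_
        rw [show (p : C) = ⟨u, mem_centralizer_singleton_iff.2 rfl⟩ * ⟨S.e 1, hP.e_cent S 1⟩ from
          Subtype.ext (e.trans he2), map_mul,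
          (quotMap_eq_one hP.sq ⟨u, mem_centralizer_singleton_iff.2 rfl⟩).2 (Or.inr rfl), one_mul]
  haveI : IsSimpleGroup (PSU 6 F 2) :=
    CfsgLib.Classical.isSimpleGroup_psu (show Fintype.card F = 2 ^ 2 from S.hF) (n := 6) (by norm_num) (by norm_num)
  have hWC : S.W ≤ C := fun w hw' => by
    rcases S.mem_W.1 hw' with rfl | ⟨i, rfl⟩
    exacts [one_mem _, hP.e_cent S i]
  have hsub : centralizer (S.W : Set G) ≤ C := fun g hg =>
    mem_centralizer_singleton_iff.2 (mem_centralizer_iff.1 hg u (S.e_mem_W 0)).symm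
  -- the elements of the preimage fix `e 1`
  let Q : Subgroup P := (centralizer ({S.e 1} : Set G)).comap (C.subtype.comp P.subtype)
  have hQn : ∀ p : P, ((p : C) : G) * S.e 1 * ((p : C) : G)⁻¹ = S.e 1 ∨
      ((p : C) : G) * S.e 1 * ((p : C) : G)⁻¹ = S.e 2 := fun p => by
    have h1 := hfix0 _ (p : C).2 _ (S.e_mem_W 1)
    rcases S.mem_W.1 h1 with e | ⟨i, e⟩
    · exact absurd (conj_eq_one_iff.1 e) (S.e_ne 1)
    fin_cases i
    · refine absurd ((MulAut.conj ((p : C) : G)).injective (e.trans ?_)) (fun e => absurd (S.e_inj e) (by decide : (1 : Fin 3) ≠ 0))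
      rw [MulAut.conj_apply, mem_centralizer_singleton_iff.1 (p : C).2, mul_inv_cancel_right]
      rfl
    · exact Or.inl e
    · exact Or.inr e
  have hQle : Q = ⊤ := by
    have hQi : Q.index ≤ 2 := by
      by_cases hall : ∀ p, p ∈ Q
      · rw [show Q = ⊤ from eq_top_iff.2 fun p _ => hall p, index_top]; norm_num
      push Not at hall
      obtain ⟨a, ha⟩ := hall
      refine le_of_eq (index_eq_two_iff.2 ⟨a, fun b => ?_⟩)
      have hmem : ∀ p : P, p ∈ Q ↔ ((p : C) : G) * S.e 1 * ((p : C) : G)⁻¹ = S.e 1 := fun p =>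
        mem_centralizer_singleton_iff.trans mul_inv_eq_iff_eq_mul.symm
      have hp2 : ∀ p : P, ((p : C) : G) * S.e 1 * ((p : C) : G)⁻¹ = S.e 2 →
          ((p : C) : G) * S.e 2 * ((p : C) : G)⁻¹ = S.e 1 := fun p e => by
        rw [he2, show ((p : C) : G) * (S.e 0 * S.e 1) * ((p : C) : G)⁻¹ =
          (((p : C) : G) * S.e 0 * ((p : C) : G)⁻¹) * (((p : C) : G) * S.e 1 * ((p : C) : G)⁻¹) by group, e,
          mem_centralizer_singleton_iff.1 (p : C).2, mul_inv_cancel_right, he2, ← mul_assoc (S.e 0), S.e_sq,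
          one_mul]
      have ha' := (hQn a).resolve_left fun e => ha ((hmem a).2 e)
      have e12 : S.e 1 ≠ S.e 2 := fun e => absurd (S.e_inj e) (by decide)
      have hab : ((b * a : P) : C) = (b : C) * a := rfl
      rcases hQn b with eb | eb
      · refine Or.inr ⟨(hmem b).2 eb, fun hba => ?_⟩
        have h2 := (hmem _).1 hba
        simp only [hab, coe_mul] at h2
        rw [show ((b : C) : G) * a * S.e 1 * (((b : C) : G) * ((a : C) : G))⁻¹ =
          ((b : C) : G) * (((a : C) : G) * S.e 1 * ((a : C) : G)⁻¹) * ((b : C) : G)⁻¹ by group, ha'] at h2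
        exact e12 ((MulAut.conj ((b : C) : G)).injective (eb.trans h2.symm))
      · refine Or.inl ⟨(hmem _).2 ?_, fun hb => e12 (((hmem b).1 hb).symm.trans eb)⟩
        simp only [hab, coe_mul]
        rw [show ((b : C) : G) * a * S.e 1 * (((b : C) : G) * ((a : C) : G))⁻¹ =
          ((b : C) : G) * (((a : C) : G) * S.e 1 * ((a : C) : G)⁻¹) * ((b : C) : G)⁻¹ by group, ha', hp2 b eb]
    have hkQ : πP.ker ≤ Q := fun p hp => by
      refine mem_centralizer_singleton_iff.2 ?_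
      exact (S.W_comm ((hπk p).1 hp) (S.e_mem 1)).symm
    have hQi' : (Q.map πP).index ≤ 2 := by rwa [index_map_eq Q hπs hkQ]
    have htop : Q.map πP = ⊤ := by
      by_contra hne
      have h2 : (Q.map πP).index = 2 := by
        have h0 : (Q.map πP).index ≠ 0 := index_ne_zero_of_finite
        have h1 : (Q.map πP).index ≠ 1 := fun e => hne (index_eq_one.1 e)
        omega
      have := Subgroup.normal_of_index_eq_two h2
      rcases this.eq_bot_or_eq_top with e | e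
      · rw [e, index_bot, Fi22Cent.card_psu_six S.hF] at h2; omega
      · exact hne e
    have := congrArg (Subgroup.comap πP) htop
    rwa [comap_map_eq, comap_top, sup_eq_left.2 hkQ] at this
  have hPle : P.map C.subtype ≤ centralizer (S.W : Set G) := by
    rintro _ ⟨p, hp, rfl⟩
    refine mem_centralizer_iff.2 fun w hw' => ?_
    have h1 : (p : G) * S.e 1 = S.e 1 * p :=
      mem_centralizer_singleton_iff.1 (show (⟨p, hp⟩ : P) ∈ Q by rw [hQle]; exact mem_top _)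
    have h0 : (p : G) * S.e 0 = S.e 0 * p := mem_centralizer_singleton_iff.1 p.2
    rcases S.mem_W.1 hw' with rfl | ⟨i, rfl⟩
    · show 1 * (p : G) = p * 1; rw [one_mul, mul_one]
    fin_cases i
    · exact h0.symm
    · exact h1.symm
    · show S.e 2 * (p : G) = p * S.e 2
      rw [he2, mul_assoc, ← h1, ← mul_assoc, ← h0, mul_assoc]
  have hcent : ∀ g (hg : g ∈ centralizer (S.W : Set G)), (⟨g, hsub hg⟩ : C) ∈ P := by
    intro g hg
    by_contra hgP
    have hτP : (⟨τ, hτC⟩ : C) ∉ P := fun hp => by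
      have := mem_centralizer_iff.1 (hPle (mem_map_of_mem _ hp)) _ (S.e_mem_W 1)
      change S.e 1 * τ = τ * S.e 1 at this
      rw [← this, mul_inv_cancel_right] at hτ1'
      exact absurd (S.e_inj hτ1') (by decide)
    have hm := (mul_mem_iff_of_index_two hPi (a := (⟨g, hsub hg⟩ : C)) (b := ⟨τ, hτC⟩)).2
      ⟨fun h => absurd h hgP, fun h => absurd h hτP⟩
    have h2 := mem_centralizer_iff.1 (hPle (mem_map_of_mem C.subtype hm)) _ (S.e_mem_W 1)
    change S.e 1 * (g * τ) = g * τ * S.e 1 at h2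
    rw [← mul_assoc, mem_centralizer_iff.1 hg _ (S.e_mem_W 1), mul_assoc, mul_assoc, mul_left_cancel_iff] at h2
    rw [← h2, mul_inv_cancel_right] at hτ1'
    exact absurd (S.e_inj hτ1') (by decide)
  let toP : centralizer (S.W : Set G) →* P :=
    MonoidHom.mk' (fun g => ⟨⟨g, hsub g.2⟩, hcent g g.2⟩) fun a b => rfl
  refine ⟨πP.comp toP, fun s => ?_, fun g => hπk (toP g)⟩
  obtain ⟨p, hp⟩ := hπs s
  exact ⟨⟨((p : C) : G), hPle (mem_map_of_mem C.subtype p.2)⟩, hp⟩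

/-- The quotients of `C(d i)` and `C(e i)`. -/
theorem cases : Spor.IsoFi23 G ∨ (S.IsoD ∧ (S.IsoE ∨ S.U6)) := by
  rcases S.d_cases with h | h
  · exact Or.inl h
  have hD : S.IsoD := fun i => S.rot_d i ▸ IsoAt.conj S (S.c_pow_mem _) h
  refine Or.inr ⟨hD, (S.e_cases hD).imp_left fun h i => S.rot_e i ▸ IsoAt.conj S (S.c_pow_mem _) h⟩

end Setup

end CfsgLib.Recog.Fi23Cent
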