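import Cfsg.Agent.Lib.Recog.Fi23Cent.Facts
import Cfsg.Agent.Lib.Recog.Fi22Cent.Basic

/-!
`C(u)/⟨u⟩` for `u = d 0` or `u = e 0` satisfies the hypotheses of the recognition of the Fischer group `Fi₂₂`.
-/

set_option autoImplicit false
set_option linter.unusedSectionVars false

namespace CfsgLib.Recog.Fi23Cent

open Subgroup Cfsg

variable {G : Type*} [Group G] [Finite G] {F : Type*} [Field F] [Fintype F]

/-- `zpowers u` inside `C(u)`. -/
def quotKer (u : G) : Subgroup (centralizer ({u} : Set G)) :=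
  (zpowers u).subgroupOf (centralizer ({u} : Set G))

instance quotKer_normal (u : G) : (quotKer u).Normal :=
  ⟨fun x hx g => mem_subgroupOf.2 (by
    obtain ⟨k, hk⟩ := mem_zpowers_iff.1 (mem_subgroupOf.1 hx)
    have hg : Commute (g : G) u := mem_centralizer_singleton_iff.1 g.2
    simp only [coe_mul, InvMemClass.coe_inv, ← hk, (hg.zpow_right k).eq, mul_inv_cancel_right]
    exact zpow_mem (mem_zpowers u) k)⟩

/-- The quotient map of `C(u)` by `⟨u⟩`. -/
noncomputable def quotMap (u : G) :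
    centralizer ({u} : Set G) →* centralizer ({u} : Set G) ⧸ quotKer u :=
  QuotientGroup.mk' (quotKer u)

theorem quotMap_surj (u : G) : Function.Surjective (quotMap u) := QuotientGroup.mk'_surjective _

theorem mem_zpowers_invol {u x : G} (hu : u * u = 1) : x ∈ zpowers u ↔ x = 1 ∨ x = u := by
  constructor
  · intro h
    obtain ⟨k, rfl⟩ := mem_zpowers_iff.1 h
    rcases Int.even_or_odd' k with ⟨j, rfl | rfl⟩
    · exact Or.inl (by rw [zpow_mul, zpow_two, hu, one_zpow])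
    · exact Or.inr (by rw [zpow_add, zpow_mul, zpow_two, hu, one_zpow, one_mul, zpow_one])
  · rintro (rfl | rfl)
    exacts [one_mem _, mem_zpowers _]

theorem quotMap_eq_one {u : G} (hu : u * u = 1) (x : centralizer ({u} : Set G)) :
    quotMap u x = 1 ↔ (x : G) = 1 ∨ (x : G) = u :=
  ((QuotientGroup.eq_one_iff (N := quotKer u) x).trans mem_subgroupOf).trans (mem_zpowers_invol hu)

theorem quotMap_eq {u : G} (hu : u * u = 1) {x y : centralizer ({u} : Set G)} (h : quotMap u x = quotMap u y) :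
    (y : G) = x ∨ (y : G) = x * u := by
  have h1 : quotMap u (x⁻¹ * y) = 1 := by rw [map_mul, map_inv, h, inv_mul_cancel]
  rcases (quotMap_eq_one hu _).1 h1 with e | e <;> simp only [coe_mul, InvMemClass.coe_inv] at e
  · exact Or.inl (inv_mul_eq_one.1 e).symm
  · exact Or.inr (inv_mul_eq_iff_eq_mul.1 e)

theorem card_quotMap_map {u : G} (hu : u * u = 1) (hu1 : u ≠ 1) (A : Subgroup G)
    (hA : A ≤ centralizer ({u} : Set G)) (huA : u ∈ A) :
    Nat.card A = 2 * Nat.card ((A.subgroupOf (centralizer ({u} : Set G))).map (quotMap u)) := by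
  let φ := (quotMap u).comp (inclusion hA)
  have hr : φ.range = (A.subgroupOf (centralizer ({u} : Set G))).map (quotMap u) := by
    rw [MonoidHom.range_comp, inclusion_range]
  have hk : φ.ker = (zpowers u).subgroupOf A := by
    ext x
    rw [MonoidHom.mem_ker, mem_subgroupOf, mem_zpowers_invol hu]
    exact quotMap_eq_one hu _
  have h := card_eq_card_quotient_mul_card_subgroup φ.ker
  rw [Nat.card_congr (QuotientGroup.quotientKerEquivRange φ).toEquiv, hr, hk,
    Nat.card_congr (subgroupOfEquivOfLe (zpowers_le.2 huA)).toEquiv, Nat.card_zpowers,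
    orderOf_eq_prime (p := 2) (by rw [pow_two, hu]) hu1] at h
  rw [h, mul_comm]

namespace Setup

variable (S : Setup G F)

/-- The facts shared by `d 0` and `e 0`. -/
structure Pivot (u : G) : Prop where
  sq : u * u = 1
  ne : u ≠ 1
  ne_z : u ≠ S.z
  mem : u ∈ S.J
  K_le : S.K ≤ centralizer ({u} : Set G)
  stab : centralizer ({S.z} : Set G) ⊓ centralizer ({u} : Set G) = S.Stab 0
  not_conj : ¬ IsConj S.z (S.z * u)
  ne_e : S.e 1 ≠ u ∧ S.e 1 ≠ S.z * u
  e0 : S.e 0 = u ∨ S.e 0 = S.z * u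

theorem pivot_e : S.Pivot (S.e 0) :=
  ⟨S.e_sq 0, S.e_ne 0, S.e_ne_z 0, S.e_mem 0, S.K_cent 0, rfl, S.not_conj_d 0,
    ⟨fun h => absurd (S.e_inj h) (by decide), fun h => S.d_ne_e 0 1 h.symm⟩, Or.inl rfl⟩

theorem pivot_d : S.Pivot (S.d 0) := by
  have hstab : centralizer ({S.z} : Set G) ⊓ centralizer ({S.d 0} : Set G) = S.Stab 0 := by
    ext g
    simp only [Stab, mem_inf]
    refine and_congr_right fun hz => ?_
    have hz' : g * S.z = S.z * g := mem_centralizer_singleton_iff.1 hz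
    rw [mem_centralizer_singleton_iff, mem_centralizer_singleton_iff, d, ← mul_assoc, hz', mul_assoc,
      mul_assoc, mul_right_inj]
  refine ⟨S.d_sq 0, S.d_ne 0, S.d_ne_z 0, S.d_mem 0, S.K_cent_d 0, hstab, ?_, ⟨fun h => S.d_ne_e 0 1 h.symm, ?_⟩,
    Or.inr (S.z_mul_d 0).symm⟩
  · rw [S.z_mul_d 0]; exact S.not_conj_e 0
  · rw [S.z_mul_d 0]; exact fun h => absurd (S.e_inj h) (by decide)

variable {u : G}

theorem Pivot.z_comm (hP : S.Pivot u) : u * S.z = S.z * u :=
  mem_centralizer_singleton_iff.1 (S.K_le (S.J_le hP.mem))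

theorem Pivot.z_cent (hP : S.Pivot u) : S.z ∈ centralizer ({u} : Set G) :=
  mem_centralizer_singleton_iff.2 hP.z_comm.symm

theorem Pivot.e_cent (hP : S.Pivot u) (i : Fin 3) : S.e i ∈ centralizer ({u} : Set G) :=
  mem_centralizer_singleton_iff.2 (S.e_central i u hP.mem).symm

/-- An element of `C(u)` centralizing `z` modulo `⟨u⟩` centralizes it. -/
theorem Pivot.comm_lift (hP : S.Pivot u) {g : G} (h : g * S.z * g⁻¹ = S.z ∨ g * S.z * g⁻¹ = S.z * u) :
    g * S.z * g⁻¹ = S.z :=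
  h.resolve_right fun e => hP.not_conj (isConj_iff.2 ⟨g, e⟩)

theorem Pivot.cent_quot (hP : S.Pivot u) :
    centralizer ({quotMap u ⟨S.z, hP.z_cent⟩} : Set (centralizer ({u} : Set G) ⧸ quotKer u)) =
      ((S.Stab 0).subgroupOf (centralizer ({u} : Set G))).map (quotMap u) := by
  ext q
  obtain ⟨x, rfl⟩ := quotMap_surj u q
  constructor
  · intro h
    refine mem_map_of_mem _ (mem_subgroupOf.2 ?_)
    have h1 : quotMap u ⟨S.z, hP.z_cent⟩ = quotMap u (x * ⟨S.z, hP.z_cent⟩ * x⁻¹) := by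
      rw [map_mul, map_mul, map_inv, mem_centralizer_singleton_iff.1 h, mul_inv_cancel_right]
    have h2 : (x : G) * S.z * (x : G)⁻¹ = S.z := hP.comm_lift S (quotMap_eq hP.sq h1)
    rw [← hP.stab]
    exact mem_inf.2 ⟨mem_centralizer_singleton_iff.2 (mul_inv_eq_iff_eq_mul.1 h2), x.2⟩
  · rintro ⟨y, hy, e⟩
    rw [← e, mem_centralizer_singleton_iff, ← map_mul, ← map_mul]
    exact congrArg _ (Subtype.ext (mem_centralizer_singleton_iff.1 (mem_inf.1 (mem_subgroupOf.1 hy)).1))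

/-- An element of the stabilizer centralizing `J` modulo `⟨u⟩` lies in `J`. -/
theorem Pivot.cent_mod (hP : S.Pivot u) {g : G} (hg : g ∈ S.Stab 0)
    (h : ∀ x ∈ S.J, g * x * g⁻¹ * x⁻¹ = 1 ∨ g * x * g⁻¹ * x⁻¹ = u) : g ∈ S.J := by
  have hfix : ∀ {a : G}, a ∈ S.Stab 0 → a * u * a⁻¹ = u := fun {a} ha => by
    rw [← hP.stab] at ha
    rw [mem_centralizer_singleton_iff.1 (mem_inf.1 ha).2, mul_inv_cancel_right]
  have hmem : ∀ {w : G}, (w = 1 ∨ w = u) ↔ w ∈ zpowers u := (mem_zpowers_invol hP.sq).symm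
  have hfix' : ∀ {a w : G}, a ∈ S.Stab 0 → w ∈ zpowers u → a * w * a⁻¹ = w := fun {a w} ha hw => by
    rcases hmem.2 hw with e | e <;> subst e
    · group
    · exact hfix ha
  let M : Subgroup G :=
    { carrier := {a | a ∈ S.Stab 0 ∧ ∀ x ∈ S.J, a * x * a⁻¹ * x⁻¹ ∈ zpowers u}
      one_mem' := ⟨one_mem _, fun x _ => by
        rw [show (1 : G) * x * 1⁻¹ * x⁻¹ = 1 by group]; exact one_mem _⟩
      mul_mem' := by
        rintro a b ⟨a1, ha⟩ ⟨b1, hb⟩
        refine ⟨mul_mem a1 b1, fun x hx => ?_⟩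
        rw [show a * b * x * (a * b)⁻¹ * x⁻¹ = a * (b * x * b⁻¹ * x⁻¹) * a⁻¹ * (a * x * a⁻¹ * x⁻¹) by group,
          hfix' a1 (hb x hx)]
        exact mul_mem (hb x hx) (ha x hx)
      inv_mem' := by
        rintro a ⟨a1, ha⟩
        refine ⟨inv_mem a1, fun x hx => ?_⟩
        rw [show a⁻¹ * x * a⁻¹⁻¹ * x⁻¹ = (a⁻¹ * (a * x * a⁻¹ * x⁻¹) * a⁻¹⁻¹)⁻¹ by group,
          hfix' (inv_mem a1) (ha x hx)]
        exact inv_mem (ha x hx) }
  have hMn : ∀ k ∈ S.K, ∀ a ∈ M, k * a * k⁻¹ ∈ M := by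
    rintro k hk a ⟨a1, ha⟩
    have hkS := S.K_le_stab 0 hk
    refine ⟨mul_mem (mul_mem hkS a1) (inv_mem hkS), fun x hx => ?_⟩
    have hx' : k⁻¹ * x * k ∈ S.J := by simpa using S.J_normal k⁻¹ (inv_mem (S.K_le hk)) x hx
    rw [show k * a * k⁻¹ * x * (k * a * k⁻¹)⁻¹ * x⁻¹ =
      k * (a * (k⁻¹ * x * k) * a⁻¹ * (k⁻¹ * x * k)⁻¹) * k⁻¹ by group, hfix' hkS (ha _ hx')]
    exact ha _ hx'
  have hsq : ∀ a ∈ M, a * a ∈ S.J := by
    rintro a ⟨a1, ha⟩
    refine S.self_cent (mem_inf.2 ⟨mul_mem (mem_inf.1 a1).1 (mem_inf.1 a1).1,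
      mem_centralizer_iff.2 fun x hx => ?_⟩)
    have e := ha x hx
    have e1 : a * x * a⁻¹ = (a * x * a⁻¹ * x⁻¹) * x := by group
    have e2 : (a * x * a⁻¹ * x⁻¹) * (a * x * a⁻¹ * x⁻¹) = 1 := by
      rcases hmem.2 e with h | h <;> rw [h]
      · rw [one_mul]
      · exact hP.sq
    have e3 : a * a * x * (a * a)⁻¹ = x := by
      rw [show a * a * x * (a * a)⁻¹ = a * (a * x * a⁻¹) * a⁻¹ by group]
      nth_rewrite 1 [e1]
      rw [show a * (a * x * a⁻¹ * x⁻¹ * x) * a⁻¹ =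
        (a * (a * x * a⁻¹ * x⁻¹) * a⁻¹) * (a * x * a⁻¹) by group, hfix' a1 e]
      nth_rewrite 2 [e1]
      rw [← mul_assoc, e2, one_mul]
    exact (mul_inv_eq_iff_eq_mul.1 e3).symm
  have hMJ : M ⊓ S.K ≤ S.J := by
    refine S.two_le_J _ inf_le_right (fun a => ?_) fun k hk a ha =>
      mem_inf.2 ⟨hMn k hk a (mem_inf.1 ha).1, mul_mem (mul_mem hk (mem_inf.1 ha).2) (inv_mem hk)⟩
    refine ⟨12, Subtype.ext ?_⟩
    have h1 : (⟨(a : G) * a, hsq a (mem_inf.1 a.2).1⟩ : S.J) ^ Nat.card S.J = 1 := pow_card_eq_one'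
    have h2 : ((a : G) ^ 2) ^ 2048 = 1 := by
      have h3 := congrArg Subtype.val h1
      simp only [coe_pow, OneMemClass.coe_one, S.card_J] at h3
      rw [pow_two]
      exact h3
    rw [← pow_mul] at h2
    rw [coe_pow, OneMemClass.coe_one]
    exact h2
  have hgM : g ∈ M := ⟨hg, fun x hx => hmem.1 (h x hx)⟩
  have hgz : g ∈ centralizer ({S.z} : Set G) := (mem_inf.1 hg).1
  obtain ⟨n, hn⟩ := S.outer_faithful g hgz fun k hk => by
    refine hMJ (mem_inf.2 ⟨?_, mul_mem (S.K_normal g hgz k hk) (inv_mem hk)⟩)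
    rw [show g * k * g⁻¹ * k⁻¹ = g * (k * g⁻¹ * k⁻¹) by group]
    exact mul_mem hgM (hMn k hk _ (inv_mem hgM))
  have hcn : S.c ^ n ∈ S.Stab 0 := by
    have := mul_mem (inv_mem hg) (S.K_le_stab 0 (S.J_le hn))
    rwa [inv_mul_cancel_left] at this
  have h0 : S.c ^ n * S.e 0 * (S.c ^ n)⁻¹ = S.e 0 := by
    rw [mem_centralizer_singleton_iff.1 (mem_inf.1 hcn).2, mul_inv_cancel_right]
  rwa [S.c_pow_one (S.c_pow_fix h0), mul_one] at hn

/-- The quotient setup, with `z` and `e 1` as the two involutions. -/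
theorem Pivot.exists_setup (hP : S.Pivot u) :
    ∃ T : Fi22Cent.Setup (centralizer ({u} : Set G) ⧸ quotKer u) F,
      T.z = quotMap u ⟨S.z, hP.z_cent⟩ ∧ T.z1 = quotMap u ⟨S.e 1, hP.e_cent S 1⟩ := by
  set C := centralizer ({u} : Set G) with hC
  set π := quotMap u with hπ
  set Z := π ⟨S.z, hP.z_cent⟩ with hZ
  set Z1 := π ⟨S.e 1, hP.e_cent S 1⟩ with hZ1
  have hJC : S.J ≤ C := S.J_le.trans hP.K_le
  have hstabC : S.Stab 0 ≤ C := hP.stab ▸ inf_le_right
  let J' := (S.J.subgroupOf C).map π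
  let K' := (S.K.subgroupOf C).map π
  have hone : ∀ x : C, π x = 1 ↔ (x : G) = 1 ∨ (x : G) = u := quotMap_eq_one hP.sq
  have heq : ∀ {x y : C}, π x = π y → (y : G) = x ∨ (y : G) = x * u := fun {x y} h => quotMap_eq hP.sq h
  have huu : π ⟨u, mem_centralizer_singleton_iff.2 rfl⟩ = 1 := (hone _).2 (Or.inr rfl)
  have hcl : ∀ {A : Subgroup G}, u ∈ A → ∀ {x : C}, π x ∈ (A.subgroupOf C).map π → (x : G) ∈ A := by
    rintro A hu x ⟨y, hy, e⟩
    rcases heq e with h | h <;> rw [h]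
    · exact mem_subgroupOf.1 hy
    · exact mul_mem (mem_subgroupOf.1 hy) hu
  have hcentq := hP.cent_quot S
  have conjn : ∀ (A : Subgroup G), (∀ g ∈ centralizer ({S.z} : Set G), ∀ a ∈ A, g * a * g⁻¹ ∈ A) →
      ∀ q ∈ centralizer ({Z} : Set (C ⧸ quotKer u)), ∀ p ∈ (A.subgroupOf C).map π,
        q * p * q⁻¹ ∈ (A.subgroupOf C).map π := by
    rintro A hA q hq p ⟨a, ha, rfl⟩
    obtain ⟨g, hg, rfl⟩ := (hcentq ▸ hq : q ∈ ((S.Stab 0).subgroupOf C).map π)
    exact ⟨g * a * g⁻¹, hA g (mem_inf.1 (mem_subgroupOf.1 hg)).1 a ha, by rw [map_mul, map_mul, map_inv]⟩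
  have hzJ : Z ∈ J' := mem_map_of_mem _ (mem_subgroupOf.2 S.z_mem)
  have hz1J : Z1 ∈ J' := mem_map_of_mem _ (mem_subgroupOf.2 (S.e_mem 1))
  have hKle : K' ≤ centralizer ({Z} : Set (C ⧸ quotKer u)) := by
    rw [hcentq]
    exact map_mono fun x hx => mem_subgroupOf.2 (S.K_le_stab 0 (mem_subgroupOf.1 hx))
  have hz10 : ∀ x : C, π x = Z1 ↔ (x : G) = S.e 1 ∨ (x : G) = S.e 1 * u := by
    refine fun x => ⟨fun h => heq h.symm, fun h => ?_⟩
    rcases h with h | h
    · exact congrArg π (Subtype.ext h)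
    · rw [show x = ⟨S.e 1, hP.e_cent S 1⟩ * ⟨u, mem_centralizer_singleton_iff.2 rfl⟩ from Subtype.ext h,
        map_mul, huu, mul_one]
  have he2 : S.e 2 = S.e 0 * S.e 1 := (S.e_mul 0).symm
  have hzu : ∀ {w : G}, w = S.e 0 → w = u ∨ w = S.z * u := fun h => h ▸ hP.e0
  have cases4 : ∀ x : C, ((x : G) ∈ ({1, S.z, S.e 0, S.z * S.e 0} : Set G) → π x = 1 ∨ π x = Z) ∧
      ((x : G) = S.e 1 ∨ (x : G) = S.e 2 → π x = Z1 ∨ π x = Z * Z1) := by
    intro x
    have hzz : ∀ y : C, (y : G) = S.z * u → π y = Z := fun y h => by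
      rw [show y = ⟨S.z, hP.z_cent⟩ * ⟨u, mem_centralizer_singleton_iff.2 rfl⟩ from Subtype.ext h, map_mul,
        huu, mul_one]
    refine ⟨fun h => ?_, fun h => ?_⟩
    · simp only [Set.mem_insert_iff, Set.mem_singleton_iff] at h
      rcases h with h | h | h | h
      · exact Or.inl ((hone x).2 (Or.inl h))
      · exact Or.inr (congrArg π (Subtype.ext h))
      · rcases hP.e0 with e | e
        · exact Or.inl ((hone x).2 (Or.inr (h.trans e)))
        · exact Or.inr (hzz x (h.trans e))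
      · rcases hP.e0 with e | e
        · exact Or.inr (hzz x (h.trans (by rw [e])))
        · exact Or.inl ((hone x).2 (Or.inr (h.trans (by rw [e, ← mul_assoc, S.z_sq, one_mul]))))
    · rcases h with h | h
      · exact Or.inl (congrArg π (Subtype.ext h))
      · rw [show x = ⟨S.e 0, hP.e_cent S 0⟩ * ⟨S.e 1, hP.e_cent S 1⟩ from Subtype.ext (h.trans he2), map_mul]
        rcases hP.e0 with e | e
        · exact Or.inl (by rw [(hone _).2 (Or.inr e), one_mul])
        · exact Or.inr (by rw [hzz ⟨S.e 0, _⟩ e])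
  let φ : S.K →* K' := (π.comp (inclusion hP.K_le)).codRestrict K' fun k =>
    mem_map_of_mem _ (mem_subgroupOf.2 k.2)
  have hφ : Function.Surjective φ := fun q => by
    obtain ⟨x, hx, e⟩ := q.2
    exact ⟨⟨x, hx⟩, Subtype.ext e⟩
  have hker : φ.ker ≤ S.psi.ker := fun k hk => MonoidHom.mem_ker.2 ((S.psi_ker k).2 (by
    rcases (hone _).1 (congrArg Subtype.val (MonoidHom.mem_ker.1 hk)) with e | e
    · exact (show (k : G) = 1 from e) ▸ one_mem _
    · exact (show (k : G) = u from e) ▸ hP.mem))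
  let ψ : K' →* SU 4 F 2 := φ.liftOfSurjective hφ ⟨S.psi, hker⟩
  have hψ : ∀ k, ψ (φ k) = S.psi k := fun k => φ.liftOfRightInverse_comp_apply _ _ ⟨S.psi, hker⟩ k
  exact ⟨{
    hF := S.hF, z := Z, z1 := Z1, J := J', K := K'
    z_sq := by
      rw [hZ, ← map_mul]
      exact (hone _).2 (Or.inl S.z_sq)
    z_ne := fun e => by
      rcases (hone _).1 e with h | h
      exacts [S.z_ne h, hP.ne_z h.symm]
    z1_sq := by
      rw [hZ1, ← map_mul]
      exact (hone _).2 (Or.inl (S.e_sq 1))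
    z1_ne := fun e => by
      rcases (hone _).1 e with h | h
      exacts [S.e_ne 1 h, hP.ne_e.1 h]
    z1_ne_z := fun e => by
      rcases heq e with h | h
      · exact S.e_ne_z 1 h.symm
      · refine hP.ne_e.2 ?_
        change S.z = S.e 1 * u at h
        rw [h, mul_assoc, hP.sq, mul_one]
    z_mem := hzJ, z1_mem := hz1J
    J_le := map_mono fun x hx => S.J_le hx
    K_le := hKle
    K_cent := by
      rintro q ⟨x, hx, rfl⟩
      rw [mem_centralizer_singleton_iff, hZ1, ← map_mul, ← map_mul]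
      exact congrArg π (Subtype.ext (mem_centralizer_singleton_iff.1 (S.K_cent 1 (mem_subgroupOf.1 hx))))
    J_normal := fun q hq => conjn S.J S.J_normal q hq
    K_normal := fun q hq => conjn S.K S.K_normal q hq
    card_J := by
      have h := card_quotMap_map hP.sq hP.ne S.J hJC hP.mem
      rw [S.card_J] at h
      change 2048 = 2 * Nat.card J' at h
      omega
    card_K := by
      have h := card_quotMap_map hP.sq hP.ne S.K hP.K_le (S.J_le hP.mem)
      rw [S.card_K] at h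
      change 53084160 = 2 * Nat.card K' at h
      omega
    card_H := by
      rw [hcentq]
      have h := card_quotMap_map hP.sq hP.ne (S.Stab 0) hstabC (S.K_le_stab 0 (S.J_le hP.mem))
      rw [S.card_stab] at h
      omega
    z1_central := by
      rintro q ⟨x, hx, rfl⟩
      rw [hZ1, ← map_mul, ← map_mul]
      exact congrArg π (Subtype.ext (S.e_central 1 _ (mem_subgroupOf.1 hx)))
    z1_conj := by
      intro q hq
      obtain ⟨g, hg, rfl⟩ := (hcentq ▸ hq : q ∈ ((S.Stab 0).subgroupOf C).map π)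
      obtain ⟨hgz, hg0⟩ := mem_inf.1 (mem_subgroupOf.1 hg)
      obtain ⟨j, hj⟩ := S.e_conj g hgz 1
      have hj0 : j ≠ 0 := fun e => by
        subst e
        exact absurd (S.e_inj ((MulAut.conj (g : G)).injective (hj.trans (by
          rw [MulAut.conj_apply, mem_centralizer_singleton_iff.1 hg0, mul_inv_cancel_right])))) (by decide)
      rw [hZ1, ← map_inv, ← map_mul, ← map_mul]
      refine (cases4 _).2 ?_
      simp only [coe_mul, InvMemClass.coe_inv, hj]
      fin_cases j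
      · exact absurd rfl hj0
      · exact Or.inl rfl
      · exact Or.inr rfl
    sq_or := by
      rintro q ⟨x, hx, rfl⟩
      rw [hZ, ← map_mul]
      rcases S.sq_or _ (mem_subgroupOf.1 hx) with h | h
      · exact Or.inl ((hone _).2 (Or.inl h))
      · exact Or.inr (congrArg π (Subtype.ext h))
    comm_or := by
      rintro q ⟨x, hx, rfl⟩ r ⟨y, hy, rfl⟩
      rw [hZ, ← map_mul, ← map_mul, ← map_mul]
      rcases S.comm_or _ (mem_subgroupOf.1 hx) _ (mem_subgroupOf.1 hy) with h | h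
      · exact Or.inl (congrArg π (Subtype.ext h))
      · exact Or.inr (congrArg π (Subtype.ext h))
    center := by
      rintro q ⟨x, hx, rfl⟩ hc
      have hxJ := mem_subgroupOf.1 hx
      have hxc : ∀ y ∈ S.J, (x : G) * y = y * x := fun y hy => by
        have h := hc _ (mem_map_of_mem π (mem_subgroupOf.2 (show ((⟨y, hJC hy⟩ : C) : G) ∈ S.J from hy)))
        rw [← map_mul, ← map_mul] at h
        rcases heq h with e | e
        · exact e.symm
        · rcases S.comm_or y hy x hxJ with e' | e'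
          · exact e'.symm
          · exfalso
            change y * (x : G) = x * y * u at e
            rw [e', mul_assoc (x : G) y S.z, mul_assoc (x : G) y u] at e
            exact hP.ne_z (mul_left_cancel (mul_left_cancel e)).symm
      rcases S.center _ hxJ hxc with h | h | ⟨i, h | h⟩
      · exact Or.inl ((hone x).2 (Or.inl h))
      · exact Or.inr (Or.inl (congrArg π (Subtype.ext h)))
      · fin_cases i
        · exact ((cases4 x).1 (by simp [h])).imp_right Or.inl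
        · exact Or.inr (Or.inr ((cases4 x).2 (Or.inl h)))
        · exact Or.inr (Or.inr ((cases4 x).2 (Or.inr h)))
      · have key : ∀ (j : Fin 3), (x : G) = S.z * S.e j → (j = 1 ∨ j = 2) →
            π x = Z1 ∨ π x = Z * Z1 := fun j hx' hj => by
          rw [show x = ⟨S.z, hP.z_cent⟩ * ⟨S.e j, hP.e_cent S j⟩ from Subtype.ext hx', map_mul]
          rcases (cases4 ⟨S.e j, hP.e_cent S j⟩).2 (by rcases hj with rfl | rfl <;> simp) with e | e
          · exact Or.inr (by rw [e])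
          · refine Or.inl ?_
            rw [e, ← mul_assoc, ← map_mul,
              (hone (⟨S.z, hP.z_cent⟩ * ⟨S.z, hP.z_cent⟩)).2 (Or.inl S.z_sq), one_mul]
        fin_cases i
        · exact ((cases4 x).1 (by simp [h])).imp_right Or.inl
        · exact Or.inr (Or.inr (key 1 h (Or.inl rfl)))
        · exact Or.inr (Or.inr (key 2 h (Or.inr rfl)))
    self_cent := by
      intro q hq
      obtain ⟨hq1, hq2⟩ := mem_inf.1 hq
      obtain ⟨g, hg, rfl⟩ := (hcentq ▸ hq1 : q ∈ ((S.Stab 0).subgroupOf C).map π)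
      refine mem_map_of_mem _ (mem_subgroupOf.2 (hP.cent_mod S (mem_subgroupOf.1 hg) fun j hj =>
        (hone (g * ⟨j, hJC hj⟩ * g⁻¹ * ⟨j, hJC hj⟩⁻¹)).1 ?_))
      rw [map_mul, map_mul, map_mul, map_inv, map_inv,
        ← mem_centralizer_iff.1 hq2 _ (mem_map_of_mem _ (mem_subgroupOf.2 (show ((⟨j, hJC hj⟩ : C) : G) ∈ S.J from hj))),
        mul_inv_cancel_right, mul_inv_cancel]
    psi := ψ
    psi_surj := fun s => by
      obtain ⟨k, rfl⟩ := S.psi_surj s
      exact ⟨φ k, hψ k⟩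
    psi_ker := fun q => by
      obtain ⟨k, rfl⟩ := hφ q
      rw [hψ, S.psi_ker]
      exact ⟨fun h => mem_map_of_mem _ (mem_subgroupOf.2 h), fun h => hcl hP.mem (x := inclusion hP.K_le k) h⟩
    outer_faithful := fun q hq h => by
      obtain ⟨g, hg, rfl⟩ := (hcentq ▸ hq : q ∈ ((S.Stab 0).subgroupOf C).map π)
      obtain ⟨hgz, hg0⟩ := mem_inf.1 (mem_subgroupOf.1 hg)
      obtain ⟨n, hn⟩ := S.outer_faithful g hgz fun k hk =>
        hcl hP.mem (x := g * ⟨k, hP.K_le hk⟩ * g⁻¹ * ⟨k, hP.K_le hk⟩⁻¹) (by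
          rw [map_mul, map_mul, map_mul, map_inv, map_inv]
          exact h _ (mem_map_of_mem _ (mem_subgroupOf.2 (show ((⟨k, hP.K_le hk⟩ : C) : G) ∈ S.K from hk))))
      have hcn : S.c ^ n ∈ centralizer ({S.e 0} : Set G) := by
        have := mul_mem (inv_mem hg0) (S.K_cent 0 (S.J_le hn))
        rwa [inv_mul_cancel_left] at this
      have h0 : S.c ^ n * S.e 0 * (S.c ^ n)⁻¹ = S.e 0 := by
        rw [mem_centralizer_singleton_iff.1 hcn, mul_inv_cancel_right]
      rw [S.c_pow_one (S.c_pow_fix h0), mul_one] at hn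
      exact mem_map_of_mem _ (mem_subgroupOf.2 hn) }, rfl, rfl⟩

end Setup

end CfsgLib.Recog.Fi23Cent
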