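import Cfsg.Agent.Lib.Recog.Fi23Cent.Facts
import Cfsg.Agent.Lib.StructC.BurnsideBasis
import Cfsg.Prelude.Def_TwoFusion
import Cfsg.Prelude.Def_Transfer

/-!
`Setup` from the hypotheses on `O₂(C(z))` and on the element `c` of order three.
-/

set_option autoImplicit false
set_option linter.unusedSectionVars false
set_option linter.style.haveILetI false

namespace CfsgLib.Recog.Fi23Cent

open Subgroup Cfsg
open scoped commutatorElement

variable {G : Type*} [Group G] [Finite G] {F : Type*} [Field F] [Fintype F]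

theorem fin_rot_id : ∀ σ : Fin 3 → Fin 3, (∀ l, σ (l + 1) = σ l + 1) → ∀ i, σ i = i → ∀ l, σ l = l := by decide

theorem fin_rot_all : ∀ σ : Fin 3 → Fin 3, (∀ l, σ (l + 1) = σ l + 1) → ∀ l, σ l = l + σ 0 := by decide

theorem fin_flip_swap : ∀ σ : Fin 3 → Fin 3, (∀ l, σ (l + 1) = σ l + 2) → ∀ i m, σ i + m = i →
    σ (i + 1) + m = i + 2 := by decide

theorem exists_setup (hF : Fintype.card F = 4) (z : G) (hz : orderOf z = 2)
    (H : Subgroup G) (hH : H = centralizer ({z} : Set G)) (Jc : Subgroup H) (hJn : Jc.Normal)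
    (V E : Subgroup H) (hVE : IsInternalDirectProduct V E Jc) (hV : Nat.card V = 4)
    (hV2 : ∀ v ∈ V, v ^ 2 = 1) (hE : IsExtraspecial 2 E) (hEc : Nat.card E = 2 ^ 9)
    (zc c : H) (hzc : (zc : G) = z) (hc : orderOf c = 3) (hCJ : centralizer (Jc : Set H) ≤ Jc)
    {A : Type*} [Group A] (π : H →* A) (hπ : Function.Surjective π) (hker : π.ker = Jc ⊔ zpowers c)
    (hA : Nat.card A = 51840) (I : Subgroup A) [I.Normal] (hI : I.index = 2)
    (hfaith : ∀ a, (∀ b ∈ I, a * b = b * a) → a = 1)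
    (ν : (centralizer ({c} : Set H)) →* SU 4 F 2) (hν : Function.Surjective ν)
    (hνker : ∀ x, ν x = 1 ↔ (x : H) ∈ zpowers c ⊔ zpowers zc) :
    ∃ S : Setup G F, S.z = z := by
  classical
  haveI : Fact (Nat.Prime 2) := ⟨Nat.prime_two⟩
  haveI : Fact (Nat.Prime 3) := ⟨Nat.prime_three⟩
  haveI := su_four_simple (F := F) hF
  haveI : Finite (SU 4 F 2) := Finite.of_surjective _ hν
  haveI : Finite A := Finite.of_surjective _ hπ
  obtain ⟨hVJ, hEJ, hcomm, hdisj, hsup⟩ := hVE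
  have hzz : zc * zc = 1 := by
    apply Subtype.ext
    show (zc : G) * zc = 1
    rw [hzc, ← pow_two, ← hz, pow_orderOf_eq_one]
  have hzc1 : zc ≠ 1 := fun e => by
    rw [← hzc, e, OneMemClass.coe_one, orderOf_one] at hz
    norm_num at hz
  have hzcen : ∀ x : H, x * zc = zc * x := fun x => Subtype.ext (by
    show (x : G) * zc = zc * x
    rw [hzc]
    exact mem_centralizer_singleton_iff.1 (hH ▸ x.2))
  haveI hzn : (zpowers zc).Normal := ⟨fun x hx g => by
    obtain ⟨k, rfl⟩ := mem_zpowers_iff.1 hx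
    rw [(Commute.zpow_right (hzcen g) k).eq, mul_inv_cancel_right]
    exact zpow_mem (mem_zpowers zc) k⟩
  have hc3 : c * c * c = 1 := by
    have h := pow_orderOf_eq_one c
    rwa [hc, pow_succ, pow_two] at h
  have hcne : c ≠ 1 := fun e => by rw [e, orderOf_one] at hc; norm_num at hc
  -- the product `J = V E`
  have hdec : ∀ x ∈ Jc, ∃ a ∈ V, ∃ e ∈ E, x = a * e := by
    intro x hx
    rw [← hsup, ← SetLike.mem_coe, coe_mul_of_left_le_normalizer_right V E ?_] at hx
    · obtain ⟨a, ha, e, he, rfl⟩ := hx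
      exact ⟨a, ha, e, he, rfl⟩
    · intro a ha
      refine mem_normalizer_iff.2 fun e => ⟨fun he => ?_, fun he => ?_⟩
      · rwa [hcomm a ha e he, mul_inv_cancel_right]
      · have h2 : a * e * a⁻¹ = e := by
          have := congrArg (fun t => a⁻¹ * t) (hcomm a ha _ he)
          simp only [mul_assoc, inv_mul_cancel_left, inv_mul_cancel, mul_one] at this
          simpa [mul_assoc] using this
        rwa [h2] at he
  have hVsq : ∀ v ∈ V, v * v = 1 := fun v hv => by rw [← pow_two]; exact hV2 v hv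
  have hVinv : ∀ v ∈ V, v⁻¹ = v := fun v hv => inv_eq_of_mul_eq_one_right (hVsq v hv)
  have hVcomm : ∀ a ∈ V, ∀ b ∈ V, a * b = b * a := fun a ha b hb => by
    have h := hVinv _ (mul_mem ha hb)
    rw [mul_inv_rev, hVinv a ha, hVinv b hb] at h
    exact h.symm
  have hcardJc : Nat.card Jc = 2048 := by
    have hbij : Function.Bijective (fun p : V × E => (⟨(p.1 : H) * p.2, mul_mem (hVJ p.1.2) (hEJ p.2.2)⟩ : Jc)) := by
      constructor
      · rintro ⟨a, e⟩ ⟨b, f⟩ h
        have h' : (a : H) * e = b * f := congrArg Subtype.val h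
        have hm : (b : H)⁻¹ * a ∈ V ⊓ E := mem_inf.2 ⟨mul_mem (inv_mem b.2) a.2, by
          rw [show (b : H)⁻¹ * a = (b : H)⁻¹ * ((a : H) * e) * (e : H)⁻¹ by group, h', inv_mul_cancel_left]
          exact mul_mem f.2 (inv_mem e.2)⟩
        rw [hdisj, mem_bot, inv_mul_eq_one] at hm
        have hab : a = b := Subtype.ext hm.symm
        subst hab
        exact Prod.ext rfl (Subtype.ext (mul_left_cancel h'))
      · rintro ⟨x, hx⟩
        obtain ⟨a, ha, e, he, rfl⟩ := hdec x hx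
        exact ⟨(⟨a, ha⟩, ⟨e, he⟩), rfl⟩
    rw [← Nat.card_congr (Equiv.ofBijective _ hbij), Nat.card_prod, hV, hEc]
    norm_num
  have hJp : IsPGroup 2 Jc := IsPGroup.of_card (n := 11) (by rw [hcardJc]; norm_num)
  have hzJ : zc ∈ Jc := hCJ (mem_centralizer_iff.2 fun y _ => hzcen y)
  have hcJ : ∀ n : ℤ, c ^ n ∈ Jc → c ^ n = 1 := fun n hn => by
    obtain ⟨k, hk⟩ := hJp ⟨_, hn⟩
    have h1 : orderOf (c ^ n) ∣ 2 ^ k := orderOf_dvd_of_pow_eq_one (congrArg Subtype.val hk)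
    have h2 : orderOf (c ^ n) ∣ 3 := orderOf_dvd_of_pow_eq_one (by
      rw [← zpow_natCast, ← zpow_mul, mul_comm, zpow_mul, zpow_natCast, ← hc, pow_orderOf_eq_one, one_zpow])
    exact orderOf_eq_one_iff.1
      (Nat.eq_one_of_dvd_coprimes (Nat.Coprime.pow_left k (by norm_num)) h1 h2)
  -- the centraliser of `c`
  let L : Subgroup H := centralizer ({c} : Set H)
  have hcL : c ∈ L := mem_centralizer_singleton_iff.2 rfl
  have hfix : ∀ x ∈ Jc, c * x * c⁻¹ = x → x = 1 ∨ x = zc := by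
    intro x hx hxc
    have hxL : x ∈ L := mem_centralizer_singleton_iff.2 (mul_inv_eq_iff_eq_mul.1 hxc).symm
    haveI : ((Jc.subgroupOf L).map ν).Normal := Subgroup.Normal.map inferInstance _ hν
    have hP : IsPGroup 2 ((Jc.subgroupOf L).map ν) :=
      (hJp.comap_of_injective L.subtype L.subtype_injective).map ν
    rcases Subgroup.Normal.eq_bot_or_eq_top (H := (Jc.subgroupOf L).map ν) inferInstance with h | h
    · have h1 : ν ⟨x, hxL⟩ ∈ (Jc.subgroupOf L).map ν := mem_map_of_mem ν (mem_subgroupOf.2 hx)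
      rw [h, mem_bot, hνker] at h1
      obtain ⟨a, ha, b, hb, hab⟩ := Subgroup.mem_sup_of_normal_right.1 h1
      obtain ⟨n, rfl⟩ := mem_zpowers_iff.1 ha
      have h2 : c ^ n ∈ Jc := by
        rw [show c ^ n = x * b⁻¹ from eq_mul_inv_of_mul_eq hab]
        exact mul_mem hx (inv_mem (zpowers_le.2 hzJ hb))
      rw [hcJ n h2, one_mul] at hab
      obtain ⟨m, rfl⟩ := mem_zpowers_iff.1 hb
      have ho : orderOf zc = 2 := orderOf_eq_prime (by rw [pow_two, hzz]) hzc1
      rw [← zpow_mod_orderOf, ho] at hab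
      rcases Int.emod_two_eq_zero_or_one m with e | e <;> norm_num [e] at hab
      exacts [Or.inl hab.symm, Or.inr hab.symm]
    · exfalso
      rw [h] at hP
      obtain ⟨n, hn⟩ := IsPGroup.iff_card.1 hP
      rw [card_top, U6Cent.card_su_four hF] at hn
      exact absurd (Nat.prime_three.dvd_of_dvd_pow (hn ▸ (by norm_num) : 3 ∣ 2 ^ n)) (by norm_num)
  -- the derived group of `J`
  obtain ⟨w, hwZ, hw1, hZE⟩ : ∃ w : E, w ∈ Subgroup.center E ∧ w ≠ 1 ∧
      ∀ u : E, u ∈ Subgroup.center E → u = 1 ∨ u = w := by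
    obtain ⟨u, v, huv, hall⟩ := Nat.card_eq_two_iff.1 hE.2
    have hm : ∀ x : Subgroup.center E, x = u ∨ x = v := fun x => by
      have := hall.symm.subset (Set.mem_univ x)
      simpa using this
    rcases hm 1 with h | h
    · refine ⟨v, v.2, fun e => huv (h.symm.trans (Subtype.ext e.symm)), fun x hx => ?_⟩
      rcases hm ⟨x, hx⟩ with e | e
      exacts [Or.inl (congrArg Subtype.val (e.trans h.symm)), Or.inr (congrArg Subtype.val e)]
    · refine ⟨u, u.2, fun e => huv (Eq.trans (Subtype.ext e) h), fun x hx => ?_⟩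
      rcases hm ⟨x, hx⟩ with e | e
      exacts [Or.inr (congrArg Subtype.val e), Or.inl (congrArg Subtype.val (e.trans h.symm))]
  have hpairs : ∀ x ∈ Jc, ∀ y ∈ Jc, ⁅x, y⁆ = 1 ∨ ⁅x, y⁆ = (w : H) := by
    intro x hx y hy
    obtain ⟨a, ha, e, he, rfl⟩ := hdec x hx
    obtain ⟨b, hb, f, hf, rfl⟩ := hdec y hy
    have e1 : a * e * (b * f) = a * b * (e * f) := by
      rw [mul_assoc, ← mul_assoc e b, ← hcomm b hb e he, mul_assoc b e, ← mul_assoc]
    have e2 : b * f * (a * e) = a * b * (f * e) := by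
      rw [mul_assoc, ← mul_assoc f a, ← hcomm a ha f hf, mul_assoc a f, ← mul_assoc, hVcomm b hb a ha]
    have hkey : ⁅a * e, b * f⁆ = ⁅e, f⁆ := by
      have hab : Commute (a * b) (e * f * (f * e)⁻¹) :=
        hcomm _ (mul_mem ha hb) _ (mul_mem (mul_mem he hf) (inv_mem (mul_mem hf he)))
      calc ⁅a * e, b * f⁆ = a * e * (b * f) * (b * f * (a * e))⁻¹ := by rw [commutatorElement_def]; group
        _ = a * b * (e * f * (f * e)⁻¹) * (a * b)⁻¹ := by rw [e1, e2]; group
        _ = e * f * (f * e)⁻¹ := by rw [hab.eq, mul_inv_cancel_right]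
        _ = ⁅e, f⁆ := by rw [commutatorElement_def]; group
    rw [hkey]
    have hm : ⁅(⟨e, he⟩ : E), (⟨f, hf⟩ : E)⁆ ∈ Subgroup.center E := by
      rw [← hE.1.2.2]; exact commutator_mem_commutator (mem_top _) (mem_top _)
    exact (hZE _ hm).imp (fun h => congrArg Subtype.val h) fun h => congrArg Subtype.val h
  obtain ⟨e₁, f₁, hef⟩ : ∃ e f : E, ⁅e, f⁆ ≠ 1 := by
    by_contra! hall
    have htop : Subgroup.center E = ⊤ := eq_top_iff.2 fun x _ => mem_center_iff.2 fun y =>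
      (commutatorElement_eq_one_iff_mul_comm.1 (hall x y)).symm
    have h := hE.2
    rw [htop, card_top, hEc] at h
    norm_num at h
  have hwz : (w : H) = zc := by
    have hwc : ⁅(e₁ : H), (f₁ : H)⁆ = w := (hpairs _ (hEJ e₁.2) _ (hEJ f₁.2)).resolve_left fun h => hef (Subtype.ext h)
    have h1 : c * (w : H) * c⁻¹ = w := by
      have hconj : c * (w : H) * c⁻¹ = ⁅c * e₁ * c⁻¹, c * f₁ * c⁻¹⁆ := by
        rw [← hwc, commutatorElement_def, commutatorElement_def]; group
      rcases hpairs _ (hJn.conj_mem _ (hEJ e₁.2) c) _ (hJn.conj_mem _ (hEJ f₁.2) c) with h | h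
      · exfalso
        rw [h, conj_eq_one_iff] at hconj
        exact hw1 (Subtype.ext hconj)
      · rw [hconj, h]
    exact (hfix _ (hEJ w.2) h1).resolve_left fun h => hw1 (Subtype.ext h)
  rw [hwz] at hpairs
  have hzE : zc ∈ E := hwz ▸ w.2
  have hZE' : ∀ e (he : e ∈ E), (⟨e, he⟩ : E) ∈ Subgroup.center E → e = 1 ∨ e = zc := fun e he h =>
    (hZE _ h).imp (fun h => congrArg Subtype.val h) fun h => (congrArg Subtype.val h).trans hwz
  have hsq : ∀ x ∈ Jc, x * x = 1 ∨ x * x = zc := by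
    intro x hx
    obtain ⟨a, ha, e, he, rfl⟩ := hdec x hx
    have h2 : a * e * (a * e) = e * e := by
      rw [mul_assoc, ← mul_assoc e a, ← hcomm a ha e he, mul_assoc a e, ← mul_assoc, hVsq a ha, one_mul]
    rw [h2]
    have h3 := CfsgLib.StructC.pow_mem_frattini hE.1.1 (⟨e, he⟩ : E)
    rw [hE.1.2.1] at h3
    simpa [pow_two] using hZE' _ _ (by simpa [pow_two] using h3 : (⟨e * e, mul_mem he he⟩ : E) ∈ Subgroup.center E)
  -- the centre of `J`
  let ZJ : H → Prop := fun x => x ∈ Jc ∧ ∀ y ∈ Jc, x * y = y * x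
  have hZmul : ∀ {x y}, ZJ x → ZJ y → ZJ (x * y) := fun {x y} hx hy =>
    ⟨mul_mem hx.1 hy.1, fun t ht => ((Commute.mul_left (hx.2 t ht) (hy.2 t ht))).eq⟩
  have hZconj : ∀ {x} (g : H), ZJ x → ZJ (g * x * g⁻¹) := fun {x} g hx =>
    ⟨hJn.conj_mem _ hx.1 g, fun t ht => by
      have h' : g⁻¹ * t * g ∈ Jc := by simpa using hJn.conj_mem t ht g⁻¹
      calc g * x * g⁻¹ * t = g * (x * (g⁻¹ * t * g)) * g⁻¹ := by group
        _ = t * (g * x * g⁻¹) := by rw [hx.2 _ h']; group⟩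
  have hzZ : ZJ zc := ⟨hzJ, fun y _ => (hzcen y).symm⟩
  have hZdec : ∀ x, ZJ x → ∃ a ∈ V, x = a ∨ x = a * zc := by
    rintro x ⟨hx, h⟩
    obtain ⟨a, ha, e, he, rfl⟩ := hdec x hx
    refine ⟨a, ha, ?_⟩
    have hec : (⟨e, he⟩ : E) ∈ Subgroup.center E := mem_center_iff.2 fun u => Subtype.ext (by
      have h1 := h u (hEJ u.2)
      rw [mul_assoc, ← mul_assoc (u : H), ← hcomm a ha u u.2, mul_assoc a] at h1
      exact (mul_left_cancel h1).symm)
    rcases hZE' e he hec with h1 | h1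
    · exact Or.inl (by rw [h1, mul_one])
    · exact Or.inr (by rw [h1])
  have hZsq : ∀ {x}, ZJ x → x * x = 1 := fun {x} hx => by
    obtain ⟨a, ha, h | h⟩ := hZdec x hx <;> rw [h]
    · exact hVsq a ha
    · rw [mul_assoc, ← mul_assoc zc, ← hzcen a, mul_assoc a zc, hzz, mul_one, hVsq a ha]
  obtain ⟨v, hv, hv1⟩ : ∃ v ∈ V, v ≠ 1 := by
    obtain ⟨⟨a, ha⟩, h⟩ := ne_bot_iff_exists_ne_one.1 (fun e : V = ⊥ => by rw [e, card_bot] at hV; norm_num at hV)
    exact ⟨a, ha, fun e => h (Subtype.ext e)⟩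
  have hvz : v ≠ zc := fun e => hv1 (by
    have : v ∈ V ⊓ E := mem_inf.2 ⟨hv, e ▸ hzE⟩
    rwa [hdisj, mem_bot] at this)
  have hvZ : ZJ v := ⟨hVJ hv, fun y hy => by
    obtain ⟨a, ha, e, he, rfl⟩ := hdec y hy
    exact (Commute.mul_right (hVcomm v hv a ha) (hcomm v hv e he)).eq⟩
  -- the norm along `c` has kernel the three `e i` and `1`
  let Nm : H → H := fun x => x * (c * x * c⁻¹) * (c * c * x * (c * c)⁻¹)
  have hNfix : ∀ {x}, ZJ x → Nm x = 1 ∨ Nm x = zc := fun {x} hx => by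
    have hA := hZmul (hZmul hx (hZconj c hx)) (hZconj (c * c) hx)
    refine hfix _ hA.1 ?_
    have e : c * Nm x * c⁻¹ = (c * x * c⁻¹) * (c * c * x * (c * c)⁻¹) * (c * c * c * x * (c * c * c)⁻¹) := by
      simp only [Nm]; group
    rw [e, hc3, one_mul, inv_one, mul_one]
    exact ((hx.2 _ (mul_mem (hZconj c hx).1 (hZconj (c * c) hx).1)).symm).trans (by simp only [Nm]; group)
  have hNz : ∀ {x}, ZJ x → Nm (zc * x) = zc * Nm x := fun {x} hx => by
    have k : ∀ g : H, g * (zc * x) * g⁻¹ = zc * (g * x * g⁻¹) := fun g => by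
      rw [← mul_assoc g, hzcen g]; group
    simp only [Nm, k]
    set a := c * x * c⁻¹
    set b := c * c * x * (c * c)⁻¹
    calc zc * x * (zc * a) * (zc * b) = zc * (x * zc) * a * zc * b := by group
      _ = zc * zc * x * (a * zc) * b := by rw [hzcen x]; group
      _ = zc * zc * x * zc * a * b := by rw [hzcen a]; group
      _ = zc * (x * a * b) := by rw [hzz, one_mul, hzcen x]; group
  obtain ⟨u, huZ, hu1, huz, huN⟩ : ∃ u, ZJ u ∧ u ≠ 1 ∧ u ≠ zc ∧ Nm u = 1 := by
    rcases hNfix hvZ with h | h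
    · exact ⟨v, hvZ, hv1, hvz, h⟩
    · refine ⟨zc * v, hZmul hzZ hvZ, fun e => hvz ?_, fun e => hv1 (mul_eq_left.1 e), by rw [hNz hvZ, h, hzz]⟩
      calc v = zc * (zc * v) := by rw [← mul_assoc, hzz, one_mul]
        _ = zc := by rw [e, mul_one]
  have hcu : c * u * c⁻¹ ≠ u := fun e => (hfix u huZ.1 e).elim hu1 huz
  set el : Fin 3 → H := ![u, c * u * c⁻¹, c * c * u * (c * c)⁻¹] with hel
  have hrot : ∀ i, c * el i * c⁻¹ = el (i + 1) := fun i => by
    fin_cases i <;> simp only [hel]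
    · rfl
    · show c * (c * u * c⁻¹) * c⁻¹ = c * c * u * (c * c)⁻¹; group
    · show c * (c * c * u * (c * c)⁻¹) * c⁻¹ = u
      rw [show c * (c * c * u * (c * c)⁻¹) * c⁻¹ = c * c * c * u * (c * c * c)⁻¹ by group, hc3]; group
  have helZ : ∀ i, ZJ (el i) := fun i => by
    fin_cases i
    exacts [huZ, hZconj c huZ, hZconj (c * c) huZ]
  have hel1 : ∀ i, el i ≠ 1 := fun i => by
    fin_cases i
    exacts [hu1, fun e => hu1 (conj_eq_one_iff.1 e), fun e => hu1 (conj_eq_one_iff.1 e)]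
  have hzconj : ∀ g : H, ∀ x : H, g * x * g⁻¹ = zc → x = zc := fun g x e => by
    rw [mul_inv_eq_iff_eq_mul, ← hzcen g] at e
    exact mul_left_cancel e
  have helz : ∀ i, el i ≠ zc := fun i => by
    fin_cases i
    exacts [huz, fun e => huz (hzconj c u e), fun e => huz (hzconj (c * c) u e)]
  have hcinj : ∀ g : H, Function.Injective fun x : H => g * x * g⁻¹ := fun g x y e =>
    mul_left_cancel (mul_right_cancel e)
  have hne : ∀ i, el (i + 1) ≠ el i := fun i e => by
    rw [← hrot] at e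
    exact (hfix _ (helZ i).1 e).elim (hel1 i) (helz i)
  have helinj : Function.Injective el := fun i j e => by
    by_contra h
    rcases fin_cover i j with rfl | rfl | rfl
    · exact h rfl
    · exact hne i e.symm
    · have h2 := hne (i + 2)
      rw [fin_step] at h2
      exact h2 e
  have helmul : ∀ i, el i * el (i + 1) = el (i + 2) := by
    have h0 : el 0 * el 1 * el 2 = 1 := huN
    have hc1 : ∀ i, el i * el (i + 1) * el (i + 2) = 1 → el (i + 1) * el (i + 2) * el (i + 2 + 1) = 1 := fun i h => by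
      rw [fin_step, ← (helZ i).2 _ (mul_mem (helZ _).1 (helZ _).1), ← mul_assoc, h]
    have h1 : el 1 * el 2 * el 0 = 1 := hc1 0 h0
    have h2 : el 2 * el 0 * el 1 = 1 := hc1 1 h1
    intro i
    fin_cases i
    · exact (eq_inv_of_mul_eq_one_left h0).trans (inv_eq_of_mul_eq_one_right (hZsq (helZ 2)))
    · exact (eq_inv_of_mul_eq_one_left h1).trans (inv_eq_of_mul_eq_one_right (hZsq (helZ 0)))
    · exact (eq_inv_of_mul_eq_one_left h2).trans (inv_eq_of_mul_eq_one_right (hZsq (helZ 1)))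
  have hcenter : ∀ x ∈ Jc, (∀ y ∈ Jc, x * y = y * x) → x = 1 ∨ x = zc ∨ ∃ i, x = el i ∨ x = zc * el i := by
    intro x hx hxc
    let fm : Option (Fin 3) × Bool → H := fun p =>
      (if p.2 then zc else 1) * (p.1.elim 1 el)
    let V4 := {y : H | ∃ a ∈ V, y = a ∨ y = a * zc}
    have hle : ∀ p, fm p ∈ V4 := fun p => by
      refine hZdec _ ?_
      rcases p with ⟨_ | i, _ | _⟩ <;> simp [fm]
      exacts [⟨one_mem _, fun y _ => by simp⟩, hzZ, helZ i, hZmul hzZ (helZ i)]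
    have hinj : Function.Injective fm := by
      have hne2 : ∀ i j, el i ≠ zc * el j := fun i j e => by
        have e' : el i * el j = zc := by rw [e, mul_assoc, hZsq (helZ j), mul_one]
        rcases fin_cover i j with rfl | rfl | rfl
        · exact hzc1 ((hZsq (helZ j)).symm.trans e').symm
        · exact helz _ ((helmul i).symm.trans e')
        · have h := helmul (i + 2)
          rw [fin_step, fin_step', (helZ _).2 _ (helZ i).1] at h
          exact helz _ (h.symm.trans e')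
      have h1 : ∀ i, (1 : H) ≠ zc * el i := fun i e => helz i (by
        calc el i = zc * (zc * el i) := by rw [← mul_assoc, hzz, one_mul]
          _ = zc := by rw [← e, mul_one])
      have h2 : ∀ i, zc ≠ zc * el i := fun i e => hel1 i (mul_eq_left.1 e.symm)
      rintro ⟨_ | i, _ | _⟩ ⟨_ | j, _ | _⟩ e <;> simp [fm] at e ⊢
      all_goals first
        | exact helinj e
        | exact helinj (mul_left_cancel e)
        | exact hzc1 e
        | exact hzc1 e.symm
        | exact hel1 _ e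
        | exact hel1 _ e.symm
        | exact helz _ e
        | exact helz _ e.symm
        | exact h1 _ e
        | exact h1 _ e.symm
        | exact h2 _ e
        | exact h2 _ e.symm
        | exact hne2 _ _ e
        | exact hne2 _ _ e.symm
    have hcardV : V4.ncard ≤ 8 := by
      have hs : V4 ⊆ (V : Set H) ∪ (fun a => a * zc) '' (V : Set H) := fun y ⟨a, ha, h⟩ =>
        h.elim (fun e => Or.inl (e ▸ ha)) fun e => Or.inr ⟨a, ha, e.symm⟩
      refine (Set.ncard_le_ncard hs (Set.toFinite _)).trans ((Set.ncard_union_le _ _).trans ?_)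
      have h1 : (V : Set H).ncard = 4 := by rw [← Nat.card_coe_set_eq]; exact hV
      have h2 := Set.ncard_image_le (f := fun a : H => a * zc) (Set.toFinite (V : Set H))
      omega
    have heq : Set.range fm = V4 := Set.eq_of_subset_of_ncard_le (Set.range_subset_iff.2 hle) (by
      rw [Set.ncard_range_of_injective hinj, Nat.card_eq_fintype_card]; simpa using hcardV) (Set.toFinite _)
    obtain ⟨⟨o, b⟩, hp⟩ := heq.symm.subset (hZdec x ⟨hx, hxc⟩ : x ∈ V4)
    rcases o with _ | i <;> rcases b <;> simp [fm] at hp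
    exacts [Or.inl hp.symm, Or.inr (Or.inl hp.symm), Or.inr (Or.inr ⟨i, Or.inl hp.symm⟩),
      Or.inr (Or.inr ⟨i, Or.inr hp.symm⟩)]
  -- elements of `H` act on the three `e i`
  have hmemk : ∀ {x : H}, π x = 1 → ∃ j ∈ Jc, ∃ n : ℕ, x = j * c ^ n := fun {x} hx => by
    have h : x ∈ Jc ⊔ zpowers c := hker ▸ MonoidHom.mem_ker.2 hx
    obtain ⟨j, hj, k, hk, rfl⟩ := Subgroup.mem_sup_of_normal_left.1 h
    obtain ⟨n, rfl⟩ := mem_powers_iff_mem_zpowers.2 hk
    exact ⟨j, hj, n, rfl⟩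
  have hpowc : ∀ n : ℕ, c ^ n = c ^ (n % 3) := fun n => by rw [← hc, pow_mod_orderOf]
  have hπJ : ∀ x ∈ Jc, π x = 1 := fun x hx => MonoidHom.mem_ker.1 (hker ▸ mem_sup_left hx)
  have hπc : π c = 1 := MonoidHom.mem_ker.1 (hker.symm ▸ (le_sup_right : zpowers c ≤ _) (mem_zpowers c))
  have hpush : ∀ g : H, ∃ j ∈ Jc, g * c * g⁻¹ = j * c ∨ g * c * g⁻¹ = j * (c * c) := by
    intro g
    obtain ⟨j, hj, n, hn⟩ := hmemk (x := g * c * g⁻¹) (by rw [map_mul, map_mul, hπc, mul_one, map_inv, mul_inv_cancel])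
    refine ⟨j, hj, ?_⟩
    rw [hpowc] at hn
    rcases (show n % 3 = 0 ∨ n % 3 = 1 ∨ n % 3 = 2 by omega) with h | h | h <;> rw [h] at hn
    · exfalso
      rw [pow_zero, mul_one] at hn
      have h1 : g⁻¹ * j * g ∈ Jc := by simpa using hJn.conj_mem j hj g⁻¹
      have h2 : g⁻¹ * j * g = c := by rw [← hn]; group
      have := hcJ 1 (by rw [zpow_one]; exact h2 ▸ h1)
      rw [zpow_one] at this
      exact hcne this
    · exact Or.inl (by rw [hn, pow_one])
    · exact Or.inr (by rw [hn, pow_two])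
  have hJe : ∀ {j} (_ : j ∈ Jc) (i), j * el i * j⁻¹ = el i := fun {j} hj i => by
    rw [← (helZ i).2 j hj, mul_inv_cancel_right]
  have hperm : ∀ g : H, ∃ σ : Fin 3 → Fin 3, ∀ i, g * el i * g⁻¹ = el (σ i) := by
    intro g
    have : ∀ i, ∃ k, g * el i * g⁻¹ = el k := by
      intro i
      set x := g * el i * g⁻¹ with hx
      have hxZ : ZJ x := hZconj g (helZ i)
      have hN1 : Nm x = 1 := by
        obtain ⟨j, hj, hjc⟩ := hpush g⁻¹
        rw [inv_inv] at hjc
        have hx2 : Nm x = g * (el i * (g⁻¹ * c * g * el i * (g⁻¹ * c * g)⁻¹) *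
            (g⁻¹ * c * g * (g⁻¹ * c * g * el i * (g⁻¹ * c * g)⁻¹) * (g⁻¹ * c * g)⁻¹)) * g⁻¹ := by
          simp only [Nm, hx]; group
        rcases hjc with e | e <;> rw [hx2, e]
        · have k : ∀ l, j * c * el l * (j * c)⁻¹ = el (l + 1) := fun l => by
            rw [show j * c * el l * (j * c)⁻¹ = j * (c * el l * c⁻¹) * j⁻¹ by group, hrot, hJe hj]
          rw [k, k, helmul, show i + 1 + 1 = i + 2 by rw [add_assoc]; rfl, hZsq (helZ _)]; group
        · have k : ∀ l, j * (c * c) * el l * (j * (c * c))⁻¹ = el (l + 2) := fun l => by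
            rw [show j * (c * c) * el l * (j * (c * c))⁻¹ = j * (c * (c * el l * c⁻¹) * c⁻¹) * j⁻¹ by group,
              hrot, hrot, hJe hj, add_assoc]; rfl
          have h2 := helmul (i + 2)
          rw [fin_step, fin_step', (helZ _).2 _ (helZ i).1] at h2
          rw [k, k, h2, fin_step', hZsq (helZ _)]; group
      rcases hcenter x hxZ.1 hxZ.2 with e | e | ⟨k, e | e⟩
      · exact absurd (conj_eq_one_iff.1 (hx ▸ e)) (hel1 i)
      · exact absurd (hzconj g _ (hx ▸ e)) (helz i)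
      · exact ⟨k, e⟩
      · exfalso
        rw [e, hNz (helZ k)] at hN1
        have hk : Nm (el k) = 1 := by
          simp only [Nm]
          rw [show c * c * el k * (c * c)⁻¹ = c * (c * el k * c⁻¹) * c⁻¹ by group, hrot, hrot, helmul,
            show k + 1 + 1 = k + 2 by rw [add_assoc]; rfl, hZsq (helZ _)]
        rw [hk, mul_one] at hN1
        exact hzc1 hN1
    choose σ hσ using this
    exact ⟨σ, hσ⟩
  -- the inner part
  let K0 : Subgroup H :=
    { carrier := {g | ∀ i, g * el i * g⁻¹ = el i}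
      one_mem' := fun i => by simp
      mul_mem' := fun {a b} ha hb i => by
        rw [show a * b * el i * (a * b)⁻¹ = a * (b * el i * b⁻¹) * a⁻¹ by group, hb, ha]
      inv_mem' := fun {a} ha i => by
        conv_lhs => rw [← ha i]
        group }
  have hK0 : ∀ g, g ∈ K0 ↔ ∀ i, g * el i * g⁻¹ = el i := fun g => Iff.rfl
  have hJK0 : Jc ≤ K0 := fun j hj => hJe hj
  haveI hK0n : K0.Normal := ⟨fun k hk g i => by
    obtain ⟨σ, hσ⟩ := hperm g⁻¹
    rw [show g * k * g⁻¹ * el i * (g * k * g⁻¹)⁻¹ = g * (k * (g⁻¹ * el i * g⁻¹⁻¹) * k⁻¹) * g⁻¹ by group, hσ,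
      (hK0 k).1 hk, ← hσ]
    group⟩
  -- elements commuting with `c` modulo `J` come from `L`
  set M : Subgroup H := Jc ⊔ zpowers c with hM
  have hcM : Nat.card M = 6144 := by
    have hbij : Function.Bijective (fun p : Jc × Fin 3 => (⟨(p.1 : H) * c ^ (p.2 : ℕ), mul_mem
        ((le_sup_left : Jc ≤ M) p.1.2) (pow_mem ((le_sup_right : zpowers c ≤ M) (mem_zpowers c)) _)⟩ : M)) := by
      constructor
      · rintro ⟨a, m⟩ ⟨b, n⟩ h
        have h' : (a : H) * c ^ (m : ℕ) = b * c ^ (n : ℕ) := congrArg Subtype.val h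
        have h1 : c ^ ((m : ℤ) - n) = 1 := hcJ _ (by
          rw [zpow_sub, zpow_natCast, zpow_natCast,
            show c ^ (m : ℕ) * (c ^ (n : ℕ))⁻¹ = (a : H)⁻¹ * ((a : H) * c ^ (m : ℕ)) * (c ^ (n : ℕ))⁻¹ by group, h']
          simpa [mul_assoc] using mul_mem (inv_mem a.2) b.2)
        have h2 : (3 : ℤ) ∣ (m : ℤ) - n := by
          have := orderOf_dvd_iff_zpow_eq_one.2 h1; rwa [hc] at this
        have hmn : m = n := Fin.ext (by have := m.2; have := n.2; omega)
        subst hmn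
        exact Prod.ext (Subtype.ext (mul_right_cancel h')) rfl
      · rintro ⟨x, hx⟩
        obtain ⟨j, hj, k, hk, rfl⟩ := Subgroup.mem_sup_of_normal_left.1 hx
        obtain ⟨n, rfl⟩ := mem_powers_iff_mem_zpowers.2 hk
        exact ⟨(⟨j, hj⟩, ⟨n % 3, Nat.mod_lt _ (by norm_num)⟩), Subtype.ext (by show j * c ^ (n % 3) = _; rw [← hpowc])⟩
    rw [← Nat.card_congr (Equiv.ofBijective _ hbij), Nat.card_prod, hcardJc, Nat.card_fin]
  have hfrat : ∀ g : H, (∃ j ∈ Jc, g * c * g⁻¹ = j * c) → ∃ j ∈ Jc, j * g ∈ L := by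
    rintro g ⟨j, hj, hjc⟩
    have hgM : g * c * g⁻¹ ∈ M := hjc ▸ mul_mem ((le_sup_left : Jc ≤ M) hj) ((le_sup_right : zpowers c ≤ M) (mem_zpowers c))
    have hcm : c ∈ M := (le_sup_right : zpowers c ≤ M) (mem_zpowers c)
    have hf3 : (Nat.card M).factorization 3 = 1 := by
      rw [hcM, show (6144 : ℕ) = 2 ^ 11 * 3 by norm_num, Nat.factorization_mul (by norm_num) (by norm_num),
        Finsupp.add_apply, Nat.Prime.factorization_pow Nat.prime_two,
        Finsupp.single_eq_of_ne (by norm_num), zero_add, Nat.Prime.factorization_self Nat.prime_three]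
    have mk : ∀ x : M, orderOf (x : H) = 3 → ∃ P : Sylow 3 M, (P : Subgroup M) = zpowers x := fun x hx =>
      ⟨Sylow.ofCard (zpowers x) (by rw [Nat.card_zpowers, ← orderOf_coe, hx, hf3, pow_one]), rfl⟩
    have ho' : orderOf (g * c * g⁻¹) = 3 := by
      rw [show g * c * g⁻¹ = MulAut.conj g c from rfl, MulEquiv.orderOf_eq, hc]
    obtain ⟨P, hP⟩ := mk ⟨_, hgM⟩ ho'
    obtain ⟨Q, hQ⟩ := mk ⟨c, hcm⟩ hc
    obtain ⟨m, hm⟩ := MulAction.exists_smul_eq M P Q
    have hmem : m * ⟨_, hgM⟩ * m⁻¹ ∈ (Q : Subgroup M) := by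
      rw [← hm]; exact ⟨⟨_, hgM⟩, hP.symm ▸ mem_zpowers _, rfl⟩
    rw [hQ] at hmem
    obtain ⟨k, hk⟩ := mem_zpowers_iff.1 hmem
    have hk' : c ^ k = (m : H) * (g * c * g⁻¹) * (m : H)⁻¹ := by
      have := congrArg Subtype.val hk
      simpa using this
    obtain ⟨j', hj', n, hn⟩ := hmemk (x := (m : H)) (MonoidHom.mem_ker.1 (hker.symm ▸ m.2))
    rw [hn, hjc] at hk'
    set d := c ^ n with hd
    have hdc : d * c * d⁻¹ = c := by rw [hd, ← (Commute.self_pow c n).eq, mul_inv_cancel_right]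
    have hJd : d * j * d⁻¹ ∈ Jc := hJn.conj_mem j hj d
    have e1 : j' * d * (j * c) * (j' * d)⁻¹ = j' * (d * j * d⁻¹) * (c * j'⁻¹ * c⁻¹) * (d * c * d⁻¹) := by
      rw [hdc]
      calc j' * d * (j * c) * (j' * d)⁻¹ = j' * (d * j * d⁻¹) * (d * c * d⁻¹) * j'⁻¹ := by group
        _ = j' * (d * j * d⁻¹) * (c * j'⁻¹ * c⁻¹) * c := by rw [hdc]; group
    have hkc : c ^ (k - 1) ∈ Jc := by
      rw [zpow_sub_one, hk', e1, hdc, mul_inv_cancel_right]
      exact mul_mem (mul_mem hj' hJd) (hJn.conj_mem _ (inv_mem hj') c)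
    have hk1 : c ^ k = c := by
      have := hcJ _ hkc
      rwa [zpow_sub_one, mul_inv_eq_one] at this
    rw [hk1] at hk'
    -- the `J`-part of the conjugating element
    refine ⟨(c ^ n)⁻¹ * j' * c ^ n, by simpa using hJn.conj_mem _ hj' (c ^ n)⁻¹, mem_centralizer_singleton_iff.2 ?_⟩
    have e2 : j' * d * g * c * (j' * d * g)⁻¹ = c := by
      calc j' * d * g * c * (j' * d * g)⁻¹ = j' * d * (g * c * g⁻¹) * (j' * d)⁻¹ := by group
        _ = c := by rw [hjc, ← hk']
    rw [← hd]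
    calc d⁻¹ * j' * d * g * c = d⁻¹ * (j' * d * g * c * (j' * d * g)⁻¹) * (j' * d * g) := by group
      _ = d⁻¹ * c * (j' * d * g) := by rw [e2]
      _ = c * (d⁻¹ * j' * d * g) := by
        have : d⁻¹ * c = c * d⁻¹ := by
          calc d⁻¹ * c = d⁻¹ * (d * c * d⁻¹) := by rw [hdc]
            _ = c * d⁻¹ := by group
        rw [this]; group
  have hLrot : ∀ {l} (_ : l ∈ L), ∃ m : Fin 3, ∀ i, l * el i * l⁻¹ = el (i + m) := fun {l} hl => by
    obtain ⟨σ, hσ⟩ := hperm l
    have h := fin_rot_all σ fun i => helinj (by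
      rw [← hσ, ← hrot i, show l * (c * el i * c⁻¹) * l⁻¹ = l * c * el i * (l * c)⁻¹ by group,
        mem_centralizer_singleton_iff.1 hl, show c * l * el i * (c * l)⁻¹ = c * (l * el i * l⁻¹) * c⁻¹ by group,
        hσ, hrot])
    exact ⟨σ 0, fun i => by rw [hσ, h]⟩
  have hcrotn : ∀ (m i : Fin 3), c ^ (m : ℕ) * el i * (c ^ (m : ℕ))⁻¹ = el (i + m) := fun m i => by
    fin_cases m
    · simp
    · simpa using hrot i
    · simp only
      rw [pow_two, show c * c * el i * (c * c)⁻¹ = c * (c * el i * c⁻¹) * c⁻¹ by group, hrot, hrot, add_assoc]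
      rfl
  have hKc : ∀ g ∈ K0, ∃ j ∈ Jc, g * c * g⁻¹ = j * c := fun g hg => by
    obtain ⟨j, hj, e | e⟩ := hpush g
    · exact ⟨j, hj, e⟩
    · exfalso
      have h : g * c * g⁻¹ * el 0 * (g * c * g⁻¹)⁻¹ = el 1 := by
        rw [show g * c * g⁻¹ * el 0 * (g * c * g⁻¹)⁻¹ = g * (c * (g⁻¹ * el 0 * g⁻¹⁻¹) * c⁻¹) * g⁻¹ by group,
          (hK0 _).1 (inv_mem hg), hrot, (hK0 g).1 hg]
        rfl
      rw [e, show j * (c * c) * el 0 * (j * (c * c))⁻¹ = j * (c * (c * el 0 * c⁻¹) * c⁻¹) * j⁻¹ by group, hrot,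
        hrot, hJe hj] at h
      exact absurd (helinj h) (by decide)
  -- the image of the inner part is the inner index two subgroup
  let ρ : L →* A := π.comp L.subtype
  have hρker : ρ.ker = ν.ker := by
    ext ⟨x, hx⟩
    simp only [MonoidHom.mem_ker, hνker, ρ, MonoidHom.comp_apply, Subgroup.coe_subtype]
    constructor
    · intro h
      obtain ⟨j, hj, n, rfl⟩ := hmemk h
      have hcn : c ^ n ∈ L := pow_mem hcL n
      have hjL : j ∈ L := (mul_mem_cancel_right hcn).1 hx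
      rcases hfix j hj (by rw [← mem_centralizer_singleton_iff.1 hjL, mul_inv_cancel_right]) with h1 | h1
      · rw [h1, one_mul]; exact (le_sup_left : zpowers c ≤ _) (pow_mem (mem_zpowers c) n)
      · rw [h1]; exact mul_mem ((le_sup_right : zpowers zc ≤ _) (mem_zpowers zc))
          ((le_sup_left : zpowers c ≤ _) (pow_mem (mem_zpowers c) n))
    · intro h
      refine MonoidHom.mem_ker.1 (hker.symm ▸ (sup_le le_sup_right ?_ : zpowers c ⊔ zpowers zc ≤ Jc ⊔ zpowers c) h)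
      exact le_trans (zpowers_le.2 hzJ) le_sup_left
  let ι : ρ.range ≃* SU 4 F 2 := (QuotientGroup.quotientKerEquivRange ρ).symm.trans
    ((QuotientGroup.quotientMulEquivOfEq hρker).trans (QuotientGroup.quotientKerEquivOfSurjective ν hν))
  have cardN : Nat.card ρ.range = 25920 := by rw [Nat.card_congr ι.toEquiv, U6Cent.card_su_four hF]
  haveI : IsSimpleGroup ρ.range := ι.isSimpleGroup
  have cardI : Nat.card I = 25920 := by
    have h := I.index_mul_card
    rw [hI, hA] at h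
    omega
  have hNI : ρ.range = I := by
    refine eq_of_le_of_card_ge (subgroupOf_eq_top.1 ?_) (le_of_eq (cardI.trans cardN.symm))
    haveI : (I.subgroupOf ρ.range).Normal := inferInstance
    refine (Subgroup.Normal.eq_bot_or_eq_top (H := I.subgroupOf ρ.range) inferInstance).resolve_left fun h => ?_
    have h2 : I.relIndex ρ.range ∣ I.index := relIndex_dvd_index_of_normal _ _
    have h3 := (I.subgroupOf ρ.range).index_mul_card
    rw [h, card_bot, mul_one, cardN] at h3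
    rw [relIndex, h, h3, hI] at h2
    exact absurd (Nat.le_of_dvd two_pos h2) (by norm_num)
  -- into `G`
  let J : Subgroup G := Jc.map H.subtype
  let K : Subgroup G := K0.map H.subtype
  have hmemJ : ∀ (x : G) (hx : x ∈ H), x ∈ J ↔ (⟨x, hx⟩ : H) ∈ Jc := fun x hx =>
    mem_map_iff_mem H.subtype_injective (x := (⟨x, hx⟩ : H))
  have hmemK : ∀ (x : G) (hx : x ∈ H), x ∈ K ↔ (⟨x, hx⟩ : H) ∈ K0 := fun x hx =>
    mem_map_iff_mem H.subtype_injective (x := (⟨x, hx⟩ : H))
  have hJH : J ≤ H := map_subtype_le _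
  have hKH : K ≤ H := map_subtype_le _
  have hKπ : ∀ g ∈ K0, π g ∈ ρ.range := fun g hg => by
    obtain ⟨j, hj, hjg⟩ := hfrat g (hKc g hg)
    refine ⟨⟨j * g, hjg⟩, ?_⟩
    show π (j * g) = π g
    rw [map_mul, MonoidHom.mem_ker.1 (hker.symm ▸ (le_sup_left : Jc ≤ _) hj : j ∈ π.ker), one_mul]
  let ψ : K →* SU 4 F 2 := ι.toMonoidHom.comp
    ((π.comp (inclusion hKH)).codRestrict ρ.range fun g => hKπ _ ((hmemK g (hKH g.2)).1 g.2))
  have ψ_ker : ∀ g : K, ψ g = 1 ↔ (g : G) ∈ J := fun g => by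
    rw [hmemJ _ (hKH g.2)]
    simp only [ψ, MonoidHom.comp_apply, MulEquiv.coe_toMonoidHom, map_eq_one_iff ι ι.injective]
    rw [Subtype.ext_iff]
    show π ⟨g, hKH g.2⟩ = 1 ↔ _
    constructor
    · intro h
      obtain ⟨j, hj, n, hn⟩ := hmemk h
      have hgK := (hmemK g (hKH g.2)).1 g.2
      rw [hn] at hgK ⊢
      have h1 : c ^ (n % 3) ∈ K0 := by
        rw [← hpowc]; simpa using mul_mem (inv_mem (hJK0 hj)) hgK
      have h2 := helinj ((hcrotn ⟨n % 3, Nat.mod_lt _ (by norm_num)⟩ 0).symm.trans ((hK0 _).1 h1 0))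
      have h3 : n % 3 = 0 := by simpa using congrArg Fin.val h2
      rw [hpowc n, h3, pow_zero, mul_one]
      exact hj
    · exact fun h => MonoidHom.mem_ker.1 (hker.symm ▸ (le_sup_left : Jc ≤ _) h)
  have ψ_surj : Function.Surjective ψ := fun s => by
    obtain ⟨⟨l, hl⟩, e⟩ := (ι.symm s).2
    obtain ⟨m, hm⟩ := hLrot hl
    have hg : (c ^ (m : ℕ))⁻¹ * l ∈ K0 := fun i => by
      rw [show (c ^ (m : ℕ))⁻¹ * l * el i * ((c ^ (m : ℕ))⁻¹ * l)⁻¹ =
        (c ^ (m : ℕ))⁻¹ * (l * el i * l⁻¹) * c ^ (m : ℕ) by group, hm, ← hcrotn m i]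
      group
    refine ⟨⟨_, mem_map_of_mem H.subtype hg⟩, ?_⟩
    simp only [ψ, MonoidHom.comp_apply, MulEquiv.coe_toMonoidHom]
    rw [← ι.eq_symm_apply]
    refine Subtype.ext (Eq.trans ?_ e)
    show π ((c ^ (m : ℕ))⁻¹ * l) = π l
    rw [map_mul, map_inv, map_pow, hπc, one_pow, inv_one, one_mul]
  have hJK : J ≤ K := map_mono hJK0
  have cardJ : Nat.card J = 2048 := by
    rw [← Nat.card_congr (Jc.equivMapOfInjective H.subtype H.subtype_injective).toEquiv, hcardJc]
  have cardH : Nat.card H = 318504960 := by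
    have h := card_eq_card_quotient_mul_card_subgroup π.ker
    rw [Nat.card_congr (QuotientGroup.quotientKerEquivOfSurjective π hπ).toEquiv, hker, hcM, hA] at h
    rw [h]
  have cardK : Nat.card K = 53084160 := by
    have h := card_eq_card_quotient_mul_card_subgroup ψ.ker
    rw [Nat.card_congr (QuotientGroup.quotientKerEquivOfSurjective ψ ψ_surj).toEquiv, U6Cent.card_su_four hF,
      show ψ.ker = J.subgroupOf K from Subgroup.ext fun g => by
        rw [MonoidHom.mem_ker, mem_subgroupOf]; exact ψ_ker g,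
      Nat.card_congr (subgroupOfEquivOfLe hJK).toEquiv, cardJ] at h
    rw [h]
  -- an outer element
  obtain ⟨g₀, hg₀⟩ : ∃ g : H, π g ∉ ρ.range := by
    by_contra! hall
    have : I = ⊤ := eq_top_iff.2 fun a _ => by
      obtain ⟨g, rfl⟩ := hπ a
      exact hNI ▸ hall g
    rw [this, index_top] at hI
    norm_num at hI
  obtain ⟨j₀, hj₀, hg₀c⟩ : ∃ j ∈ Jc, g₀ * c * g₀⁻¹ = j * (c * c) := by
    obtain ⟨j, hj, e | e⟩ := hpush g₀
    · exfalso
      obtain ⟨j', hj', hL'⟩ := hfrat g₀ ⟨j, hj, e⟩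
      refine hg₀ ⟨⟨j' * g₀, hL'⟩, ?_⟩
      show π (j' * g₀) = π g₀
      rw [map_mul, MonoidHom.mem_ker.1 (hker.symm ▸ (le_sup_left : Jc ≤ _) hj' : j' ∈ π.ker), one_mul]
    · exact ⟨j, hj, e⟩
  obtain ⟨σ, hσ⟩ := hperm g₀
  have hσ2 : ∀ l, σ (l + 1) = σ l + 2 := fun l => helinj (by
    rw [← hσ, ← hrot l, show g₀ * (c * el l * c⁻¹) * g₀⁻¹ =
      g₀ * c * g₀⁻¹ * (g₀ * el l * g₀⁻¹) * (g₀ * c * g₀⁻¹)⁻¹ by group, hσ, hg₀c,
      show j₀ * (c * c) * el (σ l) * (j₀ * (c * c))⁻¹ = j₀ * (c * (c * el (σ l) * c⁻¹) * c⁻¹) * j₀⁻¹ by group,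
      hrot, hrot, hJe hj₀, add_assoc]
    rfl)
  have lift : ∀ {x y : H}, x = y → (x : G) = y := fun h => congrArg Subtype.val h
  refine ⟨{
    hF := hF, z := z, e := fun i => (el i : G), c := (c : G), J := J, K := K
    z_sq := by rw [← pow_two, ← hz, pow_orderOf_eq_one]
    z_ne := fun e => by rw [e, orderOf_one] at hz; norm_num at hz
    e_sq := fun i => lift (hZsq (helZ i))
    e_ne := fun i e => hel1 i (Subtype.ext e)
    e_ne_z := fun i e => helz i (Subtype.ext (e.trans hzc.symm))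
    e_inj := fun i j e => helinj (Subtype.ext e)
    e_mul := fun i => lift (helmul i)
    z_mem := hzc ▸ mem_map_of_mem H.subtype hzJ
    e_mem := fun i => mem_map_of_mem H.subtype (helZ i).1
    J_le := hJK, K_le := hH ▸ hKH
    J_normal := fun g hg x hx => by
      rw [← hH] at hg
      rw [hmemJ _ (mul_mem (mul_mem hg (hJH hx)) (inv_mem hg))]
      exact hJn.conj_mem _ ((hmemJ x (hJH hx)).1 hx) ⟨g, hg⟩
    K_normal := fun g hg x hx => by
      rw [← hH] at hg
      rw [hmemK _ (mul_mem (mul_mem hg (hKH hx)) (inv_mem hg))]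
      exact hK0n.conj_mem _ ((hmemK x (hKH hx)).1 hx) ⟨g, hg⟩
    card_J := cardJ, card_K := cardK, card_H := hH ▸ cardH
    e_central := fun i x hx => lift ((helZ i).2 _ ((hmemJ x (hJH hx)).1 hx)).symm
    K_cent := fun i k hk => mem_centralizer_singleton_iff.2
      (mul_inv_eq_iff_eq_mul.1 (lift ((hK0 _).1 ((hmemK k (hKH hk)).1 hk) i)))
    e_conj := fun g hg i => by
      rw [← hH] at hg
      obtain ⟨τ, hτ⟩ := hperm ⟨g, hg⟩
      exact ⟨τ i, lift (hτ i)⟩
    e_ker := fun g hg h => by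
      rw [← hH] at hg
      exact (hmemK g hg).2 fun i => Subtype.ext (h i)
    e_swap := fun i => by
      have hn : ∃ m : Fin 3, σ i + m = i := ⟨i - σ i, add_sub_cancel _ _⟩
      obtain ⟨m, hm⟩ := hn
      refine ⟨((c ^ (m : ℕ) * g₀ : H) : G), hH ▸ (c ^ (m : ℕ) * g₀).2,
        lift (x := c ^ (m : ℕ) * g₀ * el i * (c ^ (m : ℕ) * g₀)⁻¹) (y := el i) ?_,
        lift (x := c ^ (m : ℕ) * g₀ * el (i + 1) * (c ^ (m : ℕ) * g₀)⁻¹) (y := el (i + 2)) ?_⟩
      · rw [show c ^ (m : ℕ) * g₀ * el i * (c ^ (m : ℕ) * g₀)⁻¹ =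
          c ^ (m : ℕ) * (g₀ * el i * g₀⁻¹) * (c ^ (m : ℕ))⁻¹ by group, hσ, hcrotn, hm]
      · rw [show c ^ (m : ℕ) * g₀ * el (i + 1) * (c ^ (m : ℕ) * g₀)⁻¹ =
          c ^ (m : ℕ) * (g₀ * el (i + 1) * g₀⁻¹) * (c ^ (m : ℕ))⁻¹ by group, hσ, hcrotn,
          fin_flip_swap σ hσ2 i m hm]
    sq_or := fun x hx => (hsq _ ((hmemJ x (hJH hx)).1 hx)).imp (fun h => lift h) fun h => (lift h).trans hzc
    comm_or := fun x hx y hy => by
      set a : H := ⟨x, hJH hx⟩
      set b : H := ⟨y, hJH hy⟩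
      have e : a * b = ⁅a, b⁆ * (b * a) := by rw [commutatorElement_def]; group
      rcases hpairs a ((hmemJ x (hJH hx)).1 hx) b ((hmemJ y (hJH hy)).1 hy) with h | h <;> rw [h] at e
      · exact Or.inl (lift (e.trans (one_mul _)))
      · refine Or.inr ?_
        rw [← hzcen, mul_assoc] at e
        have := lift e
        simp only [coe_mul, hzc] at this
        rw [this, mul_assoc]
    center := fun x hx h => by
      rcases hcenter _ ((hmemJ x (hJH hx)).1 hx) (fun y hy => Subtype.ext (h y (mem_map_of_mem H.subtype hy)))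
        with e | e | ⟨i, e | e⟩
      · exact Or.inl (lift e)
      · exact Or.inr (Or.inl ((lift e).trans hzc))
      · exact Or.inr (Or.inr ⟨i, Or.inl (lift e)⟩)
      · refine Or.inr (Or.inr ⟨i, Or.inr ?_⟩)
        have := lift e
        simp only [coe_mul, hzc] at this
        exact this
    self_cent := fun x hx => by
      have hxH : x ∈ H := hH ▸ (mem_inf.1 hx).1
      refine mem_map_of_mem H.subtype (x := (⟨x, hxH⟩ : H)) (hCJ ?_)
      exact mem_centralizer_iff.2 fun y hy =>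
        Subtype.ext (mem_centralizer_iff.1 (mem_inf.1 hx).2 y (mem_map_of_mem H.subtype hy))
    c_mem := hH ▸ c.2
    c_pow := lift (show c ^ 3 = 1 from hc ▸ pow_orderOf_eq_one c)
    c_rot := fun i => lift (hrot i)
    c_cent := fun h hh => by
      obtain ⟨j, hj, e⟩ := hKc _ ((hmemK h (hKH hh)).1 hh)
      set u : H := ⟨h, hKH hh⟩
      have e' : c * u * c⁻¹ * u⁻¹ = j⁻¹ := by
        rw [show j = u * c * u⁻¹ * c⁻¹ by rw [e, mul_inv_cancel_right]]; group
      have hm : c * u * c⁻¹ * u⁻¹ ∈ Jc := e' ▸ inv_mem hj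
      exact mem_map_of_mem H.subtype hm
    c_fix := fun x hx h => (hfix _ ((hmemJ x (hJH hx)).1 hx) (Subtype.ext h)).imp (fun e => lift e)
      fun e => (lift e).trans hzc
    psi := ψ, psi_surj := ψ_surj, psi_ker := ψ_ker
    outer_faithful := fun g hg h => by
      rw [← hH] at hg
      have h1 : π ⟨g, hg⟩ = 1 := hfaith _ fun b hb => by
        obtain ⟨s, rfl⟩ := (hNI.symm ▸ hb : b ∈ ρ.range)
        obtain ⟨⟨x, hx⟩, e⟩ := ψ_surj (ι ⟨ρ s, s, rfl⟩)
        have hxe : π ⟨x, hKH hx⟩ = ρ s := congrArg Subtype.val (ι.injective e)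
        have := (hmemJ _ (mul_mem (mul_mem (mul_mem hg (hKH hx)) (inv_mem hg)) (inv_mem (hKH hx)))).1 (h x hx)
        have h3 := hπJ _ this
        rw [show (⟨g * x * g⁻¹ * x⁻¹, _⟩ : H) = ⟨g, hg⟩ * ⟨x, hKH hx⟩ * ⟨g, hg⟩⁻¹ * ⟨x, hKH hx⟩⁻¹ from rfl,
          map_mul, map_mul, map_mul, map_inv, map_inv, mul_inv_eq_one, mul_inv_eq_iff_eq_mul, hxe] at h3
        exact h3
      obtain ⟨j, hj, n, hn⟩ := hmemk h1
      have h3 : c ^ (n + 2 * n) = 1 := by
        rw [show n + 2 * n = 3 * n by ring, pow_mul, ← hc, pow_orderOf_eq_one, one_pow]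
      refine ⟨2 * n, (hmemJ _ (mul_mem hg (pow_mem c.2 _))).2 ?_⟩
      show (⟨g, hg⟩ : H) * c ^ (2 * n) ∈ Jc
      rw [hn, mul_assoc, ← pow_add, h3, mul_one]
      exact hj }, rfl⟩

end CfsgLib.Recog.Fi23Cent
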