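import Cfsg.Agent.Lib.Recog.Fi23Cent.U6Normal
import Cfsg.Agent.S0815

/-!
The third outcome: a normal four-group with quotient `Aut PSU₆(2)`.
-/

set_option autoImplicit false
set_option linter.unusedSectionVars false

namespace CfsgLib.Recog.Fi23Cent

open Subgroup Cfsg

universe u

variable {G : Type u} [Group G] [Finite G] {F : Type*} [Field F] [Fintype F]

namespace Setup

/-- **The outcome with `C(e i)` in the normaliser of `W`.** -/
theorem u6_branch (S : Setup G F) (D : FData S) (hD : S.IsoD) (hU : S.U6)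
    (htame : ∀ g, g * S.z * g⁻¹ ∈ centralizer ({S.z} : Set G) → S.Tame g) :
    ∃ (W : Subgroup G) (_ : W.Normal), Nat.card W = 4 ∧ (∀ w ∈ W, w ^ 2 = 1) ∧
      Nonempty ((G ⧸ W) ≃* MulAut (PSU 6 F 2)) := by
  classical
  have hWn : S.W.Normal := normalizer_eq_top_iff.1 (S.normalizer_W_eq_top hU htame hD)
  refine ⟨S.W, hWn, S.card_W_eq, fun w hw => by rw [pow_two, S.W_sq hw], ?_⟩
  set P := centralizer (S.W : Set G) with hP
  obtain ⟨π, hπ, hker⟩ := hU.2
  haveI : S.W.Normal := hWn
  haveI : P.Normal := inferInstance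
  have hF' : Fintype.card F = 2 ^ 2 := S.hF
  haveI : IsSimpleGroup (PSU 6 F 2) :=
    CfsgLib.Classical.isSimpleGroup_psu hF' (n := 6) (by norm_num) (by norm_num)
  haveI : Fact (Nat.Prime 2) := ⟨Nat.prime_two⟩
  have hgcd : Nat.gcd 6 (2 + 1) * (2 * 1) = 6 := by norm_num
  have hAut : Nat.card (MulAut (PSU 6 F 2)) = 6 * Nat.card (PSU 6 F 2) := by
    rw [← hgcd]
    exact Cfsg.Agent.S0815.result 2 1 le_rfl (q := 2) (by norm_num) hF' 6 (by norm_num) (by simp)
  -- conjugation on `C(W)/W`
  have hinv : ∀ g (a b : P), π a = π b → π (MulAut.conjNormal g a) = π (MulAut.conjNormal g b) := by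
    intro g a b h
    have h' : π (a * b⁻¹) = 1 := by rw [map_mul, map_inv, h, mul_inv_cancel]
    have h'' := hWn.conj_mem _ ((hker _).1 h') g
    have e : π (MulAut.conjNormal g (a * b⁻¹)) = 1 := (hker _).2 (by
      rw [MulAut.conjNormal_apply]; exact h'')
    rwa [map_mul, map_mul, map_inv, map_inv, mul_inv_eq_one] at e
  obtain ⟨σ, hσ⟩ := hπ.hasRightInverse
  let f : G → PSU 6 F 2 → PSU 6 F 2 := fun g q => π (MulAut.conjNormal g (σ q))
  have hf : ∀ g a, f g (π a) = π (MulAut.conjNormal g a) := fun g a => hinv g _ _ (hσ (π a))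
  let φ : G →* MulAut (PSU 6 F 2) :=
    MonoidHom.mk' (fun g =>
      { toFun := f g
        invFun := f g⁻¹
        left_inv := fun q => by
          obtain ⟨a, rfl⟩ := hπ q
          refine (congrArg (f g⁻¹) (hf g a)).trans ((hf g⁻¹ _).trans ?_)
          rw [← MulAut.mul_apply, ← map_mul, inv_mul_cancel, map_one, MulAut.one_apply]
        right_inv := fun q => by
          obtain ⟨a, rfl⟩ := hπ q
          refine (congrArg (f g) (hf g⁻¹ a)).trans ((hf g _).trans ?_)
          rw [← MulAut.mul_apply, ← map_mul, mul_inv_cancel, map_one, MulAut.one_apply]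
        map_mul' := fun p q => by
          obtain ⟨a, rfl⟩ := hπ p
          obtain ⟨b, rfl⟩ := hπ q
          rw [← map_mul, hf, hf, hf, map_mul, map_mul] })
      (fun g h => MulEquiv.ext fun q => by
        obtain ⟨a, rfl⟩ := hπ q
        show f (g * h) (π a) = f g (f h (π a))
        rw [hf (g * h), hf h, hf g, map_mul, MulAut.mul_apply])
  have hφ : ∀ g a, φ g (π a) = π (MulAut.conjNormal g a) := hf
  have hKP : S.K ≤ P := fun k hk => mem_centralizer_iff.2 fun w hw => by
    rcases S.mem_W.1 hw with rfl | ⟨i, rfl⟩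
    · rw [one_mul, mul_one]
    · exact (mem_centralizer_singleton_iff.1 (S.K_cent i hk)).symm
  have hk : φ.ker = S.W := by
    ext g
    constructor
    · intro hg
      have htriv : ∀ a : P, π (MulAut.conjNormal g a) = π a := fun a => by
        rw [← hφ, MonoidHom.mem_ker.1 hg]; rfl
      have hmod : ∀ a, a ∈ P → g * a * g⁻¹ * a⁻¹ ∈ S.W := fun a ha => by
        have h : π (MulAut.conjNormal g ⟨a, ha⟩ * (⟨a, ha⟩)⁻¹) = 1 := by
          rw [map_mul, map_inv, htriv, mul_inv_cancel]
        have h' := (hker _).1 h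
        rwa [coe_mul, coe_inv, MulAut.conjNormal_apply] at h'
      have hgH : g ∈ centralizer ({S.z} : Set G) := by
        rcases S.mem_W.1 (hmod _ (hKP (S.J_le S.z_mem))) with h | ⟨i, h⟩
        · exact mem_centralizer_singleton_iff.2 (mul_inv_eq_iff_eq_mul.1 (mul_inv_eq_one.1 h))
        · exfalso
          refine S.not_conj_d i (isConj_iff.2 ⟨g, ?_⟩)
          rw [d, S.z_e_comm]
          exact mul_inv_eq_iff_eq_mul.1 h
      have hgJ : g ∈ S.J := (D.act_one g hgH).1 fun v => by
        obtain ⟨x, hx, rfl⟩ := D.vec_surj v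
        have hw := hmod x (hKP (S.J_le hx))
        rw [← D.act_vec g hgH x hx, show g * x * g⁻¹ = g * x * g⁻¹ * x⁻¹ * x by group,
          D.vec_mul _ (S.W_le_J hw) x hx, D.vec_W hw, zero_add]
      have hgP : g ∈ P := hKP (S.J_le hgJ)
      refine (hker ⟨g, hgP⟩).1 ?_
      have hc : π ⟨g, hgP⟩ ∈ Subgroup.center (PSU 6 F 2) := mem_center_iff.2 fun q => by
        obtain ⟨a, rfl⟩ := hπ q
        have h := htriv a
        rw [show MulAut.conjNormal g a = ⟨g, hgP⟩ * a * (⟨g, hgP⟩ : P)⁻¹ from
          Subtype.ext (by rw [MulAut.conjNormal_apply]; rfl), map_mul, map_mul, map_inv] at h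
        exact (mul_inv_eq_iff_eq_mul.1 h).symm
      rcases (inferInstance : (Subgroup.center (PSU 6 F 2)).Normal).eq_bot_or_eq_top with h | h
      · rwa [h, mem_bot] at hc
      · exfalso
        have hzP : S.z ∈ P := hKP (S.J_le S.z_mem)
        obtain ⟨x, hx, y, hy, hxy⟩ : ∃ x ∈ S.J, ∃ y ∈ S.J, x * y ≠ y * x := by
          obtain ⟨x, hx, hv⟩ := D.vec_surj (fun _ => 1)
          have hne : D.vec x ≠ 0 := hv ▸ fun e => one_ne_zero (congrFun e 0)
          by_contra! h'
          exact hne ((D.vec_zero x hx).2 (h' x hx))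
        have hz := (S.comm_or x hx y hy).resolve_left hxy
        refine S.z_not_mem_W ?_
        have h1 : (π (⟨y, hKP (S.J_le hy)⟩ * ⟨x, hKP (S.J_le hx)⟩))⁻¹ *
            π (⟨x, hKP (S.J_le hx)⟩ * ⟨y, hKP (S.J_le hy)⟩) = 1 := by
          rw [inv_mul_eq_one, map_mul, map_mul]
          exact mem_center_iff.1 (h ▸ mem_top _) _
        rw [← map_inv, ← map_mul] at h1
        have h2 := (hker _).1 h1
        rwa [coe_mul, coe_inv, coe_mul, coe_mul, hz, inv_mul_cancel_left] at h2
    · intro hg
      refine MonoidHom.mem_ker.2 (MulEquiv.ext fun q => ?_)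
      obtain ⟨a, rfl⟩ := hπ q
      rw [hφ]
      refine congrArg π (Subtype.ext ?_)
      rw [MulAut.conjNormal_apply, mul_inv_eq_iff_eq_mul]
      exact mem_centralizer_iff.1 a.2 g hg
  -- the orders
  have hidx : 6 ≤ P.index := by
    set H := centralizer ({S.z} : Set G)
    have hPH : P ⊓ H = S.K := le_antisymm (fun g hg => S.e_ker g (mem_inf.1 hg).2 fun i => by
      rw [← mem_centralizer_iff.1 (mem_inf.1 hg).1 _ (S.e_mem_W i), mul_inv_cancel_right])
      (le_inf hKP S.K_le)
    have h := ((P ⊓ H).subgroupOf H).index_mul_card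
    rw [Nat.card_congr (subgroupOfEquivOfLe (inf_le_right : P ⊓ H ≤ H)).toEquiv, hPH, S.card_K,
      S.card_H] at h
    have h6 : P.relIndex H = 6 := by
      rw [← inf_relIndex_right, hPH]
      change S.K.relIndex H * _ = _ at h
      omega
    rw [← h6, ← relIndex_top_right]
    exact relIndex_le_of_le_right le_top (by rw [relIndex_top_right]; exact P.index_ne_zero_of_finite)
  have hcP : Nat.card P = 4 * Nat.card (PSU 6 F 2) := by
    have h := card_eq_card_quotient_mul_card_subgroup π.ker
    rw [Nat.card_congr (QuotientGroup.quotientKerEquivOfSurjective π hπ).toEquiv,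
      show π.ker = S.W.subgroupOf P from Subgroup.ext fun p => hker p,
      Nat.card_congr (subgroupOfEquivOfLe fun w hw => mem_centralizer_iff.2 fun v hv =>
        S.W_comm_W hv hw).toEquiv, S.card_W_eq] at h
    linarith only [h]
  have hG : Nat.card (MulAut (PSU 6 F 2)) ≤ Nat.card (G ⧸ S.W) := by
    have h1 := card_eq_card_quotient_mul_card_subgroup S.W
    have h2 := P.index_mul_card
    rw [hcP] at h2
    rw [S.card_W_eq] at h1
    rw [hAut]
    have := Nat.mul_le_mul_right (4 * Nat.card (PSU 6 F 2)) hidx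
    rw [h2] at this
    omega
  let ψ : (G ⧸ S.W) →* MulAut (PSU 6 F 2) := QuotientGroup.lift S.W φ hk.ge
  have hinj : Function.Injective ψ := by
    rw [← MonoidHom.ker_eq_bot_iff, eq_bot_iff]
    intro q hq
    induction q using QuotientGroup.induction_on with
    | _ g => exact (QuotientGroup.eq_one_iff g).2 (hk ▸ hq)
  haveI : Finite (MulAut (PSU 6 F 2)) := by
    refine Nat.finite_of_card_ne_zero ?_
    rw [hAut]
    exact mul_ne_zero (by norm_num) Nat.card_pos.ne'
  have := Fintype.ofFinite (MulAut (PSU 6 F 2))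
  exact ⟨MulEquiv.ofBijective ψ (Function.Injective.bijective_of_nat_card_le hinj hG)⟩

end Setup

end CfsgLib.Recog.Fi23Cent
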