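import Cfsg.Agent.Lib.Recog.Fi23Cent.Loc
import Cfsg.Agent.Lib.Invol.BrauerSuzuki
import Cfsg.Agent.Lib.Coprime.Generation

/-!
When the centralisers of the `e i` normalise `W` and the `d i` are isolating, `W` is normal: each of
`z` and `e i` fixes one point of the cosets of `N(W)`, and so would a maximal two-subgroup fixing two.
-/

set_option autoImplicit false
set_option linter.unusedSectionVars false

namespace CfsgLib.Recog.Fi23Cent

open Subgroup Cfsg

universe u

theorem invert_left {H : Type*} [Group H] {a b : H} (ha : a * a = 1) (hb : b * b = 1) :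
    a * (a * b) * a⁻¹ = (a * b)⁻¹ := by
  rw [mul_inv_rev, inv_eq_of_mul_eq_one_right ha, inv_eq_of_mul_eq_one_right hb, ← mul_assoc, ha,
    one_mul]

theorem invert_right {H : Type*} [Group H] {a b : H} (ha : a * a = 1) (hb : b * b = 1) :
    b * (a * b) * b⁻¹ = (a * b)⁻¹ := by
  rw [mul_inv_rev, inv_eq_of_mul_eq_one_right ha, inv_eq_of_mul_eq_one_right hb, mul_assoc,
    mul_assoc, hb, mul_one]

variable {G : Type u} [Group G] [Finite G] {F : Type*} [Field F] [Fintype F]

namespace Setup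

variable (S : Setup G F)

theorem W_finite_normalizer {a : G} (h : ∀ w ∈ S.W, a * w * a⁻¹ ∈ S.W) :
    a ∈ normalizer (S.W : Set G) :=
  mem_normalizer_iff.2 fun w => ⟨h w, fun hw => by
    have hmap : S.W.map (MulAut.conj a).toMonoidHom = S.W := by
      refine eq_of_le_of_card_ge ?_ (le_of_eq ?_)
      · rintro _ ⟨v, hv, rfl⟩; exact h v hv
      · exact Nat.card_congr (S.W.equivMapOfInjective _ (MulAut.conj a).injective).toEquiv
    rw [← hmap] at hw
    obtain ⟨v, hv, e⟩ := hw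
    rwa [← (MulAut.conj a).injective e]⟩

theorem cent_le_normalizer : centralizer ({S.z} : Set G) ≤ normalizer (S.W : Set G) :=
  fun _ ha => S.W_finite_normalizer fun _ hw => S.W_conj ha hw

theorem cent_e_le_normalizer (hU : S.U6) (i : Fin 3) :
    centralizer ({S.e i} : Set G) ≤ normalizer (S.W : Set G) :=
  fun _ ha => S.W_finite_normalizer fun w hw => hU.1 i _ ha w hw

theorem normalizer_e {a : G} (ha : a ∈ normalizer (S.W : Set G)) (i : Fin 3) :
    ∃ k, a * S.e i * a⁻¹ = S.e k := by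
  rcases S.mem_W.1 ((mem_normalizer_iff.1 ha _).1 (S.e_mem_W i)) with h | h
  · exact absurd (conj_eq_one_iff.1 h) (S.e_ne i)
  · exact h

theorem W_comm_W {v w : G} (hv : v ∈ S.W) (hw : w ∈ S.W) : v * w = w * v :=
  S.W_comm hw (S.W_le_J hv)

theorem W_sq {w : G} (hw : w ∈ S.W) : w * w = 1 := by
  rcases S.mem_W.1 hw with rfl | ⟨i, rfl⟩
  exacts [one_mul 1, S.e_sq i]

theorem card_W_eq : Nat.card S.W = 4 := by
  classical
  have h : (S.W : Set G) = insert 1 (Set.range S.e) := by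
    ext x
    simp only [SetLike.mem_coe, S.mem_W, Set.mem_insert_iff, Set.mem_range, eq_comm]
  rw [show Nat.card S.W = Nat.card ((S.W : Set G) : Set G) from rfl, Nat.card_coe_set_eq, h,
    Set.ncard_insert_of_notMem (by rintro ⟨i, hi⟩; exact S.e_ne i hi) (Set.toFinite _),
    ← Nat.card_coe_set_eq, Nat.card_congr (Equiv.ofInjective S.e S.e_inj).symm, Nat.card_fin]

theorem W_not_cyclic : ¬ IsCyclic S.W := by
  intro h
  obtain ⟨⟨g, hg⟩, hgen⟩ := h.exists_generator
  have hc := S.card_W_eq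
  rw [← orderOf_eq_card_of_forall_mem_zpowers hgen, Subgroup.orderOf_mk] at hc
  have h2 : orderOf g ∣ 2 := orderOf_dvd_of_pow_eq_one (by rw [pow_two, S.W_sq hg])
  rw [hc] at h2
  norm_num at h2

/-- A two-subgroup of `N(W)` is conjugate in it into a Sylow subgroup in the stabiliser of `e i`. -/
theorem exists_conj_stab (i : Fin 3) {P : Subgroup G} (hP : P ≤ normalizer (S.W : Set G))
    (h2 : IsPGroup 2 P) : ∃ m ∈ normalizer (S.W : Set G), ∀ x ∈ P, m⁻¹ * x * m ∈ S.Stab i := by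
  haveI : Fact (Nat.Prime 2) := ⟨Nat.prime_two⟩
  obtain ⟨T, hTS, -, -, -⟩ := S.exists_sylow i
  set N := normalizer (S.W : Set G)
  have hTN : (T : Subgroup G) ≤ N := hTS.trans (inf_le_left.trans S.cent_le_normalizer)
  obtain ⟨Q, hQ⟩ := (h2.comap_of_injective N.subtype N.subtype_injective).exists_le_sylow
  obtain ⟨k, hk⟩ := MulAction.exists_smul_eq N Q (T.subtype hTN)
  refine ⟨(k : G)⁻¹, inv_mem k.2, fun x hx => ?_⟩
  have h1 : k * ⟨x, hP hx⟩ * k⁻¹ ∈ ((k • Q : Sylow 2 N) : Subgroup N) := ⟨⟨x, hP hx⟩, hQ hx, rfl⟩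
  rw [hk] at h1
  rw [inv_inv]
  exact hTS h1

theorem exists_conj_invol (i : Fin 3) {x : G} (hx : x ∈ normalizer (S.W : Set G)) (hxx : x * x = 1) :
    ∃ m ∈ normalizer (S.W : Set G), m⁻¹ * x * m ∈ S.Stab i := by
  haveI : Fact (Nat.Prime 2) := ⟨Nat.prime_two⟩
  have hp : IsPGroup 2 (zpowers x) := by
    obtain ⟨j, -, hj⟩ := (Nat.dvd_prime_pow Nat.prime_two).1
      (show orderOf x ∣ 2 ^ 1 from orderOf_dvd_of_pow_eq_one (by rw [pow_one, pow_two, hxx]))
    exact IsPGroup.of_card (n := j) (by rw [Nat.card_zpowers, hj])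
  obtain ⟨m, hm, h⟩ := S.exists_conj_stab i (zpowers_le.2 hx) hp
  exact ⟨m, hm, h x (mem_zpowers x)⟩

variable (hU : S.U6) (htame : ∀ g, g * S.z * g⁻¹ ∈ centralizer ({S.z} : Set G) → S.Tame g)
include hU htame

/-- `z` fixes only one point of the cosets of `N(W)`. -/
theorem fix_z {g : G} (h : g⁻¹ * S.z * g ∈ normalizer (S.W : Set G)) :
    g ∈ normalizer (S.W : Set G) := by
  set N := normalizer (S.W : Set G)
  obtain ⟨m, hm, hmH⟩ := S.exists_conj_invol 0 h (by
    rw [show g⁻¹ * S.z * g * (g⁻¹ * S.z * g) = g⁻¹ * (S.z * S.z) * g by group, S.z_sq]; group)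
  have hg' : (g * m)⁻¹ * S.z * (g * m)⁻¹⁻¹ ∈ centralizer ({S.z} : Set G) := by
    rw [show (g * m)⁻¹ * S.z * (g * m)⁻¹⁻¹ = m⁻¹ * (g⁻¹ * S.z * g) * m by group]
    exact (mem_inf.1 hmH).1
  suffices hgm : g * m ∈ N by
    have := mul_mem hgm (inv_mem hm)
    rwa [mul_inv_cancel_right] at this
  rcases htame _ hg' with h' | ⟨i, j, hij⟩
  · have := inv_mem (S.cent_le_normalizer h')
    rwa [inv_inv] at this
  · rw [inv_inv] at hij
    set k := g * m
    set w := S.c ^ ((i - j : Fin 3) : ℕ)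
    have hw := S.c_rot_fin (i - j) j
    rw [add_sub_cancel] at hw
    have hwk : w * k ∈ centralizer ({S.e i} : Set G) := by
      refine mem_centralizer_singleton_iff.2 (mul_inv_eq_iff_eq_mul.1 ?_)
      calc w * k * S.e i * (w * k)⁻¹ = w * (k * S.e i * k⁻¹) * w⁻¹ := by group
        _ = S.e i := by rw [hij, hw]
    have := mul_mem (inv_mem (S.cent_le_normalizer (S.c_pow_mem ((i - j : Fin 3) : ℕ))))
      (S.cent_e_le_normalizer hU i hwk)
    rwa [inv_mul_cancel_left] at this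

/-- A conjugate of `z` in `N(W)` is one under `N(W)`. -/
theorem mem_of_z {g : G} (h : g * S.z * g⁻¹ ∈ normalizer (S.W : Set G)) :
    g ∈ normalizer (S.W : Set G) := by
  have := inv_mem (S.fix_z hU htame (g := g⁻¹) (by rwa [inv_inv]))
  rwa [inv_inv] at this

/-- An element `e i` fixes only one point. -/
theorem fix_e {g : G} (i : Fin 3) (h : g⁻¹ * S.e i * g ∈ normalizer (S.W : Set G)) :
    g ∈ normalizer (S.W : Set G) := by
  set N := normalizer (S.W : Set G)
  obtain ⟨m, hm, hmH⟩ := S.exists_conj_invol 0 h (by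
    rw [show g⁻¹ * S.e i * g * (g⁻¹ * S.e i * g) = g⁻¹ * (S.e i * S.e i) * g by group, S.e_sq]
    group)
  have hz := mem_centralizer_singleton_iff.1 (mem_inf.1 hmH).1
  have hc : g * m * S.z * (g * m)⁻¹ ∈ centralizer ({S.e i} : Set G) := by
    refine mem_centralizer_singleton_iff.2 ?_
    calc g * m * S.z * (g * m)⁻¹ * S.e i
        = g * m * (S.z * (m⁻¹ * (g⁻¹ * S.e i * g) * m)) * (g * m)⁻¹ := by group
      _ = g * m * (m⁻¹ * (g⁻¹ * S.e i * g) * m * S.z) * (g * m)⁻¹ := by rw [hz]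
      _ = S.e i * (g * m * S.z * (g * m)⁻¹) := by group
  have hgm := S.mem_of_z hU htame (S.cent_e_le_normalizer hU i hc)
  have := mul_mem hgm (inv_mem hm)
  rwa [mul_inv_cancel_right] at this

variable (hD : S.IsoD)
include hD

/-- A conjugate of `z` centralising some `d i` lies in `N(W)`. -/
theorem cent_d_le (i : Fin 3) : centralizer ({S.d i} : Set G) ≤ normalizer (S.W : Set G) := by
  set C := centralizer ({S.d i} : Set G)
  set N := normalizer (S.W : Set G)
  have hWC : S.W ≤ C := fun w hw =>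
    mem_centralizer_singleton_iff.2 (S.d_central i w (S.W_le_J hw))
  have hzC : S.z ∈ C := mem_centralizer_singleton_iff.2 (S.d_central i _ S.z_mem)
  have hiso : IsIsolatedInvolution (⟨S.z, hzC⟩ : C) := by
    refine ⟨by rw [Subgroup.orderOf_mk]; exact orderOf_eq_prime (by rw [pow_two, S.z_sq]) S.z_ne,
      fun a ha => Subtype.ext ?_⟩
    exact hD i a a.2 (congrArg Subtype.val ha.eq).symm
  set O := (oddCore C).map C.subtype
  have hON : O ≤ N := by
    have hodd : Odd (Nat.card O) := by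
      rw [← Nat.card_congr ((oddCore C).equivMapOfInjective C.subtype C.subtype_injective).toEquiv]
      exact CfsgLib.Invol.odd_card_oddCore C
    have hWn : S.W ≤ normalizer (O : Set G) := fun w hw => mem_normalizer_iff.2 fun x => by
      have key : ∀ v ∈ S.W, ∀ y ∈ O, v * y * v⁻¹ ∈ O := by
        rintro v hv _ ⟨y, hy, rfl⟩
        haveI : (oddCore C).Normal := inferInstance
        exact ⟨⟨v, hWC hv⟩ * y * (⟨v, hWC hv⟩)⁻¹, this.conj_mem y hy _, rfl⟩
      refine ⟨key w hw x, fun hx => ?_⟩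
      have := key _ (inv_mem hw) _ hx
      simpa [mul_assoc] using this
    have hcop : (Nat.card S.W).Coprime (Nat.card O) := by
      rw [S.card_W_eq, show (4 : ℕ) = 2 ^ 2 from rfl]
      exact Nat.Coprime.pow_left 2 (Nat.coprime_two_left.2 hodd)
    rw [← CfsgLib.Coprime.iSup_centralizer_eq
      ⟨⟨fun a b => Subtype.ext (S.W_comm_W a.2 b.2)⟩⟩ S.W_not_cyclic hWn hcop]
    refine iSup_le fun ⟨a, ha, ha1⟩ => ?_
    rcases S.mem_W.1 ha with rfl | ⟨j, rfl⟩
    · exact absurd rfl ha1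
    · exact inf_le_right.trans (S.cent_e_le_normalizer hU j)
  intro g hg
  obtain ⟨o, ho, hoe⟩ : ∃ o ∈ oddCore C, o = ⟨S.z, hzC⟩ * ⟨g, hg⟩ * (⟨S.z, hzC⟩)⁻¹ * (⟨g, hg⟩)⁻¹ :=
    ⟨_, CfsgLib.Invol.zstar C hiso ⟨g, hg⟩, rfl⟩
  have hoN : (o : G) ∈ N := hON ⟨o, ho, rfl⟩
  refine S.mem_of_z hU htame ?_
  have e : g * S.z * g⁻¹ = S.z * (o : G) := by
    rw [hoe]
    show g * S.z * g⁻¹ = S.z * (S.z * g * S.z⁻¹ * g⁻¹)
    rw [← mul_assoc, ← mul_assoc, ← mul_assoc, S.z_sq, one_mul, S.z_inv]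
  rw [e]
  exact mul_mem (S.cent_le_normalizer (mem_centralizer_singleton_iff.2 rfl)) hoN

/-- **`W` is normal.** -/
theorem normalizer_W_eq_top : normalizer (S.W : Set G) = ⊤ := by
  classical
  haveI : Fact (Nat.Prime 2) := ⟨Nat.prime_two⟩
  set N := normalizer (S.W : Set G)
  by_contra hne
  obtain ⟨g₀, hg₀⟩ : ∃ g, g ∉ N := by
    by_contra! h
    exact hne (eq_top_iff.2 fun x _ => h x)
  -- a largest two-subgroup fixing two points
  let Bad : Subgroup G → Prop := fun R => IsPGroup 2 R ∧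
    ∃ a b, a⁻¹ * b ∉ N ∧ ∀ x ∈ R, a⁻¹ * x * a ∈ N ∧ b⁻¹ * x * b ∈ N
  have h0 : Bad ⊥ := ⟨IsPGroup.of_card (n := 0) (by simp), 1, g₀, by simpa using hg₀,
    fun x hx => by rw [mem_bot.1 hx]; simp [one_mem]⟩
  haveI : Nonempty {R : Subgroup G // Bad R} := ⟨⟨⊥, h0⟩⟩
  obtain ⟨⟨R₁, hR₁p, a, b₁, hab, hR₁⟩, hmax⟩ :=
    Finite.exists_max fun R : {R : Subgroup G // Bad R} => Nat.card R.1
  -- move the first point to the base, the subgroup into the stabiliser of `e 0`
  set R₂ := R₁.map (MulAut.conj a⁻¹).toMonoidHom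
  obtain ⟨m, hm, hmT⟩ := S.exists_conj_stab 0 (P := R₂) (by
    rintro _ ⟨x, hx, rfl⟩; simpa [mul_assoc] using (hR₁ x hx).1) (hR₁p.map _)
  set R := R₁.map (MulAut.conj (a * m)⁻¹).toMonoidHom
  have hcard : Nat.card R = Nat.card R₁ :=
    (Nat.card_congr (R₁.equivMapOfInjective _ (MulAut.conj (a * m)⁻¹).injective).toEquiv).symm
  have hRS : R ≤ S.Stab 0 := by
    rintro _ ⟨x, hx, rfl⟩
    have := hmT _ ⟨x, hx, rfl⟩
    simpa [mul_assoc] using this
  set b := (a * m)⁻¹ * b₁
  have hbN : b ∉ N := fun h => hab (by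
    have h' := mul_mem hm h
    simpa [b, mul_assoc] using h')
  have hRb : ∀ x ∈ R, b⁻¹ * x * b ∈ N := by
    rintro _ ⟨x, hx, rfl⟩
    simpa [b, mul_assoc] using (hR₁ x hx).2
  obtain ⟨m', hm', hm'T⟩ := S.exists_conj_stab 0 (P := R.map (MulAut.conj b⁻¹).toMonoidHom) (by
    rintro _ ⟨x, hx, rfl⟩; simpa [mul_assoc] using hRb x hx) ((hR₁p.map _).map _)
  set c := b * m'
  have hcN : c ∉ N := fun h => hbN (by
    have := mul_mem h (inv_mem hm')
    simpa [c, mul_assoc] using this)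
  -- the two central involutions
  set x := c * S.z * c⁻¹
  set y := S.e 0
  have hxx : x * x = 1 := by
    simp only [x]
    rw [show c * S.z * c⁻¹ * (c * S.z * c⁻¹) = c * (S.z * S.z) * c⁻¹ by group, S.z_sq]; group
  have hyy : y * y = 1 := S.e_sq 0
  have hyR : ∀ r ∈ R, r * y = y * r := fun r hr =>
    mem_centralizer_singleton_iff.1 (mem_inf.1 (hRS hr)).2
  have hxR : ∀ r ∈ R, r * x = x * r := fun r hr => by
    have h1 := hm'T _ ⟨r, hr, rfl⟩
    have h2 : c⁻¹ * r * c * S.z = S.z * (c⁻¹ * r * c) := by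
      have h3 := mem_centralizer_singleton_iff.1 (mem_inf.1 h1).1
      simpa [c, mul_assoc] using h3
    calc r * x = c * (c⁻¹ * r * c * S.z) * c⁻¹ := by simp only [x]; group
      _ = x * r := by rw [h2]; simp only [x]; group
  have hsR : ∀ r ∈ R, ∀ k : ℕ, r * (x * y) ^ k = (x * y) ^ k * r := fun r hr k =>
    ((Commute.mul_right (hxR r hr : Commute r x) (hyR r hr : Commute r y)).pow_right k).eq
  obtain ⟨e, l, hl, hn⟩ := Nat.exists_eq_two_pow_mul_odd (n := orderOf (x * y))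
    (orderOf_pos _).ne'
  obtain ⟨k, rfl⟩ := hl
  set σ := (x * y) ^ (2 * k + 1)
  -- `σ` lies in `R`, else the larger two-subgroup fixes one point, fixed by `x` and `y`
  have hσ : σ ∈ R := by
    by_contra hσ
    set R' := R ⊔ zpowers σ
    have hσp : IsPGroup 2 (zpowers σ) := by
      obtain ⟨j, -, hj⟩ := (Nat.dvd_prime_pow Nat.prime_two).1 (show orderOf σ ∣ 2 ^ e from
        orderOf_dvd_of_pow_eq_one (by rw [← pow_mul, mul_comm, ← hn, pow_orderOf_eq_one]))
      exact IsPGroup.of_card (n := j) (by rw [Nat.card_zpowers, hj])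
    have hp : IsPGroup 2 R' := (hR₁p.map _).to_sup_of_normal_left' hσp (zpowers_le.2 (by
      refine mem_normalizer_iff.2 fun r => ?_
      constructor
      · intro hr
        rw [← hsR r hr, mul_inv_cancel_right]; exact hr
      · intro hr
        have h := hsR _ hr (2 * k + 1)
        rw [inv_mul_cancel_right] at h
        have : σ * r * σ⁻¹ = r := mul_left_cancel h.symm
        rwa [this] at hr))
    obtain ⟨T, -, -, -, -⟩ := S.exists_sylow 0
    obtain ⟨s, hs⟩ : ∃ s : G, ∀ r ∈ R', s⁻¹ * r * s ∈ N := by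
      obtain ⟨T, hTS, -, -, -⟩ := S.exists_sylow 0
      obtain ⟨Q, hQ⟩ := hp.exists_le_sylow
      obtain ⟨s, hs⟩ := MulAction.exists_smul_eq G Q T
      refine ⟨s⁻¹, fun r hr => S.cent_le_normalizer ?_⟩
      have h1 : s * r * s⁻¹ ∈ ((s • Q : Sylow 2 G) : Subgroup G) := ⟨r, hQ hr, rfl⟩
      rw [hs] at h1
      rw [inv_inv]
      exact (mem_inf.1 (hTS h1)).1
    have hlt : Nat.card R < Nat.card R' := by
      refine lt_of_le_of_ne (Subgroup.card_le_of_le le_sup_left) fun he => hσ ?_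
      have := eq_of_le_of_card_ge (le_sup_left : R ≤ R') he.ge
      exact this ▸ (le_sup_right : zpowers σ ≤ R') (mem_zpowers σ)
    have hxi : x⁻¹ = x := inv_eq_of_mul_eq_one_right hxx
    have hmove : ∀ u : G, u * u = 1 → (∀ r ∈ R, r * u = u * r) → u * σ * u⁻¹ = σ⁻¹ →
        s⁻¹ * u * s ∈ N := by
      intro u huu huR huσ
      by_contra hu
      have hnorm : ∀ r ∈ R', u * r * u⁻¹ ∈ R' := fun r hr => by
        have hle : R' ≤ R'.comap (MulAut.conj u).toMonoidHom := by
          refine sup_le (fun q hq => ?_) (zpowers_le.2 ?_)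
          · show u * q * u⁻¹ ∈ R'
            rw [← huR q hq, mul_inv_cancel_right]
            exact (le_sup_left : R ≤ R') hq
          · show u * σ * u⁻¹ ∈ R'
            rw [huσ]
            exact inv_mem ((le_sup_right : zpowers σ ≤ R') (mem_zpowers σ))
        exact hle hr
      have hbad : Bad R' := ⟨hp, s, u * s, by rwa [← mul_assoc], fun r hr => ⟨hs r hr, by
        have := hs _ (hnorm r hr)
        rw [inv_eq_of_mul_eq_one_right huu] at this
        rw [mul_inv_rev, inv_eq_of_mul_eq_one_right huu]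
        simpa [mul_assoc] using this⟩⟩
      have := hmax ⟨R', hbad⟩
      simp only at this
      omega
    have hconj : ∀ u : G, u * u = 1 → u * (x * y) * u⁻¹ = (x * y)⁻¹ → u * σ * u⁻¹ = σ⁻¹ :=
      fun u _ h => by rw [← inv_pow, ← h, conj_pow]
    have hx' := hmove x hxx hxR (hconj x hxx (invert_left hxx hyy))
    have hy' := hmove y hyy hyR (hconj y hyy (invert_right hxx hyy))
    have hsN : s ∈ N := S.fix_e hU htame 0 hy'
    refine hcN ?_
    have h1 : s⁻¹ * c * S.z * (s⁻¹ * c)⁻¹ ∈ N := by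
      rw [show s⁻¹ * c * S.z * (s⁻¹ * c)⁻¹ = s⁻¹ * x * s by simp only [x]; group]
      exact hx'
    have := mul_mem hsN (S.mem_of_z hU htame h1)
    rwa [mul_inv_cancel_left] at this
  -- so an element of `R` is a conjugate of some `d j`
  set w := (x * y) ^ k
  set n := w * x
  have hxσ : σ * x = x * σ := hxR σ hσ
  have hn' : n⁻¹ * x * n = σ * y := by
    have hxi : x⁻¹ = x := inv_eq_of_mul_eq_one_right hxx
    have hwi : x * w * x⁻¹ = w⁻¹ := by
      simp only [w]
      rw [← inv_pow, ← conj_pow, invert_left hxx hyy]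
    have e1 : σ = w * w * (x * y) := by
      simp only [σ, w]; rw [← pow_add, ← pow_succ]; congr 1; omega
    have e2 : w⁻¹ * x * w = x * (w * w) := by
      rw [← hwi, hxi, mul_assoc (x * w) x x, hxx, mul_one, mul_assoc]
    calc n⁻¹ * x * n = x⁻¹ * (w⁻¹ * x * w) * x := by simp only [n]; group
      _ = x * (x * (w * w)) * x := by rw [hxi, e2]
      _ = x * x * (w * w) * x := by group
      _ = w * w * x * (y * y) := by rw [hxx, hyy, one_mul, mul_one]
      _ = w * w * (x * y) * y := by group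
      _ = σ * y := by rw [← e1]
  set h := n⁻¹ * c
  have hσN : σ ∈ N := S.cent_le_normalizer (mem_inf.1 (hRS hσ)).1
  have hyN : y ∈ N := S.cent_le_normalizer (S.J_cent (S.e_mem 0))
  have hh : h ∈ N := S.mem_of_z hU htame (by
    rw [show h * S.z * h⁻¹ = n⁻¹ * x * n by simp only [h, x]; group, hn']
    exact mul_mem hσN hyN)
  obtain ⟨j, hj⟩ := S.normalizer_e (inv_mem hh) 0
  rw [inv_inv] at hj
  have hσd : σ = h * S.d j * h⁻¹ := by
    calc σ = σ * y * y := by rw [mul_assoc, hyy, mul_one]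
      _ = h * S.z * h⁻¹ * y := by rw [← hn']; simp only [h, x]; group
      _ = h * (S.z * (h⁻¹ * y * h)) * h⁻¹ := by group
      _ = h * S.d j * h⁻¹ := by rw [d, ← hj]
  -- which is centralised by `x`
  refine hcN ?_
  have hc' : h⁻¹ * c * S.z * (h⁻¹ * c)⁻¹ ∈ centralizer ({S.d j} : Set G) := by
    refine mem_centralizer_singleton_iff.2 ?_
    calc h⁻¹ * c * S.z * (h⁻¹ * c)⁻¹ * S.d j = h⁻¹ * (x * (h * S.d j * h⁻¹)) * h := by
          simp only [x]; group
      _ = h⁻¹ * (h * S.d j * h⁻¹ * x) * h := by rw [← hσd, hxσ]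
      _ = S.d j * (h⁻¹ * c * S.z * (h⁻¹ * c)⁻¹) := by simp only [x]; group
  have := mul_mem hh (S.mem_of_z hU htame (S.cent_d_le hU htame hD j hc'))
  rwa [mul_inv_cancel_left] at this

end Setup

end CfsgLib.Recog.Fi23Cent
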